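/-
Project DG9 (S3645): definitions and the statements of the parts.
-/
import Cfsg.Statements.S3645
import Cfsg.Agent.Blk.DegOrdB
import Cfsg.Agent.Blk.CrossPO
import Cfsg.Agent.Blk.LThreeA
import Cfsg.Agent.Loc.CFunTransfer
import Cfsg.Agent.Even.Amb

set_option autoImplicit false

namespace CL.DG9

open Cfsg Subgroup CL.Grp CL.Loc CL.Even CL.Char
open scoped commutatorElement

universe u

/-! ### The lists -/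

def NAS (T : Type*) [Group T] : Prop := IsSimpleGroup T ∧ ¬ IsMulCommutative T

def L2 (T : Type*) [Group T] (q : ℕ) : Prop := ∃ (F : Type) (_ : Field F) (_ : Fintype F),
  Fintype.card F = q ∧ Nonempty (T ≃* Matrix.ProjectiveSpecialLinearGroup (Fin 2) F)

def U3 (T : Type*) [Group T] (q : ℕ) : Prop := ∃ (F : Type) (_ : Field F) (_ : Fintype F),
  Fintype.card F = q ^ 2 ∧ Nonempty (T ≃* PSU 3 F q)

def SzI (T : Type*) [Group T] (m : ℕ) : Prop := ∃ (F : Type) (_ : Field F) (_ : Fintype F),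
  Fintype.card F = 2 ^ (2 * m + 1) ∧ Nonempty (T ≃* ↥(Lie.Sz F (2 ^ (m + 1))))

/-- the orders of `L₃(q)`, `PSp₄(2ⁿ)`, `Sz(q)`, `²G₂(q)`, `A₇`, `M₁₁`, `J₁`, `G₂(3)` -/
def Oth (m : ℕ) : Prop :=
  (∃ q, 2 ≤ q ∧ m * Nat.gcd 3 (q - 1) = q ^ 3 * (q ^ 2 - 1) * (q ^ 3 - 1)) ∨
  (∃ q, 2 ≤ q ∧ m = q ^ 4 * (q ^ 2 - 1) * (q ^ 4 - 1)) ∨
  (∃ k, 1 ≤ k ∧ m = (2 ^ (2 * k + 1)) ^ 2 * ((2 ^ (2 * k + 1)) ^ 2 + 1) * (2 ^ (2 * k + 1) - 1)) ∨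
  (∃ k, 1 ≤ k ∧ m = (3 ^ (2 * k + 1)) ^ 3 * ((3 ^ (2 * k + 1)) ^ 3 + 1) * (3 ^ (2 * k + 1) - 1)) ∨
  m = 2520 ∨ m = 7920 ∨ m = 175560 ∨ m = 4245696

def Lst (T : Type*) [Group T] : Prop := (∃ q, L2 T q) ∨ (∃ q, U3 T q) ∨ Oth (Nat.card T)

def CL2 : Prop := ∀ (T : Type u) [Group T] [Finite T] (S : Subgroup T), NAS T → IsSylowIn 2 S ⊤ →
  ⁅S, S⁆ ≤ 𝒞(S) → Lst T

def RK2 : Prop := ∀ (T : Type u) [Group T] [Finite T], NAS T → PRankLE 2 2 T → Lst T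

def RK3 : Prop := ∀ (T : Type u) [Group T] [Finite T], NAS T → PRankLE 2 3 T →
  (∀ t : T, orderOf t = 2 → Group.IsSolvable (centralizer ({t} : Set T))) → Lst T

def SM : Prop := ∀ (T : Type u) [Group T] [Finite T], NAS T → ¬ 64 ∣ Nat.card T → Lst T

def CARD : Prop := ∀ (T : Type u) [Group T] (q : ℕ),
  (L2 T q → 2 ≤ q ∧ Nat.card T * Nat.gcd 2 (q - 1) = q * (q ^ 2 - 1) ∧ (4 ≤ q → NAS T)) ∧
  (U3 T q → 2 ≤ q ∧ Nat.card T * Nat.gcd 3 (q + 1) = q ^ 3 * (q ^ 2 - 1) * (q ^ 3 + 1) ∧ (3 ≤ q → NAS T)) ∧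
  (1 ≤ q → SzI T q → NAS T ∧
    Nat.card T = (2 ^ (2 * q + 1)) ^ 2 * ((2 ^ (2 * q + 1)) ^ 2 + 1) * (2 ^ (2 * q + 1) - 1))

def ISO : Prop := ∀ (T : Type u) (T' : Type u) [Group T] [Group T'] (q : ℕ),
  (L2 T q → L2 T' q → Nonempty (T ≃* T')) ∧ (U3 T q → U3 T' q → Nonempty (T ≃* T')) ∧
    (SzI T q → SzI T' q → Nonempty (T ≃* T'))

def OC2 : Prop := ∀ (T : Type u) [Group T] (q p n : ℕ),
  (q, p, n) ∈ [(23, 23, 6072), (25, 13, 7800), (47, 47, 51888), (81, 41, 265680)] →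
  Lst T → p ∣ Nat.card T → Nat.card T ∣ n → L2 T q ∧ Nat.card T = n

def OC3 : Prop := ∀ (T : Type u) [Group T] (q p n : ℕ),
  (q, p, n) ∈ [(7, 43, 5663616), (8, 19, 5515776), (9, 73, 42573600)] →
  Lst T → p ∣ Nat.card T → Nat.card T ∣ n → U3 T q ∧ Nat.card T = n

def SZ : Prop := ∀ (T : Type u) [Group T] [Finite T] (m p n : ℕ), (m, p, n) ∈ [(1, 13, 29120), (2, 41, 32537600)] →
  NAS T → p ∣ Nat.card T → Nat.card T ∣ n → SzI T m ∧ Nat.card T = n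

def RED : Prop := ∀ (G : Type u) [Group G] [Finite G] (p : ℕ) [Fact p.Prime] (P : Subgroup G), Nat.card P = p →
  ¬ p ^ 2 ∣ Nat.card G → (∀ r, r.Prime → ∀ i, 0 < i → r ^ i ∣ Nat.card G → r ^ i % p ≠ 1) → ¬ P.Normal →
  ∃ (T : Type u) (_ : Group T) (_ : Finite T), NAS T ∧ p ∣ Nat.card T ∧ Nat.card T ∣ Nat.card G ∧
    (Nat.card T = Nat.card G → Nonempty (G ≃* T))

def DEGU : Prop := ∀ (T : Type u) [Group T] [Finite T] (p : ℕ) [Fact p.Prime] (P : Sylow p T), Nat.card P = p →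
  Even (Nat.card T) → Nat.card T = Nat.card (Sylow p T) * (3 * p) → p ≠ 2 → p ∈ degreePrimes T

def DEGS : Prop := ∀ (T : Type u) [Group T] [Finite T] (p n : ℕ), (p, n) ∈ [(13, 29120), (41, 32537600)] →
  NAS T → Nat.card T = n → p ∈ degreePrimes T

/-! ### Sylow 2-subgroups of order 32 -/

section
variable {G : Type*} [Group G]

/-- class three and rank at least three; `A` is the second centre -/
structure C3 (S A : Subgroup G) : Prop where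
  syl : IsSylowIn 2 S ⊤
  card : Nat.card S = 32
  le : A ≤ S
  cardA : Nat.card A = 8
  memA : ∀ x ∈ S, x ∈ A ↔ ∀ s ∈ S, ⁅x, s⁆ ∈ 𝒞(S)
  cardD : Nat.card (⁅S, S⁆ : Subgroup G) = 4
  DA : ⁅S, S⁆ ≤ A
  nc : ¬ ⁅S, S⁆ ≤ 𝒞(S)
  AD : A ≤ 𝒞(⁅S, S⁆)
  cardM : Nat.card (S ⊓ 𝒞(⁅S, S⁆) : Subgroup G) = 16
  sq : ∀ s ∈ S, s * s ∈ A
  rk : ∃ E ≤ S, IsElementaryAbelian 2 E ∧ Nat.card E = 8

def Ext (S U : Subgroup G) : Prop := IsExtremalIn 2 S U ∧ S ⊓ 𝒞(U) ≤ U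

def Act (U : Subgroup G) : Prop := ∃ x ∈ 𝒩(U), Odd (orderOf x) ∧ x ∉ 𝒞(U)

def E8 (E : Subgroup G) : Prop := IsElementaryAbelian 2 E ∧ Nat.card E = 8

/-- the contribution of `U` to the focal subgroup -/
structure PG (S A U : Subgroup G) (g : G) : Prop where
  mem : g ∈ U
  out : g ∉ 𝒞(⁅S, S⁆)
  sq : g * g ∈ ⁅S, S⁆
  ex : ∃ x ∈ 𝒩(U), Odd (orderOf x) ∧ ∃ u ∈ U, g = ⁅x, u⁆
  all : ∀ x ∈ 𝒩(U), Odd (orderOf x) → ∀ u ∈ U, ⁅x, u⁆ ∈ ⁅S, S⁆ ∨ ⁅x, u⁆ * g ∈ ⁅S, S⁆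
  shape : (U = A ⊔ zpowers g ∧ ∀ E ≤ U, ¬ E8 E) ∨
    (E8 U ∧ U ≤ A ⊔ zpowers g ∧ ∀ E ≤ A ⊔ zpowers g, E8 E → ∃ s ∈ S, E = cj s U)

/-- a quaternion subgroup `Q = ⟨i, j⟩` moved by `x` -/
structure QD (U Y : Subgroup G) (x i j : G) : Prop where
  Y_eq : Y = U ⊓ 𝒞(U)
  cardY : Nat.card Y = 4
  cY : x ∈ 𝒞(Y)
  mi : i ∈ U
  mj : j ∈ U
  ne : i * i ≠ 1
  four : i * i * (i * i) = 1
  zY : i * i ∈ Y
  jj : j * j = i * i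
  kk : i * j * (i * j) = i * i
  xi : x * i * x⁻¹ = j
  xj : x * j * x⁻¹ = (i * j)⁻¹
  dec : ∀ u ∈ U, u ∈ Y ∨ u * i⁻¹ ∈ Y ∨ u * j⁻¹ ∈ Y ∨ u * (i * j)⁻¹ ∈ Y

end

def STR : Prop := ∀ (G : Type u) [Group G] [Finite G] (S : Subgroup G), IsSylowIn 2 S ⊤ → ¬ 64 ∣ Nat.card G →
  ⁅S, S⁆ ≤ 𝒞(S) ∨ PRankLE 2 2 G ∨ ∃ A, C3 S A

def OUT : Prop := ∀ (G : Type u) [Group G] [Finite G] (S A : Subgroup G), C3 S A →
  ∀ x ∈ 𝒩(S), Odd (orderOf x) → x ∈ 𝒞(S)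

def SML : Prop := ∀ (G : Type u) [Group G] [Finite G] (S A U : Subgroup G), C3 S A → U ≤ S → S ⊓ 𝒞(U) ≤ U → Act U →
  Nat.card U ≤ 8 → E8 U

def U16a : Prop := ∀ (G : Type u) [Group G] [Finite G] (S A U : Subgroup G), C3 S A → U ≤ S → Act U →
  Nat.card U = 16 → A ≤ U ∧ ⁅U, U⁆ ≤ 𝒞(U)

def U16n : Prop := ∀ (G : Type u) [Group G] [Finite G] (S A U : Subgroup G), C3 S A → U ≤ S → Act U →
  Nat.card U = 16 → ¬ U ≤ 𝒞(U)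

def U16q : Prop := ∀ (G : Type u) [Group G] [Finite G] (U : Subgroup G) (x : G), Nat.card U = 16 → ⁅U, U⁆ ≤ 𝒞(U) →
  ¬ U ≤ 𝒞(U) → x ∈ 𝒩(U) → Odd (orderOf x) → x ∉ 𝒞(U) → ∃ Y i j, QD U Y x i j

/-- `S` moves `U / Y` -/
def U16m : Prop := ∀ (G : Type u) [Group G] [Finite G] (S A U Y : Subgroup G) (x i j : G), C3 S A → U ≤ S →
  Nat.card U = 16 → QD U Y x i j → (∀ E ≤ U, ¬ E8 E) ∧ Y ≤ A ∧ ∀ s ∈ S, (∀ u ∈ U, ⁅s, u⁆ ∈ Y) → s ∈ U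

/-- the quaternion subgroup contains all commutators with odd elements -/
def U16u : Prop := ∀ (G : Type u) [Group G] [Finite G] (S U Y : Subgroup G) (x i j : G), IsSylowIn 2 S ⊤ → U ≤ S →
  S ≤ 𝒩(U) → Nat.card U = 16 → x ∈ 𝒩(U) → QD U Y x i j → (∀ s ∈ S, (∀ u ∈ U, ⁅s, u⁆ ∈ Y) → s ∈ U) →
  ∀ x' ∈ 𝒩(U), Odd (orderOf x') → ∀ u ∈ U, ⁅x', u⁆ ∈ closure ({i, j} : Set G)

def U16 : Prop := ∀ (G : Type u) [Group G] [Finite G] (S A U : Subgroup G), C3 S A → U ≤ S → Act U →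
  Nat.card U = 16 → ∃ g, PG S A U g

/-- automorphisms of `E₈`: an odd element commuting with an involution, or inverted by it -/
def LE8 : Prop := ∀ (G : Type u) [Group G] [Finite G] (U : Subgroup G) (t x : G), E8 U → t ∈ 𝒩(U) → t ∉ 𝒞(U) →
  t * t ∈ 𝒞(U) → x ∈ 𝒩(U) → Odd (orderOf x) →
  (⁅t, x⁆ ∈ 𝒞(U) → x ∈ 𝒞(U)) ∧ (t * x * t⁻¹ * x ∈ 𝒞(U) → x ^ 3 ∈ 𝒞(U)) ∧ (𝒞(U)).relIndex 𝒩(U) ∣ 168

def U8a : Prop := ∀ (G : Type u) [Group G] [Finite G] (S A U : Subgroup G), C3 S A → Ext S U → Act U → E8 U →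
  ¬ S ≤ 𝒩(U)

def U8v : Prop := ∀ (G : Type u) [Group G] [Finite G] (U : Subgroup G) (t : G), E8 U → Act U → t ∈ 𝒩(U) → t ∉ 𝒞(U) →
  t * t ∈ 𝒞(U) → ¬ 4 ∣ (𝒞(U)).relIndex 𝒩(U) → ∃ V ≤ U, Nat.card V = 4 ∧ t ∈ 𝒩(V) ∧ t ∉ 𝒞(V) ∧
    (∀ x ∈ 𝒩(U), Odd (orderOf x) → ∀ u ∈ U, ⁅x, u⁆ ∈ V) ∧
    ∀ v ∈ V, ∃ x ∈ 𝒩(U), Odd (orderOf x) ∧ ∃ u ∈ U, v = ⁅x, u⁆

def U8 : Prop := ∀ (G : Type u) [Group G] [Finite G] (S A U : Subgroup G), C3 S A → Ext S U → Act U → E8 U →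
  ¬ S ≤ 𝒩(U) → ∃ g, PG S A U g

/-- a proper subgroup of `S` that contains all contributions -/
def CMP : Prop := ∀ (G : Type u) [Group G] [Finite G] (S A : Subgroup G), C3 S A →
  (∀ U, Ext S U → Act U → ∃ g, PG S A U g) → ∃ W ≤ S, W ≠ S ∧ ⁅S, S⁆ ≤ W ∧
    ∀ U, Ext S U → ∀ x ∈ 𝒩(U), Odd (orderOf x) → ∀ u ∈ U, ⁅x, u⁆ ∈ W

def FOC : Prop := ∀ (G : Type u) [Group G] [Finite G] (S W : Subgroup G), IsSylowIn 2 S ⊤ → W ≤ S → ⁅S, S⁆ ≤ W →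
  (∀ U, Ext S U → ∀ x ∈ 𝒩(U), Odd (orderOf x) → ∀ u ∈ U, ⁅x, u⁆ ∈ W) → S ⊓ commutator G ≤ W

/-! ### The principal block of the large prime -/

structure BD {G : Type*} [Group G] (p a b c : ℕ) (χ St θ : IrrCharacter G) : Prop where
  dχ : (χ : G → ℂ) 1 = a
  dSt : (St : G → ℂ) 1 = b
  dθ : (θ : G → ℂ) 1 = c
  rel : ∀ g, ¬ p ∣ orderOf g → 1 - (χ : G → ℂ) g - (St : G → ℂ) g + (θ : G → ℂ) g = 0
  inv : ∀ t, orderOf t = 2 → 1 - (χ : G → ℂ) t ^ 2 / a - (St : G → ℂ) t ^ 2 / b + (θ : G → ℂ) t ^ 2 / c = 0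
  uniq : ∀ ψ : IrrCharacter G, ¬ p ∣ charDegree (ψ : G → ℂ) →
    charDegree (ψ : G → ℂ) = 1 ∨ ψ = χ ∨ ψ = St ∨ charDegree (ψ : G → ℂ) = c
  self : ∀ g : G, p ∣ orderOf g → orderOf g = p

def BD7 : Prop := ∀ (G : Type u) [Group G] [Finite G], NAS G → 43 ∣ Nat.card G → Nat.card G ∣ 5663616 →
  Nat.card G = 5663616 ∧ ∃ χ St θ : IrrCharacter G, BD 43 42 343 384 χ St θ

def BD8 : Prop := ∀ (G : Type u) [Group G] [Finite G], NAS G → Nat.card G ∣ 5515776 → 19 ∣ Nat.card G →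
  Nat.card (Sylow 19 G) = 96768 → Nat.card G = 5515776 ∧ ∃ χ St θ : IrrCharacter G, BD 19 56 512 567 χ St θ

def M8 : Prop := ∀ (G : Type u) [Group G] [Finite G] (χ St θ : IrrCharacter G), Nat.card G = 5515776 →
  BD 19 56 512 567 χ St θ → PRankLE 2 3 G ∧ ∀ t : G, orderOf t = 2 → Group.IsSolvable (centralizer ({t} : Set G))

def N8 : Prop := ∀ (G : Type u) [Group G] [Finite G], NAS G → Nat.card G ∣ 5515776 → 19 ∣ Nat.card G →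
  Nat.card (Sylow 19 G) = 1008 ∨ Nat.card (Sylow 19 G) = 96768

def K8 : Prop := ∀ (G : Type u) [Group G] [Finite G] (P : Subgroup G), NAS G → Nat.card G ∣ 5515776 →
  Nat.card P = 19 → (𝒩(P)).index = 1008 → (∀ H : Subgroup G, H ≠ ⊤ → P ≤ H → H ≤ 𝒩(P)) →
  ¬ 64 ∣ Nat.card G ∨ (PRankLE 2 2 G ∧ ¬ 128 ∣ Nat.card G)

/-- the facts for `U₃(7)` -/
structure F7 {G : Type*} [Group G] (χ St : IrrCharacter G) : Prop where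
  nas : NAS G
  card : Nat.card G = 5663616
  dχ : (χ : G → ℂ) 1 = 42
  χt : ∀ t, orderOf t = 2 → (χ : G → ℂ) t = -6
  Stt : ∀ t, orderOf t = 2 → (St : G → ℂ) t = 7
  St3 : ∀ g, 3 ∣ orderOf g → (St : G → ℂ) g = 1
  uniq : ∀ ψ : IrrCharacter G, charDegree (ψ : G → ℂ) = 343 → ψ = St
  int : ∀ g, ∃ n : ℤ, (χ : G → ℂ) g = n
  pw : ∀ g k, Nat.Coprime k (orderOf g) → (χ : G → ℂ) (g ^ k) = (χ : G → ℂ) g
  mix : ∀ g, 14 ∣ orderOf g → (χ : G → ℂ) g = 1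
  c7 : ∀ t : G, orderOf t = 2 → ¬ 49 ∣ Nat.card (centralizer ({t} : Set G))
  n21 : ∀ g : G, ¬ 21 ∣ orderOf g
  n43 : ∀ g : G, 43 ∣ orderOf g → orderOf g = 43
  rk : PRankLE 2 3 G

def FA7 : Prop := ∀ (G : Type u) [Group G] [Finite G] (χ St θ : IrrCharacter G), NAS G → Nat.card G = 5663616 →
  BD 43 42 343 384 χ St θ → F7 χ St

/-- a subgroup of order 49 lies in one Sylow subgroup -/
def T49 : Prop := ∀ (G : Type u) [Group G] [Finite G] (χ St : IrrCharacter G) (P Q : Sylow 7 G), F7 χ St →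
  Nat.card ((P : Subgroup G) ⊓ Q : Subgroup G) ≠ 49

/-- the centralizer of an element of order 7 has no normal 2-subgroup -/
def T7 : Prop := ∀ (G : Type u) [Group G] [Finite G] (χ St : IrrCharacter G) (y : G) (Z : Subgroup G), F7 χ St →
  orderOf y = 7 → IsElementaryAbelian 2 Z → Z ≤ centralizer ({y} : Set G) → centralizer ({y} : Set G) ≤ 𝒩(Z) → Z = ⊥

def TI7 : Prop := ∀ (G : Type u) [Group G] [Finite G] (χ St : IrrCharacter G) (P Q : Sylow 7 G), F7 χ St → P ≠ Q →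
  (P : Subgroup G) ⊓ Q = ⊥

/-- the action on the Sylow 7-subgroups -/
structure A7 (G : Type*) [Group G] : Prop where
  nas : NAS G
  card : Nat.card G = 5663616
  deg : Nat.card (Sylow 7 G) = 344
  ti : ∀ P Q : Sylow 7 G, P ≠ Q → (P : Subgroup G) ⊓ Q = ⊥
  reg : ∀ P Q R : Sylow 7 G, Q ≠ P → R ≠ P → ∃! y : (P : Subgroup G), (y : G) • Q = R
  two : MulAction.IsMultiplyPretransitive G (Sylow 7 G) 2
  fix2 : ∀ t : G, orderOf t = 2 → Nat.card (MulAction.fixedBy (Sylow 7 G) t) = 8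
  fix3 : ∀ g : G, 3 ∣ orderOf g → Nat.card (MulAction.fixedBy (Sylow 7 G) g) = 2

def PI7 : Prop := ∀ (G : Type u) [Group G] [Finite G] (χ St : IrrCharacter G), F7 χ St →
  (∀ P Q : Sylow 7 G, P ≠ Q → (P : Subgroup G) ⊓ Q = ⊥) → A7 G

abbrev H7 {G : Type*} [Group G] (P Q : Sylow 7 G) : Subgroup G := MulAction.stabilizer G P ⊓ MulAction.stabilizer G Q

/-- orders, fixed points in `P`, and the number of interchanging involutions -/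
def CT7 : Prop := ∀ (G : Type u) [Group G] [Finite G] (P Q : Sylow 7 G), A7 G → P ≠ Q →
  Nat.card (H7 P Q) = 48 ∧
  (∀ h ∈ H7 P Q, Nat.card (MulAction.fixedBy (Sylow 7 G) h) =
    1 + Nat.card ((P : Subgroup G) ⊓ centralizer {h} : Subgroup G)) ∧
  Nat.card {s : G // orderOf s = 2 ∧ s • P = Q ∧ s • Q = P} = 6 * Nat.card {h : G // orderOf h = 2 ∧ h ∈ H7 P Q} ∧
  Nat.card {s : G // s • P = Q ∧ s • Q = P} = 48

/-- a group of order 16 acting on a group of order 343 -/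
def UI7 : Prop := ∀ (G : Type u) [Group G] [Finite G] (P R : Subgroup G), Nat.card P = 343 → Nat.card R = 16 →
  R ≤ 𝒩(P) → (∀ t ∈ R, orderOf t = 2 → Nat.card (P ⊓ centralizer {t} : Subgroup G) = 7) →
  Nat.card {h : G // orderOf h = 2 ∧ h ∈ R} ≤ 8 → ∃ t ∈ R, ∀ h ∈ R, orderOf h = 2 ↔ h = t

def NR7 : Prop := ∀ (G : Type u) [Group G] [Finite G] (P Q : Sylow 7 G), A7 G → P ≠ Q →
  ∃ (R : Subgroup G) (t : G), R ≤ H7 P Q ∧ Nat.card R = 16 ∧ H7 P Q ≤ 𝒩(R) ∧ t ∈ R ∧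
    ∀ h ∈ H7 P Q, orderOf h = 2 ↔ h = t

def CY7 : Prop := ∀ (G : Type u) [Group G] [Finite G] (P Q : Sylow 7 G), A7 G → P ≠ Q → IsCyclic (H7 P Q)

def END7 : Prop := ∀ (G : Type u) [Group G] [Finite G] (P Q : Sylow 7 G), A7 G → P ≠ Q → IsCyclic (H7 P Q) → Lst G

end CL.DG9
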