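/-
Project DG9 (S3645): the principal 43-block of a simple group of order dividing 5663616.
-/
import Cfsg.Agent.DG9.Defs

set_option autoImplicit false

namespace CL.DG9

open Finset Cfsg Subgroup CL.Grp CL.Loc CL.Even CL.Char CL.Blk CL.Inv CL.Inv.PO ComplexConjugate

universe u

namespace BD7x

theorem key {d : ℕ} (h : d ∣ 131712) : (d % 43 = 1 → d = 1 ∨ d = 43904) ∧
    (d % 43 = 42 → d = 42 ∨ d = 128 ∨ d = 343) ∧ (d % 43 = 40 → d = 384 ∨ d = 1029 ∨ d = 3136) := by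
  rw [show 131712 = 2 ^ 7 * 3 ^ 1 * 7 ^ 3 by norm_num] at h
  obtain ⟨u, w, hu, hw, rfl⟩ := exists_dvd_and_dvd_of_dvd_mul h
  obtain ⟨u', v, hu', hv, rfl⟩ := exists_dvd_and_dvd_of_dvd_mul hu
  obtain ⟨a, ha, rfl⟩ := (Nat.dvd_prime_pow Nat.prime_two).1 hu'
  obtain ⟨b, hb, rfl⟩ := (Nat.dvd_prime_pow Nat.prime_three).1 hv
  obtain ⟨c, hc, rfl⟩ := (Nat.dvd_prime_pow (by norm_num : Nat.Prime 7)).1 hw
  interval_cases a <;> interval_cases b <;> interval_cases c <;> decide +kernel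

theorem arith {ε : ℤ} {a b m : ℕ} (ha : a = 42 ∨ a = 128 ∨ a = 343) (hb : b = 42 ∨ b = 128 ∨ b = 343)
    (hm : ε = 1 ∨ (ε = -1 ∧ (m = 384 ∨ m = 1029 ∨ m = 3136))) (hle : a ≤ b)
    (h : ε * m = 1 * (1 : ℕ) + (-1 * a + -1 * b)) : a = 42 ∧ b = 343 ∧ ε = -1 ∧ m = 384 := by
  rcases ha with rfl | rfl | rfl <;> rcases hb with rfl | rfl | rfl <;> rcases hm with rfl | ⟨rfl, h'⟩ <;> omega

open scoped Classical

theorem sum_split {G : Type*} [Group G] [Fintype G] {p : ℕ} [Fact p.Prime] {x : G} {C : Subgroup G}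
    {K : Ctx p x C} {B : Set (IrrCharacter G)} (D : Data K (irrOne C) B) (F : IrrCharacter G → ℂ)
    (hF : ∀ χ, χ ∉ B → F χ = 0) : ∑ χ, F χ = ∑ χ ∈ D.X, F χ + ∑ χ ∈ D.Y, F χ := by
  rw [← sum_union (disjoint_right.2 fun χ h => D.notMem_X_of_mem_Y h)]
  refine (sum_subset (subset_univ _) fun χ _ hχ => hF χ fun h => hχ ?_).symm
  rcases (D.mem_iff χ).1 h with h | h
  · exact mem_union_left _ h
  · exact mem_union_right _ (D.mem_Y.2 h)

end BD7x

open scoped Classical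

open BD7x in
theorem bd7 : BD7.{u} := by
  intro G _ _ hG h43 hdvd
  have := Fintype.ofFinite G
  have := hG.1
  have : Fact (Nat.Prime 43) := ⟨by norm_num⟩
  have hperf := commutator_eq_top_of_simple hG.2
  obtain ⟨x, ⟨K⟩⟩ := exists_ctx_of_dvd (G := G) (p := 43) h43 fun h => by
    have := h.trans hdvd
    norm_num at this
  obtain ⟨M, hM⟩ := exists_isPModular' (Fact.out : Nat.Prime 43)
  obtain ⟨D, h1, hs1⟩ := K.exists_data_principal hM
  obtain ⟨c, hc⟩ : 43 ∣ Nat.card (centralizer ({x} : Set G)) := K.card_P ▸ card_dvd_of_le K.P_le_C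
  have hGc : Nat.card G = 43 * (c * K.f * (Nz x).index) := by
    rw [← (centralizer ({x} : Set G)).card_mul_index, hc, K.index_C]; ring
  have hd : c * K.f * (Nz x).index ∣ 131712 := by
    rw [hGc, show 5663616 = 43 * 131712 by norm_num] at hdvd
    exact Nat.dvd_of_mul_dvd_mul_left (by norm_num) hdvd
  have hm : (Nz x).index = 43904 :=
    ((key (Dvd.dvd.trans (Dvd.intro_left _ rfl) hd)).1 K.index_N_modEq).resolve_left
      (D.one_lt_index_N h1 hperf).ne'
  have hf2 := D.two_le_f h1 hperf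
  have hd3 : c * K.f ∣ 3 := by
    rw [hm, show 131712 = 3 * 43904 by norm_num] at hd
    exact Nat.dvd_of_mul_dvd_mul_right (by norm_num) hd
  have hf : K.f = 3 :=
    ((Nat.dvd_prime Nat.prime_three).1 (Dvd.dvd.trans (Dvd.intro_left _ rfl) hd3)).resolve_left (by omega)
  have hc1 : c = 1 := by
    rw [hf] at hd3
    exact Nat.dvd_one.1 (Nat.dvd_of_mul_dvd_mul_right (by norm_num : 0 < 3) (by simpa using hd3))
  have hcard : Nat.card G = 5663616 := by rw [hGc, hc1, hf, hm]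
  have hC : centralizer ({x} : Set G) ≤ zpowers x :=
    (eq_of_le_of_card_ge K.P_le_C (by rw [hc, hc1, K.card_P])).ge
  have hi : (centralizer ({x} : Set G)).index = 131712 := by rw [K.index_C, hf, hm]
  obtain ⟨α, β, hα1, hβ1, hαβ, hle, hX⟩ : ∃ α β, irrOne G ≠ α ∧ irrOne G ≠ β ∧ α ≠ β ∧
      charDegree (α : G → ℂ) ≤ charDegree (β : G → ℂ) ∧ D.X = {irrOne G, α, β} := by
    obtain ⟨a, b, hab, h⟩ := card_eq_two.1
      ((card_erase_of_mem h1).trans (by rw [D.card_X_one, hf]))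
    have ha : a ∈ D.X.erase (irrOne G) := by simp [h]
    have hb : b ∈ D.X.erase (irrOne G) := by simp [h]
    have h2 := (insert_erase h1).symm
    rw [h] at h2
    rcases le_total (charDegree (a : G → ℂ)) (charDegree (b : G → ℂ)) with e | e
    · exact ⟨a, b, (ne_of_mem_erase ha).symm, (ne_of_mem_erase hb).symm, hab, e, h2⟩
    · exact ⟨b, a, (ne_of_mem_erase hb).symm, (ne_of_mem_erase ha).symm, hab.symm, e,
        h2.trans (by rw [pair_comm])⟩
  have hdX : ∀ ψ ∈ D.X, irrOne G ≠ ψ → D.s ψ = -1 ∧ (charDegree (ψ : G → ℂ) = 42 ∨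
      charDegree (ψ : G → ℂ) = 128 ∨ charDegree (ψ : G → ℂ) = 343) := fun ψ hψ hψ1 => by
    have hmod := D.deg_X_one hψ
    have hd1 : charDegree (ψ : G → ℂ) ≠ 1 := fun h => hψ1 (eq_irrOne_of_perfect hperf h).symm
    have hk := key (hi ▸ D.deg_X_dvd hψ)
    have hsq := CL.Spor.degree_sq_le_card ψ
    unfold Int.ModEq at hmod
    rcases D.hs ψ hψ with e | e <;> rw [e] at hmod
    · rw [(hk.1 (by omega)).resolve_left hd1, hcard] at hsq
      norm_num at hsq
    · exact ⟨e, hk.2.1 (by omega)⟩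
  have hdμ : D.ε = 1 ∨ (D.ε = -1 ∧ (charDegree (D.μ 1 : G → ℂ) = 384 ∨ charDegree (D.μ 1 : G → ℂ) = 1029 ∨
      charDegree (D.μ 1 : G → ℂ) = 3136)) := by
    have hmod := D.deg_μ_one 1
    have hk := key (hi ▸ D.deg_μ_dvd 1)
    unfold Int.ModEq at hmod
    rcases D.hε with e | e
    · exact .inl e
    · rw [e, hf] at hmod
      exact .inr ⟨e, hk.2.2 (by omega)⟩
  have hα : α ∈ D.X := by simp [hX]
  have hβ : β ∈ D.X := by simp [hX]
  obtain ⟨sα, dα⟩ := hdX α hα hα1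
  obtain ⟨sβ, dβ⟩ := hdX β hβ hβ1
  have hsum : ∀ {A : Type} [AddCommMonoid A] (F : IrrCharacter G → A),
      ∑ χ ∈ D.X, F χ = F (irrOne G) + (F α + F β) := fun F => by
    rw [hX, sum_insert (by simp [hα1, hβ1]), sum_pair hαβ]
  have hrel := D.deg_rel 1
  rw [hsum, hs1, sα, sβ, CL.Spor.charDegree_irrOne] at hrel
  obtain ⟨e1, e2, e3, e4⟩ := arith dα dβ hdμ hle hrel
  have c1 : (α : G → ℂ) 1 = (42 : ℕ) := by rw [← α.2.cast_charDegree, e1]
  have c2 : (β : G → ℂ) 1 = (343 : ℕ) := by rw [← β.2.cast_charDegree, e2]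
  have c3 : ∀ k, (D.μ k : G → ℂ) 1 = (384 : ℕ) := fun k => by
    rw [← (D.μ k).2.cast_charDegree, D.deg_μ k 1, e4]
  have hx43 : x ^ 43 ^ 1 = 1 := by rw [pow_one, ← K.hx, pow_orderOf_eq_one]
  refine ⟨hcard, α, β, D.μ 1, c1, c2, c3 1, fun g hg => ?_, fun t ht => ?_, fun ψ hψ => ?_, fun g hg => ?_⟩
  · have h := D.reg_rel 1 hg
    rw [hsum, hs1, sα, sβ, e3] at h
    simp only [coe_irrOne] at h
    push_cast at h
    linear_combination -h
  · have ht2 : t * t = 1 := by rw [← sq, ← ht, pow_orderOf_eq_one]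
    have htr : ¬ 43 ∣ orderOf t := by rw [ht]; norm_num
    have h := L33.card_pairs_mul t t x
    rw [L33.card_pairs_eq_zero ht2 ht2 (L33.not_isConj_inv K (by rw [K.card_N_self hC, hf]; decide)),
      sum_split D _ (fun χ hχ => by rw [D.apply_eq_zero_of_notMem hC hχ K.sing_x]; simp), hsum,
      D.X_sing_one hα K.sing_x, D.X_sing_one hβ K.sing_x, sα, sβ, c1, c2] at h
    have hY : ∑ χ ∈ D.Y, (χ : G → ℂ) t * (χ : G → ℂ) t * conj ((χ : G → ℂ) x) / (χ : G → ℂ) 1 =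
        (D.μ 1 : G → ℂ) t ^ 2 / (384 : ℕ) := by
      have h2 := congrArg conj (D.sum_Y_sing K.sing_x)
      rw [map_sum, e3] at h2
      rw [sum_congr rfl (g := fun χ : IrrCharacter G => (D.μ 1 : G → ℂ) t ^ 2 / (384 : ℕ) * conj ((χ : G → ℂ) x))
        fun χ hχ => ?_, ← mul_sum, h2]
      · simp
      obtain ⟨k, rfl⟩ := D.mem_Y.1 hχ
      rw [c3 k, D.μ_reg k 1 htr]
      ring
    rw [hY, hcard] at h
    simp only [coe_irrOne, map_one, Int.cast_neg, Int.cast_one, map_neg] at h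
    push_cast at h ⊢
    linear_combination (-1 / 5663616 : ℂ) * h
  · by_cases h : ψ ∈ principalBlock M G
    · rcases (D.mem_iff ψ).1 h with h | ⟨k, rfl⟩
      · simp only [hX, mem_insert, mem_singleton] at h
        rcases h with rfl | h | h
        · exact .inl CL.Spor.charDegree_irrOne
        · exact .inr (.inl h)
        · exact .inr (.inr (.inl h))
      · exact .inr (.inr (.inr ((D.deg_μ k 1).trans e4)))
    · exact absurd (dvd_degree_of_apply_eq_zero ψ.2.isGeneralizedCharacter Fact.out hx43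
        (D.apply_eq_zero_of_notMem hC h K.sing_x) ψ.2.cast_charDegree.symm) hψ
  · exact Nat.dvd_antisymm (orderOf_dvd_of_pow_eq_one (K.pow_eq_one_of_sing hC hg)) hg

end CL.DG9
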