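/-
Project DG9: the principal 19-block of a simple group of order dividing 5515776.
-/
import Cfsg.Agent.DG9.Defs

set_option autoImplicit false

namespace CL.DG9

open Cfsg Subgroup CL.Grp CL.Loc CL.Even CL.Char
open scoped commutatorElement

universe u

namespace BD8x

open Finset CL.Blk CL.Inv CL.Inv.PO ComplexConjugate
open scoped Classical

theorem key : ∀ d ∈ Nat.divisors 290304,
    (d % 19 = 1 → d = 1 ∨ d = 96 ∨ d = 324 ∨ d = 1008 ∨ d = 96768) ∧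
    (d % 19 = 18 → d = 18 ∨ d = 56 ∨ d = 189 ∨ d = 512 ∨ d = 1728 ∨ d = 5376 ∨ d = 18144) ∧
    (d % 19 = 3 → d = 3 ∨ d = 288 ∨ d = 896 ∨ d = 3024 ∨ d = 290304) ∧
    (d % 19 = 16 → d = 16 ∨ d = 54 ∨ d = 168 ∨ d = 567 ∨ d = 1536 ∨ d = 5184 ∨ d = 16128) := by
  intro d hd
  have h1 : d ∣ 2 ^ 9 * (3 ^ 4 * 7) := (Nat.mem_divisors.1 hd).1
  obtain ⟨a, b, ha, hb, rfl⟩ := exists_dvd_and_dvd_of_dvd_mul h1
  obtain ⟨c, e, hc, he, rfl⟩ := exists_dvd_and_dvd_of_dvd_mul hb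
  obtain ⟨i, hi, rfl⟩ := (Nat.dvd_prime_pow Nat.prime_two).1 ha
  obtain ⟨j, hj, rfl⟩ := (Nat.dvd_prime_pow Nat.prime_three).1 hc
  rcases (Nat.dvd_prime (by norm_num : Nat.Prime 7)).1 he with rfl | rfl <;>
    interval_cases i <;> interval_cases j <;> decide

theorem arith {s t ε : ℤ} {a b m : ℕ}
    (ha : (s = 1 ∧ (a = 96 ∨ a = 324 ∨ a = 1008 ∨ a = 96768)) ∨
      (s = -1 ∧ (a = 18 ∨ a = 56 ∨ a = 189 ∨ a = 512 ∨ a = 1728 ∨ a = 5376 ∨ a = 18144)))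
    (hb : (t = 1 ∧ (b = 96 ∨ b = 324 ∨ b = 1008 ∨ b = 96768)) ∨
      (t = -1 ∧ (b = 18 ∨ b = 56 ∨ b = 189 ∨ b = 512 ∨ b = 1728 ∨ b = 5376 ∨ b = 18144)))
    (hm : (ε = 1 ∧ (m = 3 ∨ m = 288 ∨ m = 896 ∨ m = 3024 ∨ m = 290304)) ∨
      (ε = -1 ∧ (m = 16 ∨ m = 54 ∨ m = 168 ∨ m = 567 ∨ m = 1536 ∨ m = 5184 ∨ m = 16128)))
    (hle : a ≤ b) (h : ε * m = 1 * (1 : ℕ) + (s * a + t * b)) :
    s = -1 ∧ a = 56 ∧ t = -1 ∧ b = 512 ∧ ε = -1 ∧ m = 567 := by
  rcases ha with ⟨rfl, rfl | rfl | rfl | rfl⟩ | ⟨rfl, rfl | rfl | rfl | rfl | rfl | rfl | rfl⟩ <;>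
    rcases hb with ⟨rfl, rfl | rfl | rfl | rfl⟩ | ⟨rfl, rfl | rfl | rfl | rfl | rfl | rfl | rfl⟩ <;>
    rcases hm with ⟨rfl, h'⟩ | ⟨rfl, h'⟩ <;> omega

theorem main (G : Type u) [Group G] [Fintype G] (hS : NAS G) (hd : Nat.card G ∣ 5515776)
    (h19 : 19 ∣ Nat.card G) (hn : Nat.card (Sylow 19 G) = 96768) :
    Nat.card G = 5515776 ∧ ∃ χ St θ : IrrCharacter G, BD 19 56 512 567 χ St θ := by
  have : Fact (Nat.Prime 19) := ⟨by norm_num⟩
  have := hS.1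
  have hperf := commutator_eq_top_of_simple hS.2
  obtain ⟨x, ⟨K⟩⟩ := exists_ctx_of_dvd (G := G) (p := 19) h19
    (fun h => absurd (h.trans hd) (by norm_num))
  obtain ⟨M, hM⟩ := exists_isPModular' (Fact.out : Nat.Prime 19)
  obtain ⟨D, h1, hs1⟩ := K.exists_data_principal hM
  have hidx : (Nz x).index = 96768 := K.card_sylow ▸ hn
  have hf2 := D.two_le_f h1 hperf
  obtain ⟨c, hc⟩ := CL.Blk.Cross.exists_card_C K
  have hG0 : Nat.card G = K.f * (19 * c) * 96768 := by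
    rw [← (Nz x).card_mul_index, K.card_N, hc, hidx]
  have hfc : K.f * c ∣ 3 := by
    refine Nat.dvd_of_mul_dvd_mul_right (k := 19 * 96768) (by norm_num) ?_
    have h2 : K.f * c * (19 * 96768) = Nat.card G := by rw [hG0]; ring
    rw [h2]; exact hd
  have hf : K.f = 3 ∧ c = 1 := by
    have h2 := Nat.le_of_dvd (by norm_num) ((dvd_mul_right _ _).trans hfc)
    have h3 := Nat.le_of_dvd (by norm_num) ((dvd_mul_left _ _).trans hfc)
    generalize K.f = f at *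
    interval_cases f <;> interval_cases c <;> simp_all
  obtain ⟨hf, rfl⟩ := hf
  have hG : Nat.card G = 5515776 := by rw [hG0, hf]
  have hC : centralizer ({x} : Set G) ≤ zpowers x :=
    (eq_of_le_of_card_ge K.P_le_C (by rw [hc, K.card_P])).ge
  refine ⟨hG, ?_⟩
  obtain ⟨α, β, hα1, hβ1, hαβ, hle, hX⟩ : ∃ α β, irrOne G ≠ α ∧ irrOne G ≠ β ∧ α ≠ β ∧
      charDegree (α : G → ℂ) ≤ charDegree (β : G → ℂ) ∧ D.X = {irrOne G, α, β} := by
    obtain ⟨a, b, hab, h⟩ := card_eq_two.1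
      ((card_erase_of_mem h1).trans (by rw [D.card_X_one, hf]))
    have ha : a ∈ D.X.erase (irrOne G) := by simp [h]
    have hb : b ∈ D.X.erase (irrOne G) := by simp [h]
    have h2 := (insert_erase h1).symm
    rw [h] at h2
    rcases le_total (charDegree (a : G → ℂ)) (charDegree (b : G → ℂ)) with e | e
    · exact ⟨a, b, (ne_of_mem_erase ha).symm, (ne_of_mem_erase hb).symm, hab, e, h2⟩
    · exact ⟨b, a, (ne_of_mem_erase hb).symm, (ne_of_mem_erase ha).symm, hab.symm, e,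
        h2.trans (by rw [pair_comm])⟩
  have hi : (centralizer ({x} : Set G)).index = 290304 := by
    have := (centralizer ({x} : Set G)).card_mul_index
    rw [K.card_C hC, hG] at this
    omega
  have hdX : ∀ ψ ∈ D.X, irrOne G ≠ ψ →
      (D.s ψ = 1 ∧ (charDegree (ψ : G → ℂ) = 96 ∨ charDegree (ψ : G → ℂ) = 324 ∨
        charDegree (ψ : G → ℂ) = 1008 ∨ charDegree (ψ : G → ℂ) = 96768)) ∨
      (D.s ψ = -1 ∧ (charDegree (ψ : G → ℂ) = 18 ∨ charDegree (ψ : G → ℂ) = 56 ∨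
        charDegree (ψ : G → ℂ) = 189 ∨ charDegree (ψ : G → ℂ) = 512 ∨
        charDegree (ψ : G → ℂ) = 1728 ∨ charDegree (ψ : G → ℂ) = 5376 ∨
        charDegree (ψ : G → ℂ) = 18144)) := fun ψ hψ hψ1 => by
    have hmod := D.deg_X_one hψ
    have hd1 : charDegree (ψ : G → ℂ) ≠ 1 := fun h => hψ1 (eq_irrOne_of_perfect hperf h).symm
    have := key _ (Nat.mem_divisors.2 ⟨hi ▸ D.deg_X_dvd hψ, by norm_num⟩)
    unfold Int.ModEq at hmod
    rcases D.hs ψ hψ with e | e <;> rw [e] at hmod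
    · exact .inl ⟨e, (this.1 (by omega)).resolve_left hd1⟩
    · exact .inr ⟨e, this.2.1 (by omega)⟩
  have hdμ : (D.ε = 1 ∧ (charDegree (D.μ 1 : G → ℂ) = 3 ∨ charDegree (D.μ 1 : G → ℂ) = 288 ∨
      charDegree (D.μ 1 : G → ℂ) = 896 ∨ charDegree (D.μ 1 : G → ℂ) = 3024 ∨
      charDegree (D.μ 1 : G → ℂ) = 290304)) ∨ (D.ε = -1 ∧ (charDegree (D.μ 1 : G → ℂ) = 16 ∨
      charDegree (D.μ 1 : G → ℂ) = 54 ∨ charDegree (D.μ 1 : G → ℂ) = 168 ∨
      charDegree (D.μ 1 : G → ℂ) = 567 ∨ charDegree (D.μ 1 : G → ℂ) = 1536 ∨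
      charDegree (D.μ 1 : G → ℂ) = 5184 ∨ charDegree (D.μ 1 : G → ℂ) = 16128)) := by
    have hmod := D.deg_μ_one 1
    have := key _ (Nat.mem_divisors.2 ⟨hi ▸ D.deg_μ_dvd 1, by norm_num⟩)
    unfold Int.ModEq at hmod
    rcases D.hε with e | e <;> rw [e, hf] at hmod
    · exact .inl ⟨e, this.2.2.1 (by omega)⟩
    · exact .inr ⟨e, this.2.2.2 (by omega)⟩
  have hα : α ∈ D.X := by simp [hX]
  have hβ : β ∈ D.X := by simp [hX]
  have hrel := D.deg_rel 1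
  rw [hX, sum_insert (by simp [hα1, hβ1]), sum_pair hαβ, hs1, CL.Spor.charDegree_irrOne] at hrel
  obtain ⟨e1, e2, e3, e4, e5, e6⟩ := arith (hdX α hα hα1) (hdX β hβ hβ1) hdμ hle hrel
  have hd1 : (α : G → ℂ) 1 = (56 : ℕ) := by rw [← α.2.cast_charDegree, e2]
  have hd2 : (β : G → ℂ) 1 = (512 : ℕ) := by rw [← β.2.cast_charDegree, e4]
  have hd3 : ∀ k, (D.μ k : G → ℂ) 1 = (567 : ℕ) := fun k => by
    rw [← (D.μ k).2.cast_charDegree, D.deg_μ k 1, e6]
  refine ⟨α, β, D.μ 1, hd1, hd2, hd3 1, fun g hg => ?_, fun t ht => ?_, fun ψ hψ => ?_,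
    fun g hg => ?_⟩
  · have h2 := D.reg_rel 1 hg
    rw [hX, sum_insert (by simp [hα1, hβ1]), sum_pair hαβ, hs1, e1, e3, e5] at h2
    simp only [coe_irrOne] at h2
    push_cast at h2
    linear_combination -h2
  · have hnr := L33.not_isConj_inv K (by rw [K.card_N_self hC, hf]; decide)
    have h2 : t * t = 1 := by rw [← sq, ← ht, pow_orderOf_eq_one]
    have h3 := L33.card_pairs_mul t t x
    rw [L33.card_pairs_eq_zero h2 h2 hnr, Nat.cast_zero, zero_mul, zero_mul] at h3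
    have h4 := (mul_eq_zero.1 h3.symm).resolve_left (natCard_ne_zero (G := G))
    have htr : ¬ 19 ∣ orderOf t := by rw [ht]; norm_num
    rw [← sum_subset (subset_univ (D.X ∪ D.Y)), sum_union
      (disjoint_right.2 fun _ => D.notMem_X_of_mem_Y)] at h4
    · have h5 : ∑ χ ∈ D.Y, (χ : G → ℂ) t * (χ : G → ℂ) t * conj ((χ : G → ℂ) x) / (χ : G → ℂ) 1 =
          (D.μ 1 : G → ℂ) t ^ 2 / (567 : ℕ) * conj (∑ χ ∈ D.Y, (χ : G → ℂ) x) := by
        rw [map_sum, mul_sum]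
        refine sum_congr rfl fun χ hχ => ?_
        obtain ⟨k, rfl⟩ := D.mem_Y.1 hχ
        rw [hd3 k, D.μ_reg k 1 htr]
        ring
      rw [h5, D.sum_Y_sing K.sing_x, e5, hX, sum_insert (by simp [hα1, hβ1]), sum_pair hαβ,
        D.X_sing_one hα K.sing_x, D.X_sing_one hβ K.sing_x, e1, e3, hd1, hd2] at h4
      simp only [coe_irrOne, Int.cast_neg, Int.cast_one, map_neg, map_one, neg_neg] at h4
      linear_combination h4
    · intro χ _ hχ
      rw [D.apply_eq_zero_of_notMem hC (fun h => hχ ?_) K.sing_x, map_zero, mul_zero, zero_div]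
      rw [mem_union, D.mem_Y]
      exact (D.mem_iff χ).1 h
  · by_cases h : ψ ∈ principalBlock M G
    · rcases (D.mem_iff ψ).1 h with h | ⟨k, rfl⟩
      · simp only [hX, mem_insert, mem_singleton] at h
        rcases h with rfl | h | h
        · exact .inl CL.Spor.charDegree_irrOne
        · exact .inr (.inl h)
        · exact .inr (.inr (.inl h))
      · exact .inr (.inr (.inr ((D.deg_μ k 1).trans e6)))
    · exact absurd (dvd_degree_of_apply_eq_zero ψ.2.isGeneralizedCharacter (by norm_num) (k := 1)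
        (by rw [pow_one, ← K.hx, pow_orderOf_eq_one]) (D.apply_eq_zero_of_notMem hC h K.sing_x)
        ψ.2.cast_charDegree.symm) hψ
  · exact Nat.dvd_antisymm (orderOf_dvd_of_pow_eq_one (K.pow_eq_one_of_sing hC hg)) hg

end BD8x

theorem bd8 : BD8.{u} := fun G _ _ hS hd h19 hn => by
  have := Fintype.ofFinite G
  exact BD8x.main G hS hd h19 hn

end CL.DG9
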