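/-
Project DG9 (S3645): orders and simplicity of `L₂(q)`, `U₃(q)`, `Sz(q)`.
-/
import Cfsg.Agent.DG9.Defs
import Cfsg.Agent.Cls.UniSimple
import Cfsg.Agent.Cls.SL2Tori
import Cfsg.Agent.S1162
import Cfsg.Agent.S1163

set_option autoImplicit false

namespace CL.DG9

open Cfsg Subgroup CL.Grp CL.Loc CL.Even CL.Char
open scoped commutatorElement

universe u

namespace CARDx

theorem nas_of_not_prime {T : Type*} [Group T] [IsSimpleGroup T] [Finite T] (h : ¬ (Nat.card T).Prime) :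
    NAS T := by
  refine ⟨inferInstance, fun hG => ?_⟩
  letI : CommGroup T := { (inferInstance : Group T) with mul_comm := hG.1.1 }
  exact h IsSimpleGroup.prime_card

theorem not_prime_of {p g a b c : ℕ} (hg : g ≤ 3) (h : p * g = a * b * c) (hab : 3 < a * b) (hac : 3 < a * c)
    (hbc : 3 < b * c) : ¬ p.Prime := by
  intro hp
  have ha : 0 < a := Nat.pos_of_ne_zero (by rintro rfl; simp at hab)
  have hb : 0 < b := Nat.pos_of_ne_zero (by rintro rfl; simp at hab)
  have hc : 0 < c := Nat.pos_of_ne_zero (by rintro rfl; simp at hac)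
  have hd : p ∣ a * b * c := ⟨g, h.symm⟩
  have h3 : a * b * c ≤ p * 3 := h ▸ Nat.mul_le_mul_left p hg
  rcases (Nat.Prime.dvd_mul hp).1 hd with h1 | h1
  · rcases (Nat.Prime.dvd_mul hp).1 h1 with h2 | h2
    · have := Nat.le_of_dvd ha h2
      nlinarith
    · have := Nat.le_of_dvd hb h2
      nlinarith
  · have := Nat.le_of_dvd hc h1
    nlinarith

theorem guOrder_three (q : ℕ) : CL.Uni.guOrder q 3 = (q + 1) * (q ^ 3 * (q ^ 2 - 1) * (q ^ 3 + 1)) := by
  simp [CL.Uni.guOrder, Finset.prod_range_succ, Nat.even_add_one]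
  ring

theorem card_PSU3 {F : Type*} [Field F] [Fintype F] {q : ℕ} (hF : Fintype.card F = q ^ 2) :
    Nat.card (PSU 3 F q) * Nat.gcd 3 (q + 1) = q ^ 3 * (q ^ 2 - 1) * (q ^ 3 + 1) := by
  have := (CL.Uni.card_PSU hF (n := 3) (by norm_num)).trans (guOrder_three q)
  refine Nat.eq_of_mul_eq_mul_left (Nat.succ_pos q) (Eq.trans ?_ this)
  simp only [Nat.succ_eq_add_one]
  ring

end CARDx

open CARDx

theorem card : CARD.{u} := by
  intro T _ q
  refine ⟨?_, ?_, ?_⟩
  · rintro ⟨F, _, _, hF, ⟨e⟩⟩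
    have h2 : 2 ≤ q := hF ▸ Fintype.one_lt_card
    have hc : Nat.card T * Nat.gcd 2 (q - 1) = q * (q ^ 2 - 1) := by
      rw [Nat.card_congr e.toEquiv, ← hF]
      exact CL.SL2.card_psl_mul
    refine ⟨h2, hc, fun h4 => ?_⟩
    haveI := CL.SLn.isSimpleGroup_PSL_fin (F := F) 2 le_rfl (fun _ => by omega)
    haveI := e.isSimpleGroup
    haveI : Finite T := Finite.of_equiv _ e.toEquiv.symm
    obtain ⟨r, rfl⟩ : ∃ r, q = r + 1 := ⟨q - 1, by omega⟩
    have e2 : (r + 1) ^ 2 - 1 = r * (r + 2) := by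
      have : (r + 1) ^ 2 = r * (r + 2) + 1 := by ring
      omega
    rw [e2, ← mul_assoc] at hc
    refine nas_of_not_prime (not_prime_of ?_ hc (by nlinarith) (by nlinarith) (by nlinarith))
    exact (Nat.gcd_le_left _ (by norm_num)).trans (by norm_num)
  · rintro ⟨F, _, _, hF, ⟨e⟩⟩
    have h2 : 2 ≤ q := by
      have : 1 < q ^ 2 := hF ▸ Fintype.one_lt_card
      by_contra h
      have : q = 0 ∨ q = 1 := by omega
      rcases this with rfl | rfl <;> simp at *
    have hc : Nat.card T * Nat.gcd 3 (q + 1) = q ^ 3 * (q ^ 2 - 1) * (q ^ 3 + 1) := by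
      rw [Nat.card_congr e.toEquiv]
      exact card_PSU3 hF
    refine ⟨h2, hc, fun h3 => ?_⟩
    haveI := CL.Uni.isSimpleGroup_PSU hF (n := 3) le_rfl (fun h => by omega)
    haveI := e.isSimpleGroup
    haveI : Finite T := Finite.of_equiv _ e.toEquiv.symm
    have a1 : 8 ≤ q ^ 3 := le_trans (by norm_num) (Nat.pow_le_pow_left h2 3)
    have a2 : 3 ≤ q ^ 2 - 1 := by
      have : 2 ^ 2 ≤ q ^ 2 := Nat.pow_le_pow_left h2 2
      omega
    refine nas_of_not_prime (not_prime_of ?_ hc (by nlinarith) (by nlinarith) (by nlinarith))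
    exact Nat.gcd_le_left _ (by norm_num)
  · rintro hm ⟨F, _, _, hF, ⟨e⟩⟩
    haveI := Cfsg.Agent.S1162.result hm hF
    haveI := e.isSimpleGroup
    haveI : Finite T := Finite.of_equiv _ e.toEquiv.symm
    have hc : Nat.card T = (2 ^ (2 * q + 1)) ^ 2 * ((2 ^ (2 * q + 1)) ^ 2 + 1) * (2 ^ (2 * q + 1) - 1) := by
      rw [Nat.card_congr e.toEquiv, (Cfsg.Agent.S1163.result hm hF).1]
      ring
    refine ⟨nas_of_not_prime ?_, hc⟩
    have a0 : 2 ^ 3 ≤ 2 ^ (2 * q + 1) := Nat.pow_le_pow_right (by norm_num) (by omega)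
    have a1 : 8 ^ 2 ≤ (2 ^ (2 * q + 1)) ^ 2 := Nat.pow_le_pow_left a0 2
    have a2 : 7 ≤ 2 ^ (2 * q + 1) - 1 := by omega
    exact not_prime_of (g := 1) (by norm_num) ((mul_one _).trans hc) (by nlinarith) (by nlinarith) (by nlinarith)

end CL.DG9
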