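/-
Project DG9, part CMP: the contributions to the focal subgroup lie in a proper subgroup of `S`.
-/
import Cfsg.Agent.DG9.Defs
import Cfsg.Agent.Fus.SubGrp

set_option autoImplicit false

namespace CL.DG9

open Cfsg Subgroup CL.Grp CL.Loc CL.Even CL.Char
open scoped commutatorElement

universe u

namespace CMPx

variable {G : Type*} [Group G] {S A U U' K R T : Subgroup G} {g g' s t : G}

theorem mulm (h : R.relIndex T = 2) (hs : s ∈ T) (ht : t ∈ T) (sR : s ∉ R) (tR : t ∉ R) : s * t ∈ R :=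
  (mul_mem_iff_of_index_two h (a := ⟨s, hs⟩) (b := ⟨t, ht⟩)).2 (iff_of_false sR tR)

theorem rel_of_card [Finite G] (h : R ≤ T) {n : ℕ} (e : Nat.card T = n * Nat.card R) : R.relIndex T = n := by
  have h1 := (R.subgroupOf T).index_mul_card
  rw [Nat.card_congr (subgroupOfEquivOfLe h).toEquiv, e] at h1
  exact Nat.eq_of_mul_eq_mul_right Nat.card_pos h1

theorem norm_of (h1 : ⁅S, S⁆ ≤ K) (h2 : K ≤ S) : S ≤ 𝒩(K) := by
  refine le_norm_of_cj_le fun s hs x hx => ?_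
  rw [mem_cj] at hx
  have e : x = ⁅s, s⁻¹ * x * s⁆ * (s⁻¹ * x * s) := by rw [commutatorElement_def]; group
  rw [e]
  exact mul_mem (h1 (commutator_mem_commutator hs (h2 hx))) hx

theorem card_le [Finite G] (h1 : ⁅S, S⁆ ≤ K) (h2 : K ≤ S) (hs : s ∈ S) (hq : s * s ∈ ⁅S, S⁆) :
    Nat.card (K ⊔ zpowers s : Subgroup G) ≤ 2 * Nat.card K := by
  by_cases h : s ∈ K
  · rw [sup_eq_left.2 (zpowers_le.2 h)]; omega
  · have : Fact (Nat.Prime 2) := ⟨Nat.prime_two⟩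
    exact (CL.Fus.card_sup_zpowers_of_normalizer (p := 2) (norm_of h1 h2 hs) h (by rw [pow_two]; exact h1 hq)).le

theorem sup_eq (h : g * g'⁻¹ ∈ A) : A ⊔ zpowers g = A ⊔ zpowers g' := by
  refine le_antisymm (sup_le le_sup_left (zpowers_le.2 ?_)) (sup_le le_sup_left (zpowers_le.2 ?_))
  · have e : g = g * g'⁻¹ * g' := by group
    rw [e]
    exact mul_mem (mem_sup_left h) (mem_sup_right (mem_zpowers _))
  · have e : g' = (g * g'⁻¹)⁻¹ * g := by group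
    have : (g * g'⁻¹)⁻¹ * g ∈ A ⊔ zpowers g := mul_mem (mem_sup_left (inv_mem h)) (mem_sup_right (mem_zpowers _))
    rwa [← e] at this

theorem key (hC : C3 S A) (h : PG S A U g) (h' : PG S A U' g') (hg : g' ∈ S) (hs : s ∈ S) (e : U' = cj s U) :
    g' * g ∈ ⁅S, S⁆ := by
  obtain ⟨x, hx, ho, v, hv, ev⟩ := h'.ex
  rw [e, ← cj_norm, mem_cj] at hx
  rw [e, mem_cj] at hv
  have ho' : Odd (orderOf (s⁻¹ * x * s)) := by
    have := (MulAut.conj s⁻¹).orderOf_eq x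
    rw [MulAut.conj_apply, inv_inv] at this
    rwa [this]
  have e2 : ⁅s⁻¹ * x * s, s⁻¹ * v * s⁆ = ⁅s⁻¹, g'⁆ * g' := by
    rw [ev]; simp only [commutatorElement_def]; group
  have hc : ⁅s⁻¹, g'⁆ ∈ ⁅S, S⁆ := commutator_mem_commutator (inv_mem hs) hg
  rcases h.all _ hx ho' _ hv with h1 | h1
  · rw [e2, mul_mem_cancel_left hc] at h1
    exact absurd (hC.AD (hC.DA h1)) h'.out
  · rwa [e2, mul_assoc, mul_mem_cancel_left hc] at h1

theorem pair (hC : C3 S A) (h : PG S A U g) (h' : PG S A U' g') (hg : g' ∈ S) (hA : g * g'⁻¹ ∈ A) :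
    g' * g ∈ ⁅S, S⁆ := by
  have e := sup_eq hA
  rcases h.shape with ⟨h1, h2⟩ | ⟨h1, h2, h3⟩ <;> rcases h'.shape with ⟨h4, h5⟩ | ⟨h4, h5, h6⟩
  · exact key hC h h' hg (one_mem S) (by rw [cj_one, h1, h4, e])
  · exact absurd h4 (h2 U' (by rw [h1, e]; exact h5))
  · exact absurd h1 (h5 U (by rw [h4, ← e]; exact h2))
  · obtain ⟨s, hs, es⟩ := h3 U' (by rw [e]; exact h5) h4
    exact key hC h h' hg hs es

theorem two [Finite G] (hC : C3 S A) : ∃ a b : G, (a ∈ S ∧ a * a ∈ ⁅S, S⁆) ∧ (b ∈ S ∧ b * b ∈ ⁅S, S⁆) ∧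
    ∀ U ≤ S, ∀ g, PG S A U g → a * g ∈ ⁅S, S⁆ ∨ b * g ∈ ⁅S, S⁆ := by
  have i1 : (S ⊓ 𝒞(⁅S, S⁆)).relIndex S = 2 := rel_of_card inf_le_left (by rw [hC.card, hC.cardM])
  have i2 : A.relIndex (S ⊓ 𝒞(⁅S, S⁆)) = 2 := rel_of_card (le_inf hC.le hC.AD) (by rw [hC.cardA, hC.cardM])
  have hM : ∀ {U U' : Subgroup G} {g g' : G}, U ≤ S → U' ≤ S → PG S A U g → PG S A U' g' →
      g * g'⁻¹ ∈ S ⊓ 𝒞(⁅S, S⁆) := fun hU hU' h h' =>
    mulm i1 (hU h.mem) (inv_mem (hU' h'.mem)) (fun k => h.out k.2) (fun k => h'.out (inv_mem_iff.1 k).2)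
  by_cases h0 : ∃ U ≤ S, ∃ a, PG S A U a
  · obtain ⟨U1, hU1, a, ha⟩ := h0
    by_cases h1 : ∃ U ≤ S, ∃ b, PG S A U b ∧ a * b⁻¹ ∉ A
    · obtain ⟨U2, hU2, b, hb, hab⟩ := h1
      refine ⟨a, b, ⟨hU1 ha.mem, ha.sq⟩, ⟨hU2 hb.mem, hb.sq⟩, fun U hU g hg => ?_⟩
      by_cases h2 : g * a⁻¹ ∈ A
      · exact Or.inl (pair hC hg ha (hU1 ha.mem) h2)
      · have h3 := mulm i2 (hM hU hU1 hg ha) (hM hU1 hU2 ha hb) h2 hab
        have e : g * a⁻¹ * (a * b⁻¹) = g * b⁻¹ := by group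
        rw [e] at h3
        exact Or.inr (pair hC hg hb (hU2 hb.mem) h3)
    · refine ⟨a, a, ⟨hU1 ha.mem, ha.sq⟩, ⟨hU1 ha.mem, ha.sq⟩, fun U hU g hg => Or.inl ?_⟩
      have h2 : a * g⁻¹ ∈ A := by
        by_contra h2
        exact h1 ⟨U, hU, g, hg, h2⟩
      refine pair hC hg ha (hU1 ha.mem) ?_
      have e : g * a⁻¹ = (a * g⁻¹)⁻¹ := by group
      rw [e]
      exact inv_mem h2
  · exact ⟨1, 1, ⟨one_mem _, by rw [one_mul]; exact one_mem _⟩, ⟨one_mem _, by rw [one_mul]; exact one_mem _⟩,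
      fun U hU g hg => absurd ⟨U, hU, g, hg⟩ h0⟩

end CMPx

open CMPx in
theorem cmp : CMP.{u} := by
  intro G _ _ S A hC hP
  obtain ⟨a, b, ⟨ha, ha2⟩, ⟨hb, hb2⟩, hab⟩ := two hC
  have hD : ⁅S, S⁆ ≤ S := hC.DA.trans hC.le
  have h1 : ⁅S, S⁆ ⊔ zpowers a ≤ S := sup_le hD (zpowers_le.2 ha)
  have hW : ⁅S, S⁆ ≤ ⁅S, S⁆ ⊔ zpowers a ⊔ zpowers b := le_sup_left.trans le_sup_left
  refine ⟨⁅S, S⁆ ⊔ zpowers a ⊔ zpowers b, sup_le h1 (zpowers_le.2 hb), fun e => ?_, hW, fun U hU x hx ho v hv => ?_⟩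
  · have c1 := card_le le_rfl hD ha ha2
    have c2 := card_le le_sup_left h1 hb hb2
    rw [e, hC.card] at c2
    rw [hC.cardD] at c1
    omega
  · by_cases hc : x ∈ 𝒞(U)
    · have : ⁅x, v⁆ = 1 := by
        rw [commutatorElement_eq_one_iff_mul_comm]
        exact (mem_centralizer_iff.1 hc v hv).symm
      rw [this]
      exact one_mem _
    · obtain ⟨g, hg⟩ := hP U hU ⟨x, hx, ho, hc⟩
      have hgW : g ∈ ⁅S, S⁆ ⊔ zpowers a ⊔ zpowers b := by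
        rcases hab U hU.1.1 g hg with h | h
        · exact (mul_mem_cancel_left (mem_sup_left (mem_sup_right (mem_zpowers a)))).1 (hW h)
        · exact (mul_mem_cancel_left (mem_sup_right (mem_zpowers b))).1 (hW h)
      rcases hg.all x hx ho v hv with h | h
      · exact hW h
      · exact (mul_mem_cancel_right hgW).1 (hW h)

end CL.DG9
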