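/-
Project DG9 (S3645): counting in the doubly transitive action on the Sylow 7-subgroups.
-/
import Cfsg.Agent.DG9.Defs

set_option autoImplicit false

namespace CL.DG9

open Cfsg Subgroup CL.Grp CL.Loc CL.Even CL.Char
open scoped commutatorElement

universe u

namespace CT7x

open Finset MulAction

variable {G : Type u} [Group G] {Ω : Type*} [MulAction G Ω]

theorem fib {P Q X Y : Ω} {g : G} (h1 : g • P = X) (h2 : g • Q = Y) :
    Nat.card {s : G // s • P = X ∧ s • Q = Y} = Nat.card (stabilizer G P ⊓ stabilizer G Q : Subgroup G) :=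
  Nat.card_congr ((Equiv.mulLeft g⁻¹).subtypeEquiv fun s => by
    simp only [Equiv.coe_mulLeft, Subgroup.mem_inf, mem_stabilizer_iff, mul_smul, inv_smul_eq_iff, h1, h2])

theorem cjc (g : G) (X Y X' Y' : Ω) : Nat.card {s : G // orderOf s = 2 ∧ s • g • X = g • X' ∧ s • g • Y = g • Y'} =
    Nat.card {s : G // orderOf s = 2 ∧ s • X = X' ∧ s • Y = Y'} :=
  Nat.card_congr ((MulAut.conj g⁻¹).toEquiv.subtypeEquiv fun s => by
    refine and_congr (by rw [MulEquiv.toEquiv_eq_coe, MulEquiv.coe_toEquiv, MulEquiv.orderOf_eq]) ?_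
    simp [mul_smul, inv_smul_eq_iff])

end CT7x

open CT7x Finset MulAction in
theorem ct7 : CT7.{u} := fun G _ _ P Q h ne => by
  classical
  have := Fintype.ofFinite G
  have := Fintype.ofFinite (Sylow 7 G)
  have two : ∀ {X Y : Sylow 7 G}, X ≠ Y → ∃ g : G, g • P = X ∧ g • Q = Y := fun e =>
    is_two_pretransitive_iff.1 h.two ne e
  have cO : #(univ : Finset (Sylow 7 G)).offDiag = 344 * 344 - 344 := by
    rw [offDiag_card, card_univ, ← Nat.card_eq_fintype_card, h.deg]
  have nc : ∀ (p : G → Prop) [DecidablePred p], Nat.card {s // p s} = #(univ.filter p) := fun p _ => by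
    rw [Nat.card_eq_fintype_card, Fintype.card_subtype]
  have c1 : Nat.card (H7 P Q) = 48 := by
    have k := card_mul_eq_card_mul (s := (univ : Finset G)) (t := (univ : Finset (Sylow 7 G)).offDiag)
      (fun g x => g • P = x.1 ∧ g • Q = x.2) (m := 1) (n := Nat.card (H7 P Q))
      (fun g _ => card_eq_one.2 ⟨(g • P, g • Q), by
        ext ⟨X, Y⟩
        simp only [mem_bipartiteAbove, mem_offDiag, mem_univ, true_and, mem_singleton, Prod.mk.injEq]
        exact ⟨fun e => ⟨e.2.1.symm, e.2.2.symm⟩, fun e => ⟨e.1 ▸ e.2 ▸ (smul_left_cancel_iff g).not.2 ne, e.1.symm, e.2.symm⟩⟩⟩)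
      fun x hx => by
        obtain ⟨g, h1, h2⟩ := two (mem_offDiag.1 hx).2.2
        rw [← fib h1 h2, nc]; rfl
    rw [cO, card_univ, ← Nat.card_eq_fintype_card, h.card] at k
    omega
  have fx : ∀ t : G, orderOf t = 2 → #(univ.filter fun X : Sylow 7 G => t • X = X) = 8 := fun t ht => by
    rw [← h.fix2 t ht, Nat.card_eq_fintype_card, Fintype.card_subtype]; rfl
  refine ⟨c1, fun g hg => ?_, ?_, ?_⟩
  · have nP : ∀ y : G, y ∈ (P : Subgroup G) → y • Q ≠ P := fun y hy e =>
      ne ((smul_left_cancel_iff y).1 ((Sylow.smul_eq_iff_mem_normalizer.2 (le_normalizer hy)).trans e.symm))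
    let f : Option ((P : Subgroup G) ⊓ centralizer {g} : Subgroup G) → fixedBy (Sylow 7 G) g := fun o =>
      o.elim ⟨P, hg.1⟩ fun y => ⟨(y : G) • Q, by
        rw [mem_fixedBy, ← mul_smul, ← mem_centralizer_singleton_iff.1 y.2.2, mul_smul, show g • Q = Q from hg.2]⟩
    have bij : Function.Bijective f := by
      refine ⟨?_, fun ⟨R, hR⟩ => ?_⟩
      · rintro (_ | x) (_ | y) e
        · rfl
        · exact (nP y y.2.1 (congrArg Subtype.val e).symm).elim
        · exact (nP x x.2.1 (congrArg Subtype.val e)).elim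
        · have k := congrArg Subtype.val ((h.reg P Q _ ne.symm (nP y y.2.1)).unique
            (y₁ := ⟨x, x.2.1⟩) (y₂ := ⟨y, y.2.1⟩) (congrArg Subtype.val e) rfl)
          exact congrArg some (Subtype.ext k)
      · by_cases e : R = P
        · exact ⟨none, Subtype.ext e.symm⟩
        obtain ⟨y, hy, u⟩ := h.reg P Q R ne.symm e
        have m : g * y * g⁻¹ ∈ (P : Subgroup G) :=
          (mem_normalizer_iff.1 (Sylow.smul_eq_iff_mem_normalizer.1 hg.1) y).1 y.2
        have k := congrArg Subtype.val (u ⟨_, m⟩ (by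
          show (g * y * g⁻¹) • Q = R
          rw [mul_smul, mul_smul, inv_smul_eq_iff.2 (show g • Q = Q from hg.2).symm, hy]; exact hR))
        exact ⟨some ⟨y, y.2, mem_centralizer_singleton_iff.2 (mul_inv_eq_iff_eq_mul.1 k).symm⟩, Subtype.ext hy⟩
    rw [← Nat.card_eq_of_bijective f bij, Finite.card_option, add_comm]
  · have k1 := card_mul_eq_card_mul (s := univ.filter fun t : G => orderOf t = 2)
      (t := (univ : Finset (Sylow 7 G)).offDiag) (fun g x => g • x.1 = x.1 ∧ g • x.2 = x.2) (m := 56)
      (n := Nat.card {h : G // orderOf h = 2 ∧ h ∈ H7 P Q})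
      (fun t ht => by
        have e : (univ : Finset (Sylow 7 G)).offDiag.bipartiteAbove (fun (g : G) x => g • x.1 = x.1 ∧ g • x.2 = x.2) t =
            (univ.filter fun X : Sylow 7 G => t • X = X).offDiag := by
          ext x
          simp only [mem_bipartiteAbove, mem_offDiag, mem_univ, true_and, mem_filter]
          tauto
        rw [e, offDiag_card, fx t (mem_filter.1 ht).2])
      fun x hx => by
        obtain ⟨g, h1, h2⟩ := two (mem_offDiag.1 hx).2.2
        refine Eq.trans ?_ (cjc g P Q P Q)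
        rw [nc, h1, h2, bipartiteBelow, filter_filter]
    have k2 := card_mul_eq_card_mul (s := univ.filter fun t : G => orderOf t = 2)
      (t := (univ : Finset (Sylow 7 G)).offDiag) (fun g x => g • x.1 = x.2 ∧ g • x.2 = x.1) (m := 336)
      (n := Nat.card {s : G // orderOf s = 2 ∧ s • P = Q ∧ s • Q = P})
      (fun t ht => by
        have o := (mem_filter.1 ht).2
        have tt : ∀ X : Sylow 7 G, t • t • X = X := fun X => by
          rw [← mul_smul, ← pow_two, ← o, pow_orderOf_eq_one, one_smul]
        have e : (univ : Finset (Sylow 7 G)).offDiag.bipartiteAbove (fun (g : G) x => g • x.1 = x.2 ∧ g • x.2 = x.1) t =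
            (univ.filter fun X : Sylow 7 G => ¬ t • X = X).image fun X => (X, t • X) := by
          ext ⟨X, Y⟩
          simp only [mem_bipartiteAbove, mem_offDiag, mem_univ, true_and, mem_filter, mem_image, Prod.mk.injEq]
          exact ⟨fun e => ⟨X, fun k => e.1 (k.symm.trans e.2.1), rfl, e.2.1⟩, by
            rintro ⟨X, k, rfl, rfl⟩
            exact ⟨Ne.symm k, rfl, tt X⟩⟩
        have c := card_filter_add_card_filter_not (s := (univ : Finset (Sylow 7 G))) fun X => t • X = X
        rw [fx t o, card_univ, ← Nat.card_eq_fintype_card, h.deg] at c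
        rw [e, card_image_of_injective _ fun _ _ k => congrArg Prod.fst k]
        omega)
      fun x hx => by
        obtain ⟨g, h1, h2⟩ := two (mem_offDiag.1 hx).2.2
        refine Eq.trans ?_ (cjc g P Q Q P)
        rw [nc, h1, h2, bipartiteBelow, filter_filter]
    rw [cO] at k1 k2
    omega
  · obtain ⟨g, h1, h2⟩ := two ne.symm
    exact (fib h1 h2).trans c1

end CL.DG9
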