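/-
Project DG9: the two-point stabiliser of order 48 is cyclic.
-/
import Cfsg.Agent.DG9.Defs
import Cfsg.Agent.Grp.PGroupCyc

set_option autoImplicit false

namespace CL.DG9

open Cfsg Subgroup CL.Grp CL.Loc CL.Even CL.Char
open scoped commutatorElement

universe u

namespace CY7x

variable {G : Type*} [Group G] [Finite G]

theorem cm3 {a r : G} {n : ℕ} (ha : orderOf a = n) (hn : ∀ x : ZMod n, x ^ 3 = 1 → x = 1) (hr : r ^ 3 = 1)
    (h : r * a * r⁻¹ ∈ zpowers a) : Commute r a := by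
  obtain ⟨i, hi⟩ := mem_powers_iff_mem_zpowers.2 h
  have hi' : MulAut.conj r a = a ^ i := hi.symm
  have h3 : a ^ (i ^ 3) = a ^ 1 := by
    have : (MulAut.conj r * MulAut.conj r * MulAut.conj r) a = a ^ (i ^ 3) := by
      simp only [MulAut.mul_apply, hi', map_pow, ← pow_mul, pow_three']
    rw [← this, ← map_mul, ← map_mul, ← pow_three', hr, map_one, pow_one, MulAut.one_apply]
  rw [pow_eq_pow_iff_modEq, ha, ← ZMod.natCast_eq_natCast_iff] at h3
  have h1 : a ^ i = a ^ 1 := by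
    rw [pow_eq_pow_iff_modEq, ha, ← ZMod.natCast_eq_natCast_iff, Nat.cast_one]
    exact hn _ (by exact_mod_cast h3)
  exact mul_inv_eq_iff_eq_mul.1 (hi.symm.trans (h1.trans (pow_one a)))

theorem struct {R : Subgroup G} {t : G} (h16 : Nat.card R = 16) (ht : ∀ h ∈ R, orderOf h = 2 → h = t) :
    (∃ a ∈ R, orderOf a = 16 ∧ ∀ w ∈ R, w ∈ zpowers a) ∨
    ∃ a ∈ R, ∃ b ∈ R, orderOf a = 8 ∧ b ∉ zpowers a ∧ (∀ w ∈ R, w ∈ zpowers a ∨ ∃ v ∈ zpowers a, w = v * b) ∧
      ∀ v ∈ zpowers a, v * b * (v * b) = t := by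
  have hp : IsPGroup 2 R := IsPGroup.of_card (n := 4) h16
  rcases isCyclic_or_quaternion_of_forall_ea hp (fun E hE hc => by
    have hs : ∀ x y : E, x ≠ 1 → y ≠ 1 → x = y := fun x y hx hy => by
      have k : ∀ x : E, x ≠ 1 → (x.1 : G) = t := fun x hx => ht _ x.1.2 (by
        rw [orderOf_coe, orderOf_coe]
        exact orderOf_eq_prime (Subtype.ext (hE.2 _ x.2)) hx)
      exact Subtype.ext (Subtype.ext ((k x hx).trans (k y hy).symm))
    have := Fintype.ofFinite E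
    obtain ⟨x, y, z, h1, h2, h3⟩ := Fintype.two_lt_card_iff.1 (show 2 < Fintype.card E by
      rw [← Nat.card_eq_fintype_card, hc]; norm_num)
    by_cases hx : x = 1
    · exact h3 (hs y z (fun e => h1 (hx.trans e.symm)) fun e => h2 (hx.trans e.symm))
    · by_cases hy : y = 1
      · exact h2 (hs x z hx fun e => h3 (hy.trans e.symm))
      · exact h1 (hs x y hx hy)) with h | ⟨-, n, a, b, h, h1, h2⟩
  · obtain ⟨a, ha⟩ := h.exists_generator
    refine .inl ⟨a, a.2, by rw [orderOf_coe, orderOf_eq_card_of_forall_mem_zpowers ha, h16], fun w hw => ?_⟩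
    obtain ⟨i, hi⟩ := ha ⟨w, hw⟩
    exact ⟨i, congrArg Subtype.val hi⟩
  · obtain rfl : n = 3 := by
      have := Nat.pow_right_injective le_rfl (h.card.symm.trans (show _ = 2 ^ 4 from h16))
      omega
    refine .inr ⟨a, a.2, b, b.2, by rw [orderOf_coe, h.ord]; rfl, fun ⟨i, hi⟩ => h.notMem ⟨i, Subtype.ext hi⟩,
      fun w hw => ?_, ?_⟩
    · obtain ⟨i, e | e⟩ := h.elt ⟨w, hw⟩
      · exact .inl ⟨i, (congrArg Subtype.val e).symm⟩
      · exact .inr ⟨_, ⟨i, rfl⟩, congrArg Subtype.val e⟩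
    · rintro _ ⟨i, rfl⟩
      have e : a ^ i * b * (a ^ i * b) = a ^ 2 ^ (3 - 1) := by
        calc a ^ i * b * (a ^ i * b) = a ^ i * (b * a * b⁻¹) ^ i * b ^ 2 := by rw [conj_zpow, pow_two]; group
          _ = _ := by rw [h2, h1]; group
      exact (congrArg Subtype.val e).trans (ht _ (a ^ 2 ^ (3 - 1)).2 ((orderOf_coe _).trans h.orderOf_z))

end CY7x

open CY7x MulAction in
theorem cy7 (h1 : CT7.{u}) (h2 : NR7.{u}) : CY7.{u} := by
  intro G _ _ P Q A hPQ
  classical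
  obtain ⟨c48, -, c6, -⟩ := h1 G P Q A hPQ
  obtain ⟨R, t, hR, c16, hN, tR, ht⟩ := h2 G P Q A hPQ
  have t2 : orderOf t = 2 := (ht t (hR tR)).2 rfl
  have tt : t * t = 1 := by rw [← pow_two, ← t2, pow_orderOf_eq_one]
  have : Fact (Nat.Prime 3) := ⟨Nat.prime_three⟩
  obtain ⟨⟨r, rH⟩, hr⟩ := exists_prime_orderOf_dvd_card' (G := H7 P Q) 3 (by rw [c48]; norm_num)
  rw [← orderOf_coe] at hr
  change orderOf r = 3 at hr
  have r3 : r ^ 3 = 1 := hr ▸ pow_orderOf_eq_one r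
  have rn : ∀ w ∈ R, r * w * r⁻¹ ∈ R := fun w hw => (mem_normalizer_iff.1 (hN rH) w).1 hw
  have w16 : ∀ w ∈ R, w ^ 16 = 1 := fun w hw => congrArg Subtype.val (c16 ▸ pow_card_eq_one' (x := (⟨w, hw⟩ : R)))
  have v3 : ∀ v ∈ zpowers r, v ^ 3 = 1 := by
    rintro _ ⟨i, rfl⟩
    rw [← zpow_natCast, ← zpow_mul, mul_comm, zpow_mul, zpow_natCast, r3, one_zpow]
  have v16 : ∀ v : G, v ^ 3 = 1 → v ^ 16 = v := fun v hv => by
    rw [show 16 = 3 * 5 + 1 from rfl, pow_succ, pow_mul, hv, one_pow, one_mul]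
  rcases struct c16 fun h hh => (ht h (hR hh)).1 with ⟨a, aR, ha, hg⟩ | ⟨a, aR, b, bR, ha, hb, hg, hq⟩
  · have hc := cm3 ha (by decide) r3 (hg _ (rn a aR))
    refine isCyclic_of_orderOf_eq_card (⟨r * a, mul_mem rH (hR aR)⟩ : H7 P Q) ?_
    rw [← orderOf_coe, c48]
    exact (hc.orderOf_mul_eq_mul_orderOf_of_coprime (by rw [hr, ha]; norm_num)).trans (by rw [hr, ha])
  exfalso
  have ra : Commute r a := cm3 ha (by decide) r3 ((hg _ (rn a aR)).resolve_right fun ⟨v, hv, e⟩ => by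
    have h4 : (r * a * r⁻¹) ^ 4 = 1 := by
      rw [e, show 4 = 2 * 2 from rfl, pow_mul, pow_two (v * b), hq v hv, pow_two, tt]
    rw [conj_pow, conj_eq_one_iff, ← orderOf_dvd_iff_pow_eq_one, ha] at h4
    omega)
  have rv : ∀ v ∈ zpowers a, Commute r v := by rintro _ ⟨i, rfl⟩; exact ra.zpow_right i
  have rb : Commute r b := by
    rcases hg _ (rn b bR) with h | ⟨v, hv, e⟩
    · have e := (rv _ h).eq
      rw [inv_mul_cancel_right, mul_left_cancel_iff] at e
      exact absurd (e ▸ h) hb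
    · have e1 : MulAut.conj r b = v * b := e
      have e2 : MulAut.conj r v = v := mul_inv_eq_iff_eq_mul.2 (rv v hv).eq
      have e3 : (MulAut.conj r * MulAut.conj r * MulAut.conj r) b = v ^ 3 * b := by
        simp only [MulAut.mul_apply, e1, map_mul, e2, pow_three', mul_assoc]
      rw [← map_mul, ← map_mul, ← pow_three', r3, map_one, MulAut.one_apply, right_eq_mul] at e3
      have e4 : v = 1 := by rw [← v16 v e3, w16 v (zpowers_le.2 aR hv)]
      rw [e4, one_mul] at e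
      exact mul_inv_eq_iff_eq_mul.1 e
  have rw' : ∀ v ∈ zpowers r, ∀ w ∈ R, Commute v w := by
    rintro _ ⟨i, rfl⟩ w hw
    rcases hg w hw with h | ⟨v, hv, rfl⟩
    exacts [(rv w h).zpow_left i, ((rv v hv).mul_right rb).zpow_left i]
  have inj : ∀ u ∈ R, ∀ v ∈ zpowers r, ∀ u' ∈ R, ∀ v' ∈ zpowers r, u * v = u' * v' → u = u' ∧ v = v' :=
    fun u hu v hv u' hu' v' hv' e => by
      have e1 := congrArg (· ^ 16) e
      simp only [(rw' v hv u hu).symm.mul_pow, (rw' v' hv' u' hu').symm.mul_pow, w16 u hu, w16 u' hu', one_mul,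
        v16 v (v3 v hv), v16 v' (v3 v' hv')] at e1
      exact ⟨mul_right_cancel (e.trans (by rw [e1])), e1⟩
  have dec : ∀ h ∈ H7 P Q, ∃ u ∈ R, ∃ v ∈ zpowers r, h = u * v := fun h hh => by
    obtain ⟨x, hx⟩ := ((Nat.bijective_iff_injective_and_card (fun x : R × zpowers r =>
      (⟨x.1 * x.2, mul_mem (hR x.1.2) (zpowers_le.2 rH x.2.2)⟩ : H7 P Q))).2 ⟨fun x y e => by
        obtain ⟨e1, e2⟩ := inj _ x.1.2 _ x.2.2 _ y.1.2 _ y.2.2 (congrArg Subtype.val e)
        exact Prod.ext (Subtype.ext e1) (Subtype.ext e2),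
        by rw [Nat.card_prod, c16, Nat.card_zpowers, hr, c48]⟩).2 ⟨h, hh⟩
    exact ⟨_, x.1.2, _, x.2.2, (congrArg Subtype.val hx).symm⟩
  have c1 : Nat.card {h : G // orderOf h = 2 ∧ h ∈ H7 P Q} = 1 := Nat.card_eq_one_iff_unique.2
    ⟨⟨fun x y => Subtype.ext (((ht _ x.2.2).1 x.2.1).trans ((ht _ y.2.2).1 y.2.1).symm)⟩, ⟨⟨t, t2, hR tR⟩⟩⟩
  rw [c1] at c6
  obtain ⟨⟨s, s2, sP, sQ⟩⟩ := (Nat.card_ne_zero.1 (c6.trans_ne (by norm_num))).1
  have ss : s * s = 1 := by rw [← pow_two, ← s2, pow_orderOf_eq_one]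
  have si : s⁻¹ = s := inv_eq_of_mul_eq_one_right ss
  have sH : ∀ h ∈ H7 P Q, s * h * s⁻¹ ∈ H7 P Q := fun h hh => by
    constructor
    · change _ • P = P
      rw [si, mul_smul, mul_smul, sP, hh.2, sQ]
    · change _ • Q = Q
      rw [si, mul_smul, mul_smul, sQ, hh.1, sP]
  have h16 : ∀ h ∈ H7 P Q, h ^ 16 ∈ zpowers r ∧ (h ^ 16 = 1 → h ∈ R) := fun h hh => by
    obtain ⟨u, hu, v, hv, rfl⟩ := dec h hh
    rw [(rw' v hv u hu).symm.mul_pow, w16 u hu, one_mul, v16 v (v3 v hv)]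
    exact ⟨hv, fun e => by rwa [e, mul_one]⟩
  have sR : ∀ w ∈ R, s * w * s⁻¹ ∈ R := fun w hw => (h16 _ (sH w (hR hw))).2 (by rw [conj_pow, w16 w hw]; simp)
  have sr : s * r * s⁻¹ = r⁻¹ := by
    have h := (h16 _ (sH r rH)).1
    rw [v16 _ (by rw [conj_pow, r3]; simp), mem_zpowers_iff_mem_range_orderOf, hr] at h
    obtain ⟨i, hi, e⟩ := Finset.mem_image.1 h
    have hi := Finset.mem_range.1 hi
    interval_cases i
    · rw [pow_zero, eq_comm, conj_eq_one_iff] at e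
      rw [e, orderOf_one] at hr
      omega
    · exfalso
      have hc : Commute s r := mul_inv_eq_iff_eq_mul.1 (e.symm.trans (pow_one r))
      have f1 := A.fix3 (s * r) (by
        rw [hc.orderOf_mul_eq_mul_orderOf_of_coprime (by rw [hr, s2]; norm_num), hr, s2]; norm_num)
      have f2 := A.fix3 r (by rw [hr])
      have e4 : (s * r) ^ 4 = r := by
        rw [hc.mul_pow, show 4 = 2 * 2 from rfl, pow_mul, pow_two s, ss, one_pow, one_mul, show 2 * 2 = 3 + 1 from rfl,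
          pow_succ, r3, one_mul]
      have e5 := Set.eq_of_subset_of_ncard_le (fixedBy_subset_fixedBy_zpow (Sylow 7 G) (s * r) (4 : ℕ))
        (by rw [zpow_natCast, e4]; exact (f2.trans f1.symm).le)
      rw [zpow_natCast, e4] at e5
      have h5 : P ∈ fixedBy (Sylow 7 G) (s * r) := e5 ▸ rH.1
      rw [mem_fixedBy, mul_smul, rH.1, sP] at h5
      exact hPQ h5.symm
    · rw [← e, eq_inv_iff_mul_eq_one, ← pow_succ, r3]
  have inv2 : ∀ w ∈ R, s * w * s⁻¹ = w⁻¹ → w = 1 ∨ w = t := fun w hw e => by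
    by_contra hc
    push Not at hc
    have t1 : t ≠ 1 := fun e => by rw [e, orderOf_one] at t2; omega
    have hle := Nat.card_le_card_of_injective (fun x : {u : G // u ∈ R ∧ s * u * s⁻¹ = u⁻¹} × zpowers r =>
      (⟨s * (x.1 * x.2), by
        obtain ⟨⟨u, hu, e⟩, ⟨_, i, rfl⟩⟩ := x
        have hH : u * r ^ i ∈ H7 P Q := mul_mem (hR hu) (zpow_mem rH i)
        have e1 : (s * (u * r ^ i)) • P = Q := by rw [mul_smul, hH.1, sP]
        refine ⟨orderOf_eq_prime ?_ fun e0 => hPQ (by rw [← e1, e0, one_smul]), e1, by rw [mul_smul, hH.2, sQ]⟩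
        calc (s * (u * r ^ i)) ^ 2 = (s * u * s⁻¹) * (s * r * s⁻¹) ^ i * (s * s) * (u * r ^ i) := by
              rw [conj_zpow, pow_two]; group
          _ = 1 := by rw [e, sr, ss, ← (rw' _ ⟨i, rfl⟩ u hu).eq]; group⟩ :
        {s : G // orderOf s = 2 ∧ s • P = Q ∧ s • Q = P})) fun x y e => by
      obtain ⟨e1, e2⟩ := inj _ x.1.2.1 _ x.2.2 _ y.1.2.1 _ y.2.2 (mul_left_cancel (congrArg Subtype.val e))
      exact Prod.ext (Subtype.ext e1) (Subtype.ext e2)
    rw [Nat.card_prod, Nat.card_zpowers, hr, c6] at hle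
    have := Fintype.ofFinite {u : G // u ∈ R ∧ s * u * s⁻¹ = u⁻¹}
    have h3 := Fintype.two_lt_card_iff.2 ⟨(⟨w, hw, e⟩ : {u : G // u ∈ R ∧ s * u * s⁻¹ = u⁻¹}), ⟨1, one_mem _, by simp⟩,
      ⟨t, tR, ((ht _ (sH t (hR tR))).1 (((MulAut.conj s).orderOf_eq t).trans t2)).trans
        (inv_eq_of_mul_eq_one_right tt).symm⟩, fun e => hc.1 (congrArg Subtype.val e),
      fun e => hc.2 (congrArg Subtype.val e), fun e => t1 (congrArg Subtype.val e).symm⟩
    rw [← Nat.card_eq_fintype_card] at h3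
    omega
  have sq : ∀ v ∈ zpowers a, Commute s (v * b) := fun v hv => by
    have hw : v * b ∈ R := mul_mem (zpowers_le.2 aR hv) bR
    have hq' := hq v hv
    generalize v * b = w at hw hq'
    rcases inv2 (w⁻¹ * (s * w * s⁻¹)) (mul_mem (inv_mem hw) (sR w hw)) (by
      calc s * (w⁻¹ * (s * w * s⁻¹)) * s⁻¹ = s * w⁻¹ * s⁻¹ * (s * s) * w * (s * s)⁻¹ := by group
        _ = _ := by rw [ss]; group) with e | e
    · exact mul_inv_eq_iff_eq_mul.1 (inv_mul_eq_one.1 e).symm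
    · exfalso
      rcases inv2 w hw (by
        rw [inv_mul_eq_iff_eq_mul.1 e, eq_inv_iff_mul_eq_one, ← hq', mul_assoc, mul_assoc, ← mul_assoc w w, hq', tt])
        with e | e
      · rw [e, one_mul] at hq'
        rw [← hq', orderOf_one] at t2
        omega
      · rw [e, tt] at hq'
        rw [← hq', orderOf_one] at t2
        omega
  have sw : ∀ w ∈ R, Commute s w := fun w hw => by
    rcases hg w hw with h | ⟨v, hv, rfl⟩
    · simpa using (sq w h).mul_right (sq 1 (one_mem _)).inv_right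
    · exact sq v hv
  have hsub : fixedBy (Sylow 7 G) s ⊆ fixedBy (Sylow 7 G) t := fun x hx => by
    by_contra hxt
    have hle := Nat.card_le_card_of_injective (fun w : R => (⟨w.1 • x, by
      rw [mem_fixedBy, ← mul_smul, (sw w w.2).eq, mul_smul, hx]⟩ : fixedBy (Sylow 7 G) s)) fun w w' e => by
      have e1 : ((w' : G)⁻¹ * w) • x = x := by rw [mul_smul, inv_smul_eq_iff]; exact congrArg Subtype.val e
      have hm : (w' : G)⁻¹ * w ∈ R := mul_mem (inv_mem w'.2) w.2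
      refine Subtype.ext (inv_mul_eq_one.1 ?_).symm
      generalize (w' : G)⁻¹ * w = y at e1 hm
      by_contra y1
      obtain ⟨k, -, hk⟩ := (Nat.dvd_prime_pow Nat.prime_two (i := orderOf y) (m := 4)).1
        (orderOf_dvd_of_pow_eq_one (w16 y hm))
      obtain ⟨⟨z, hz⟩, hz2⟩ := exists_prime_orderOf_dvd_card' (G := zpowers y) 2 (by
        rw [Nat.card_zpowers, hk]
        exact dvd_pow_self 2 fun k0 => y1 (orderOf_eq_one_iff.1 (by rw [hk, k0, pow_zero])))
      rw [← orderOf_coe] at hz2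
      exact hxt ((ht z (hR (zpowers_le.2 hm hz))).1 hz2 ▸ zpowers_le (H := stabilizer G x).2 e1 hz)
    rw [c16, A.fix2 s s2] at hle
    omega
  have e := Set.eq_of_subset_of_ncard_le hsub ((A.fix2 t t2).trans (A.fix2 s s2).symm).le
  have h5 : P ∈ fixedBy (Sylow 7 G) s := e ▸ (hR tR).1
  exact hPQ (h5.symm.trans sP)

end CL.DG9
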