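/-
Project DG9: the large prime divides a character degree (orders of `Sz(8)` and `Sz(32)`).
-/
import Cfsg.Agent.DG9.Defs

set_option autoImplicit false

namespace CL.DG9

open Cfsg Subgroup CL.Grp CL.Loc CL.Even CL.Char
open scoped commutatorElement

universe u

namespace DEGSx

open Finset CL.Blk CL.Inv CL.Inv.PO
open scoped Classical

/-- the degree relation of the principal block of a prime dividing the order once -/
theorem gen {G : Type*} [Group G] [Finite G] (h : NAS G) (r : ℕ) [Fact r.Prime] (h1 : r ∣ Nat.card G)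
    (h2 : ¬ r ^ 2 ∣ Nat.card G) : ∃ (X : Finset (IrrCharacter G)) (s : IrrCharacter G → ℤ) (ε : ℤ) (μ : IrrCharacter G),
      1 ≤ X.card ∧ X.card + 1 ∣ r - 1 ∧ X.card + 1 ∣ Nat.card G ∧ (ε = 1 ∨ ε = -1) ∧
      charDegree (μ : G → ℂ) ∣ Nat.card G ∧
      (∀ χ ∈ X, charDegree (χ : G → ℂ) ≠ 1 ∧ charDegree (χ : G → ℂ) ∣ Nat.card G ∧ (s χ = 1 ∨ s χ = -1) ∧
        (charDegree (χ : G → ℂ) : ℤ) ≡ s χ [ZMOD r]) ∧
      ε * (charDegree (μ : G → ℂ) : ℤ) = 1 + ∑ χ ∈ X, s χ * (charDegree (χ : G → ℂ) : ℤ) := by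
  have := Fintype.ofFinite G
  have := h.1
  have hperf := commutator_eq_top_of_simple h.2
  obtain ⟨x, ⟨K⟩⟩ := exists_ctx_of_dvd (G := G) (p := r) h1 h2
  obtain ⟨M, hM⟩ := exists_isPModular' (Fact.out : r.Prime)
  obtain ⟨D, k1, hs1⟩ := K.exists_data_principal hM
  have f2 := D.two_le_f k1 hperf
  have c : (D.X.erase (irrOne G)).card + 1 = K.f := by rw [card_erase_add_one k1, D.card_X_one]
  refine ⟨D.X.erase (irrOne G), D.s, D.ε, D.μ 1, by omega, c ▸ K.f_dvd,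
    c ▸ (Dvd.intro _ K.card_N.symm).trans (card_subgroup_dvd_card _), D.hε, (D.deg_μ_dvd 1).trans (index_dvd_card _),
    fun χ hχ => ⟨fun e => ne_of_mem_erase hχ (eq_irrOne_of_perfect hperf e),
      (D.deg_X_dvd (mem_of_mem_erase hχ)).trans (index_dvd_card _), D.hs χ (mem_of_mem_erase hχ),
      D.deg_X_one (mem_of_mem_erase hχ)⟩, ?_⟩
  rw [D.deg_rel 1, ← add_sum_erase _ _ k1, hs1, CL.Spor.charDegree_irrOne]; simp

theorem k8 : ∀ d ∈ Nat.divisors 29120, ¬ 13 ∣ d → d ≠ 9 ∧ d ≠ 19 ∧ d ≠ 159 ∧ (d ≠ 1 →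
    (d % 7 = 1 → d = 8 ∨ d = 64) ∧ (d % 7 = 6 → d = 20 ∨ d = 160)) := by decide +kernel

theorem k32 : ∀ a ≤ 10, ∀ d ∈ Nat.divisors 775, (2 ^ a * d ≠ 1 → (2 ^ a * d % 31 = 1 → 32 ∣ 2 ^ a * d) ∧
    2 ^ a * d % 31 ≠ 30) ∧ (2 ^ a * d % 32 = 1 → 2 ^ a * d = 1) := by decide +kernel

theorem k32' {d : ℕ} (h : d ∣ 32537600) (n : ¬ 41 ∣ d) :
    (d ≠ 1 → (d % 31 = 1 → 32 ∣ d) ∧ d % 31 ≠ 30) ∧ (d % 32 = 1 → d = 1) := by
  have h1 : d ∣ 2 ^ 10 * 775 := Nat.Coprime.dvd_of_dvd_mul_right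
    ((Nat.Prime.coprime_iff_not_dvd (by norm_num : Nat.Prime 41)).2 n).symm (by norm_num; exact h)
  obtain ⟨u, v, hu, hv, rfl⟩ := Nat.dvd_mul.1 h1
  obtain ⟨a, ha, rfl⟩ := (Nat.dvd_prime_pow Nat.prime_two).1 hu
  exact k32 a ha v (Nat.mem_divisors.2 ⟨hv, by norm_num⟩)

end DEGSx

open DEGSx Finset in
theorem degs : DEGS.{u} := by
  intro T _ _ p n hp h hT
  simp only [List.mem_cons, Prod.mk.injEq, List.not_mem_nil, or_false] at hp
  by_contra hn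
  rcases hp with ⟨rfl, rfl⟩ | ⟨rfl, rfl⟩
  · have nd : ∀ χ : IrrCharacter T, ¬ 13 ∣ charDegree (χ : T → ℂ) := fun χ e => hn ⟨by norm_num, _, ⟨χ, rfl⟩, e⟩
    have : Fact (Nat.Prime 7) := ⟨by norm_num⟩
    obtain ⟨X, s, ε, μ, c1, c2, c3, hε, hμ, hX, e⟩ := gen h 7 (by rw [hT]; norm_num) (by rw [hT]; norm_num)
    rw [hT] at c3 hμ hX
    have c : X.card = 1 := by
      have := Nat.le_of_dvd (by norm_num) c2
      generalize X.card = k at *
      have : k ≤ 5 := by omega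
      interval_cases k <;> omega
    obtain ⟨χ, rfl⟩ := card_eq_one.1 c
    obtain ⟨a1, a2, a3, a4⟩ := hX χ (mem_singleton_self χ)
    have b1 := (k8 _ (Nat.mem_divisors.2 ⟨a2, by norm_num⟩) (nd χ)).2.2.2 a1
    have b2 := k8 _ (Nat.mem_divisors.2 ⟨hμ, by norm_num⟩) (nd μ)
    have b3 := nd μ
    rw [sum_singleton] at e
    unfold Int.ModEq at a4
    rcases a3 with k | k <;> rw [k] at a4 e <;> rcases hε with rfl | rfl <;> omega
  · have nd : ∀ χ : IrrCharacter T, ¬ 41 ∣ charDegree (χ : T → ℂ) := fun χ e => hn ⟨by norm_num, _, ⟨χ, rfl⟩, e⟩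
    have : Fact (Nat.Prime 31) := ⟨by norm_num⟩
    obtain ⟨X, s, ε, μ, c1, -, -, hε, hμ, hX, e⟩ := gen h 31 (by rw [hT]; norm_num) (by rw [hT]; norm_num)
    rw [hT] at hμ hX
    have k : ∀ χ ∈ X, 0 < s χ * (charDegree (χ : T → ℂ) : ℤ) ∧ (32 : ℤ) ∣ s χ * (charDegree (χ : T → ℂ) : ℤ) :=
      fun χ hχ => by
        obtain ⟨a1, a2, a3, a4⟩ := hX χ hχ
        have b1 := (k32' a2 (nd χ)).1 a1
        have b2 := χ.2.charDegree_pos
        unfold Int.ModEq at a4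
        rcases a3 with k | k <;> rw [k] at a4 ⊢ <;> omega
    have p1 := sum_pos (fun χ hχ => (k χ hχ).1) (card_pos.1 c1)
    have p2 := dvd_sum fun χ hχ => (k χ hχ).2
    have b2 := (k32' hμ (nd μ)).2
    rcases hε with rfl | rfl <;> omega

end CL.DG9
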