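/-
Project DG9 (S3645): character values for a group with the block data of `U₃(7)`.
-/
import Cfsg.Agent.DG9.Defs
import Cfsg.Agent.Char.Galois
import Cfsg.Agent.Char.PiSection
import Cfsg.Agent.Char.Kernel

set_option autoImplicit false

namespace CL.DG9

open Cfsg Subgroup CL.Grp CL.Loc CL.Even CL.Char
open scoped commutatorElement

universe u

namespace FA7x

variable {G : Type u} [Group G]

theorem deg {ψ : G → ℂ} {d : ℕ} (h : ψ 1 = d) : charDegree ψ = d := by simp [charDegree, h]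

theorem sum_nat {H : Type u} [Group H] [Fintype H] {ψ : H → ℂ} (h : IsCharacter H ψ) :
    ∃ n : ℕ, ∑ x, ψ x = Nat.card H * n := by
  obtain ⟨n, hn⟩ := h.exists_nat_classInner isCharacter_one
  rw [classInner_one_right] at hn
  have h0 : (Nat.card H : ℂ) ≠ 0 := Nat.cast_ne_zero.2 Nat.card_pos.ne'
  exact ⟨n, by rw [← hn, mul_inv_cancel_left₀ h0]⟩

theorem mem_two {t s : G} (ht : orderOf t = 2) (hs : s ∈ zpowers t) : s = 1 ∨ s = t := by
  obtain ⟨k, rfl⟩ := mem_zpowers_iff.1 hs
  rw [← zpow_mod_orderOf, ht]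
  rcases Int.emod_two_eq_zero_or_one k with h | h
  · exact Or.inl (by rw [show ((2 : ℕ) : ℤ) = 2 from rfl, h, zpow_zero])
  · exact Or.inr (by rw [show ((2 : ℕ) : ℤ) = 2 from rfl, h, zpow_one])

theorem c7 [Finite G] {ψ : G → ℂ} (h : IsCharacter G ψ) (h1 : ψ 1 = 343) {t : G} (ht : orderOf t = 2) (h2 : ψ t = 7)
    (h0 : ∀ g, 7 ∣ orderOf g → ψ g = 0) : ¬ 49 ∣ Nat.card (centralizer ({t} : Set G)) := by
  classical
  intro hd
  have : Fact (Nat.Prime 7) := ⟨by norm_num⟩
  obtain ⟨U, hU⟩ := Sylow.exists_subgroup_card_pow_prime (G := centralizer ({t} : Set G)) 7 (n := 2) hd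
  have hc : ∀ (a : U) (s : zpowers t), Commute ((a : centralizer ({t} : Set G)) : G) (s : G) := fun a s => by
    have e : Commute ((a : centralizer ({t} : Set G)) : G) t := mem_centralizer_singleton_iff.1 a.1.2
    rcases mem_two ht s.2 with hs | hs <;> rw [hs]
    · exact Commute.one_right _
    · exact e
  let φ : U × zpowers t →* G := MonoidHom.noncommCoprod ((centralizer ({t} : Set G)).subtype.comp U.subtype)
    (zpowers t).subtype hc
  have hφ : ∀ x : U × zpowers t, φ x = ((x.1 : centralizer ({t} : Set G)) : G) * x.2 := fun _ => rfl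
  have := Fintype.ofFinite (U × zpowers t)
  obtain ⟨n, hn⟩ := sum_nat (h.comp φ)
  have t1 : t ≠ 1 := fun e => by rw [e, orderOf_one] at ht; exact absurd ht (by norm_num)
  rw [Fintype.sum_eq_add ((1, 1) : U × zpowers t) (1, ⟨t, mem_zpowers t⟩)
    (fun e => t1 (congrArg (fun x : U × zpowers t => (x.2 : G)) e).symm), Nat.card_prod, hU, Nat.card_zpowers, ht] at hn
  · simp only [hφ, OneMemClass.coe_one, one_mul, h1, h2] at hn
    have e : (343 + 7 : ℕ) = 7 ^ 2 * 2 * n := by exact_mod_cast hn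
    omega
  · rintro ⟨a, s⟩ ⟨e1, e2⟩
    refine h0 _ ?_
    have a1 : a ≠ 1 := by
      rintro rfl
      rcases mem_two ht s.2 with hs | hs
      · exact e1 (Prod.ext rfl (Subtype.ext hs))
      · exact e2 (Prod.ext rfl (Subtype.ext hs))
    have ss : (s : G) ^ 2 = 1 := by
      rcases mem_two ht s.2 with hs | hs <;> rw [hs]
      · exact one_pow _
      · rw [← ht, pow_orderOf_eq_one]
    have p1 : φ (a, s) ^ 2 = ((a : centralizer ({t} : Set G)) : G) ^ 2 := by rw [hφ, (hc a s).mul_pow, ss, mul_one]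
    have p2 : orderOf a ∣ 2 * orderOf (φ (a, s)) := by
      rw [← orderOf_coe, ← orderOf_coe, orderOf_dvd_iff_pow_eq_one, pow_mul, ← p1, ← pow_mul, mul_comm, pow_mul,
        pow_orderOf_eq_one, one_pow]
    have p3 : orderOf a ∣ 7 ^ 2 := hU ▸ orderOf_dvd_natCard a
    obtain ⟨k, -, hk⟩ := (Nat.dvd_prime_pow (by norm_num)).1 p3
    have k0 : k ≠ 0 := fun e => a1 (orderOf_eq_one_iff.1 (by rw [hk, e, pow_zero]))
    exact (Nat.Coprime.dvd_mul_left (by norm_num)).1 ((hk ▸ dvd_pow_self 7 k0 : 7 ∣ orderOf a).trans p2)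

theorem rk [Finite G] {ψ : G → ℂ} (h : IsCharacter G ψ) (h1 : ψ 1 = 42) (h2 : ∀ t, orderOf t = 2 → ψ t = -6) :
    PRankLE 2 3 G := by
  classical
  intro A _ hA
  have := Fintype.ofFinite A
  obtain ⟨n, hn⟩ := sum_nat (h.restrict A)
  have e : ∀ a : A, ψ a = -6 + if a = 1 then 48 else 0 := fun a => by
    split_ifs with ha
    · rw [ha, OneMemClass.coe_one, h1]; norm_num
    · rw [add_zero]
      exact h2 _ (orderOf_eq_prime (hA a a.2) fun e => ha (Subtype.ext e))
  simp only [e, Finset.sum_add_distrib, Finset.sum_const, Finset.sum_ite_eq', Finset.mem_univ, if_true,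
    Finset.card_univ, nsmul_eq_mul, ← Nat.card_eq_fintype_card] at hn
  have e2 : ((48 : ℕ) : ℂ) = ((Nat.card A * (n + 6) : ℕ) : ℂ) := by push_cast; linear_combination hn
  have e3 : 48 = Nat.card A * (n + 6) := by exact_mod_cast e2
  nlinarith

end FA7x

open FA7x in
theorem fa7 : FA7.{u} := by
  intro G _ _ χ St θ nas card h
  have n43 : ∀ (r : ℕ) (g : G), ¬ r ∣ 43 → r ∣ orderOf g → ¬ 43 ∣ orderOf g := fun r g hr hg e =>
    hr (h.self g e ▸ hg)
  have θ2 : ∀ g, 2 ∣ orderOf g → (θ : G → ℂ) g = 0 := fun g hg =>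
    irr_eq_zero_of_defect_zero (k := 14749) Nat.prime_two θ.2 h.dθ (by rw [card]) (by norm_num) hg
  have θ3 : ∀ g, 3 ∣ orderOf g → (θ : G → ℂ) g = 0 := fun g hg =>
    irr_eq_zero_of_defect_zero (k := 14749) Nat.prime_three θ.2 h.dθ (by rw [card]) (by norm_num) hg
  have χ3 : ∀ g, 3 ∣ orderOf g → (χ : G → ℂ) g = 0 := fun g hg =>
    irr_eq_zero_of_defect_zero (k := 134848) Nat.prime_three χ.2 h.dχ (by rw [card]) (by norm_num) hg
  have S7 : ∀ g, 7 ∣ orderOf g → (St : G → ℂ) g = 0 := fun g hg =>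
    irr_eq_zero_of_defect_zero (p := 7) (k := 16512) (by norm_num) St.2 h.dSt (by rw [card]) (by norm_num) hg
  have dχ := deg h.dχ
  have dS := deg h.dSt
  have int : ∀ g, ∃ n : ℤ, (χ : G → ℂ) g = n := fun g =>
    genChar_exists_int_of_forall_pow χ.2.isGeneralizedCharacter fun m hm => by
      have d : charDegree (fun g => (χ : G → ℂ) (g ^ m)) = 42 := deg (by rw [one_pow]; exact h.dχ)
      rcases h.uniq ⟨_, isIrr_pow_coprime χ.2 hm⟩ (by rw [d]; norm_num) with e | e | e | e
      · exact absurd (d.symm.trans e) (by norm_num)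
      · exact congrFun (congrArg Subtype.val e) g
      · rw [← e] at dS
        exact absurd (d.symm.trans dS) (by norm_num)
      · exact absurd (d.symm.trans e) (by norm_num)
  have inv : ∀ t, orderOf t = 2 → (χ : G → ℂ) t = -6 ∧ (St : G → ℂ) t = 7 := fun t ht => by
    have r := h.rel t (n43 2 t (by norm_num) (ht ▸ dvd_rfl))
    have i := h.inv t ht
    obtain ⟨a, ha⟩ := int t
    rw [θ2 t (ht ▸ dvd_rfl)] at r i
    have e : (St : G → ℂ) t = 1 - a := by rw [← ha]; linear_combination -r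
    rw [e, ha] at i
    have e2 : (((a + 6) * (55 * a - 342) : ℤ) : ℂ) = ((0 : ℤ) : ℂ) := by
      push_cast at i ⊢
      linear_combination (-2058) * i
    have e3 : a = -6 := by
      rcases mul_eq_zero.1 (Int.cast_injective e2) with e | e <;> omega
    rw [e, ha, e3]
    norm_num
  have St3 : ∀ g, 3 ∣ orderOf g → (St : G → ℂ) g = 1 := fun g hg => by
    have r := h.rel g (n43 3 g (by norm_num) hg)
    rw [θ3 g hg, χ3 g hg] at r
    linear_combination -r
  have d1 : (χ : G → ℂ) 1 = 42 := by exact_mod_cast h.dχ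
  refine ⟨nas, card, d1, fun t ht => (inv t ht).1, fun t ht => (inv t ht).2, St3, fun ψ hψ => ?_, int,
    fun g k hk => ?_, fun g hg => ?_, fun t ht => c7 St.2.isCharacter (by exact_mod_cast h.dSt) ht (inv t ht).2 S7,
    fun g hg => ?_, h.self, rk χ.2.isCharacter d1 fun t ht => (inv t ht).1⟩
  · rcases h.uniq ψ (by rw [hψ]; norm_num) with e | e | e | e
    · exact absurd (hψ.symm.trans e) (by norm_num)
    · rw [e] at hψ
      exact absurd (hψ.symm.trans dχ) (by norm_num)
    · exact e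
    · exact absurd (hψ.symm.trans e) (by norm_num)
  · obtain ⟨n, hn⟩ := int g
    exact genChar_pow_eq_of_rat χ.2.isGeneralizedCharacter (q := n) (by rw [hn, Rat.cast_intCast]) hk
  · have r := h.rel g (n43 14 g (by norm_num) hg)
    rw [θ2 g ((by norm_num : 2 ∣ 14).trans hg), S7 g ((by norm_num : 7 ∣ 14).trans hg)] at r
    linear_combination -r
  · exact one_ne_zero ((St3 g ((by norm_num : 3 ∣ 21).trans hg)).symm.trans (S7 g ((by norm_num : 7 ∣ 21).trans hg)))

end CL.DG9
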