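/-
Project DG9: the focal subgroup from the contributions of the extremal centric subgroups.
-/
import Cfsg.Agent.DG9.Defs
import Cfsg.Agent.Grp.PNilp

set_option autoImplicit false

namespace CL.DG9

open Cfsg Subgroup CL.Grp CL.Loc CL.Even CL.Char
open scoped commutatorElement Pointwise

universe u

namespace FOCx

variable {G : Type u} [Group G]

/-- the elements of `N(U)` that move the elements of `U` within their cosets of `W` -/
def st (W U : Subgroup G) : Subgroup (𝒩(U) : Subgroup G) where
  carrier := {g | FocRel W U g}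
  one_mem' := fun a _ => by simp
  mul_mem' := fun {g h} hg hh => (fusRel_focRel W).mul hh (by rwa [(conj_smul_eq_self_iff _ _).2 h.2])
  inv_mem' := fun {g} hg => by
    have := (fusRel_focRel W).inv hg
    rwa [(conj_smul_eq_self_iff _ _).2 g.2] at this

end FOCx

theorem foc : FOC.{u} := by
  intro G _ _ S W hS _ hD h
  haveI : Fact (Nat.Prime 2) := ⟨Nat.prime_two⟩
  refine IsSylowIn.inf_commutator_le hS fun x hx g _ hg => FocRel.zpowers ?_
  refine (fusRel_focRel W).alperin_centric hS (IsExtremalIn 2 S) (fun _ h => h)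
    (fun T hT => (exists_extremal_conj hS hT).imp fun _ h => h.1) (fun A _ c hc a ha => ?_) (fun U hU hc y hy => ?_) _
    (zpowers_le.2 hx) g (conj_smul_zpowers_le hg)
  · rw [← mem_centralizer_iff.1 hc a ha]
    simp
  · have e : pResidual 2 𝒩(U) ⊔ hU.2.toSylow ≤ FOCx.st W U := by
      refine sup_le (pResidual_le_iff.2 fun k hk a ha => ?_) fun k hk a ha => ?_
      · have := inv_mem (h U ⟨hU, hc⟩ k k.2 (by
          rw [orderOf_coe]; exact Nat.coprime_two_right.1 hk) _ (inv_mem ha))
        simpa [commutatorElement_def, mul_assoc] using this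
      · exact hD (inv_mul_conj_mem_commutator (hU.1 ha) hk.1)
    rw [pResidual_sup_sylow] at e
    exact e (mem_top (⟨y, hy⟩ : 𝒩(U)))

end CL.DG9
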