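/-
Project DG9 (S3645): the groups of the lists are determined by their parameters.
-/
import Cfsg.Agent.DG9.Defs
import Cfsg.Agent.Cls.SLnCard
import Cfsg.Agent.Cls.OrthIso6Minus

set_option autoImplicit false

namespace CL.DG9

open Cfsg Subgroup CL.Grp CL.Loc CL.Even CL.Char
open scoped commutatorElement Matrix

universe u

namespace ISOx

variable {K L : Type} [Field K] [Field L]

theorem map_mem (φ : K ≃+* L) (e : ℕ) {g : GL (Fin 4) K} (hg : g ∈ Lie.Sz K e) :
    Matrix.GeneralLinearGroup.map (φ : K →+* L) g ∈ Lie.Sz L e := by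
  refine (closure_le ((Lie.Sz L e).comap (Matrix.GeneralLinearGroup.map (φ : K →+* L)))).2 ?_ hg
  rintro g ⟨h1, h2⟩
  refine subset_closure ⟨fun v w => ?_, ?_⟩
  · have k := congrArg φ (h1 (fun i => φ.symm (v i)) fun i => φ.symm (w i))
    simpa [Lie.altForm4, Matrix.mulVec, dotProduct, Fin.sum_univ_four] using k
  · ext p r
    have k := congrArg φ (congrFun (congrFun h2 p) r)
    simpa [Lie.star4] using k

/-- the Suzuki groups over isomorphic fields are isomorphic -/
def szEquiv (φ : K ≃+* L) (e : ℕ) : Lie.Sz K e ≃* Lie.Sz L e where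
  toFun g := ⟨_, map_mem φ e g.2⟩
  invFun g := ⟨_, map_mem φ.symm e g.2⟩
  left_inv g := Subtype.ext (Units.ext (by ext i j; simp))
  right_inv g := Subtype.ext (Units.ext (by ext i j; simp))
  map_mul' g h := Subtype.ext (map_mul _ _ _)

end ISOx

theorem iso : ISO.{u} := by
  intro T T' _ _ q
  refine ⟨?_, ?_, ?_⟩ <;> rintro ⟨K, _, _, h, ⟨e⟩⟩ ⟨L, _, _, h', ⟨e'⟩⟩
  · obtain ⟨f⟩ := CL.SLn.nonempty_psl_equiv_of_card_eq (ι := Fin 2) (h.trans h'.symm)
    exact ⟨(e.trans f).trans e'.symm⟩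
  · obtain ⟨f⟩ := CL.Cls.nonempty_psu_equiv_of_card_eq (h.trans h'.symm) 3 q
    exact ⟨(e.trans f).trans e'.symm⟩
  · exact ⟨(e.trans (ISOx.szEquiv (FiniteField.ringEquivOfCardEq (h.trans h'.symm)) _)).trans e'.symm⟩

end CL.DG9
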