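/-
Project DG9: the case of 1008 Sylow 19-subgroups.
-/
import Cfsg.Agent.DG9.Defs
import Cfsg.Agent.S0112
import Cfsg.Agent.S0113
import Cfsg.Agent.Fus.StronglyEmb

set_option autoImplicit false

namespace CL.DG9

open Cfsg Subgroup CL.Grp CL.Loc CL.Even CL.Char
open scoped commutatorElement

universe u

namespace K8x

variable {G : Type*} [Group G] [Finite G]

theorem nc {P S : Subgroup G} (hP : Nat.card P = 19) (hS : S ≤ 𝒩(P)) (h2 : IsPGroup 2 S) :
    (𝒞(P)).relIndex S ≤ 2 := by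
  haveI : Fact (Nat.Prime 19) := ⟨by norm_num⟩
  haveI : IsCyclic P := isCyclic_of_prime_card hP
  have h1 : Nat.card (MulAut P) = 18 := by
    rw [IsCyclic.card_mulAut, hP, Nat.totient_prime (by norm_num)]
  let φ : S →* MulAut P := P.normalizerMonoidHom.comp (inclusion hS)
  have hk : φ.ker = (𝒞(P)).subgroupOf S := by
    rw [← MonoidHom.comap_ker, P.normalizerMonoidHom_ker]
    rfl
  have hd : (𝒞(P)).relIndex S ∣ 18 := by
    rw [relIndex, ← hk, index_ker, ← h1]
    exact card_subgroup_dvd_card _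
  obtain ⟨a, ha⟩ := IsPGroup.iff_card.1 h2
  have hd2 : (𝒞(P)).relIndex S ∣ 2 ^ a := by
    rw [← ha, relIndex]
    exact index_dvd_card _
  obtain ⟨j, -, hj⟩ := (Nat.dvd_prime_pow Nat.prime_two).1 hd2
  rw [hj] at hd ⊢
  rcases j with _ | _ | j
  · norm_num
  · norm_num
  · exfalso
    have : 4 ∣ 18 := Dvd.dvd.trans ⟨2 ^ j, by ring⟩ hd
    omega

theorem cent_ne_top (h : NAS G) {k : G} (hk : k ≠ 1) : centralizer ({k} : Set G) ≠ ⊤ := by
  intro e
  haveI := h.1
  have hz : k ∈ center G := by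
    rw [mem_center_iff]
    intro g
    have : g ∈ centralizer ({k} : Set G) := e ▸ mem_top g
    exact mem_centralizer_singleton_iff.1 this
  rcases (inferInstance : (center G).Normal).eq_bot_or_eq_top with hb | ht
  · exact hk (by simpa [hb] using hz)
  · apply h.2
    refine ⟨⟨fun a b => ?_⟩⟩
    have : b ∈ center G := ht ▸ mem_top b
    exact mem_center_iff.1 this a

theorem small {X : Type*} [Group X] [Finite X] {C E : Subgroup X} (hC : IsCyclic C) (hi : C.index = 2)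
    (hE : ∀ a ∈ E, a ^ 2 = 1) : Nat.card E ≤ 4 := by
  have h1 : C.relIndex E ≤ 2 := by
    rw [← hi, ← relIndex_top_right]
    exact relIndex_le_of_le_right le_top (by rw [relIndex_top_right, hi]; norm_num)
  have hc : IsCyclic (C ⊓ E : Subgroup X) := isCyclic_of_le inf_le_left
  have h2 : Nat.card (C ⊓ E : Subgroup X) ≤ 2 := by
    rw [← IsCyclic.exponent_eq_card]
    apply Nat.le_of_dvd (by norm_num)
    rw [Monoid.exponent_dvd_iff_forall_pow_eq_one]
    intro g
    exact Subtype.ext (by simpa using hE g g.2.2)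
  have h3 : Nat.card (C ⊓ E : Subgroup X) * C.relIndex E = Nat.card E := by
    rw [← inf_relIndex_right, ← relIndex_bot_left, ← relIndex_bot_left]
    exact relIndex_mul_relIndex _ _ _ bot_le inf_le_right
  rw [← h3]
  calc _ ≤ 2 * 2 := Nat.mul_le_mul h2 h1
    _ = 4 := rfl

end K8x

open K8x in
theorem k8 : K8.{u} := by
  intro G _ _ P hG hdvd hP hidx hmax
  haveI : Fact (Nat.Prime 19) := ⟨by norm_num⟩
  by_cases h64 : 64 ∣ Nat.card G
  swap
  · exact Or.inl h64
  right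
  obtain ⟨S0, hS0⟩ := exists_isSylowIn 2 𝒩(P)
  obtain ⟨S, hS⟩ := hS0.exists_sylow_inf_eq
  have hS0S : S0 ≤ S := hS ▸ inf_le_left
  have hN : Nat.card 𝒩(P) * 1008 = Nat.card G := by rw [← hidx]; exact card_mul_index _
  have hN0 : Nat.card S0 * S0.relIndex 𝒩(P) = Nat.card 𝒩(P) := by
    rw [← relIndex_bot_left, ← relIndex_bot_left]
    exact relIndex_mul_relIndex _ _ _ bot_le hS0.le
  have hGS : Nat.card (S : Subgroup G) * (S : Subgroup G).index = Nat.card G := card_mul_index _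
  have o1 : ¬ 2 ∣ S0.relIndex 𝒩(P) := hS0.not_dvd
  have o2 : ¬ 2 ∣ (S : Subgroup G).index := S.not_dvd_index
  obtain ⟨a, ha⟩ := IsPGroup.iff_card.1 hS0.isPGroup
  obtain ⟨b, hb⟩ := IsPGroup.iff_card.1 S.2
  have hGa : Nat.card G = 2 ^ (a + 4) * (S0.relIndex 𝒩(P) * 63) := by
    rw [← hN, ← hN0, ha]; ring
  have o3 : Nat.Coprime 2 (S0.relIndex 𝒩(P) * 63) := 
    Nat.Coprime.mul_right ((Nat.Prime.coprime_iff_not_dvd Nat.prime_two).2 o1) (by norm_num)
  have hab : b = a + 4 := by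
    have c2 : Nat.Coprime 2 (S : Subgroup G).index := (Nat.Prime.coprime_iff_not_dvd Nat.prime_two).2 o2
    have d1 : 2 ^ b ∣ 2 ^ (a + 4) :=
      (Nat.Coprime.pow_left b o3).dvd_of_dvd_mul_right (by rw [← hGa, ← hGS, hb]; exact Dvd.intro _ rfl)
    have d2 : 2 ^ (a + 4) ∣ 2 ^ b :=
      (Nat.Coprime.pow_left (a + 4) c2).dvd_of_dvd_mul_right (by rw [← hb, hGS, hGa]; exact Dvd.intro _ rfl)
    exact Nat.pow_right_injective le_rfl (Nat.dvd_antisymm d1 d2)
  have ha2 : 2 ≤ a := by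
    have : 2 ^ 6 ∣ 2 ^ (a + 4) :=
      (Nat.Coprime.pow_left 6 o3).dvd_of_dvd_mul_right (by rw [← hGa]; exact h64)
    have := (Nat.pow_dvd_pow_iff_le_right (by norm_num : 1 < 2)).1 this
    omega
  have hlt : S0 < S := by
    refine lt_of_le_of_ne hS0S fun e => ?_
    rw [e, hb, hab] at ha
    have := Nat.pow_right_injective le_rfl ha
    omega
  obtain ⟨s, hsS, hsN, hs0⟩ := CL.Fus.exists_mem_normalizer_not_mem S.2 hlt
  have hsP : s ∉ 𝒩(P) := fun h => hs0 (hS ▸ ⟨hsS, h⟩)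
  have hloc : ∀ k ∈ 𝒞(P), k ≠ 1 → centralizer ({k} : Set G) ≤ 𝒩(P) := fun k hk h1 =>
    hmax _ (cent_ne_top hG h1) fun x hx => mem_centralizer_singleton_iff.2 (comm_of_mem hk hx)
  have hP1 : Nat.card (cj s P) = 19 := by rw [card_cj, hP]
  have hS01 : S0 ≤ 𝒩(cj s P) := by
    rw [← cj_norm, ← cj_eq hsN]
    exact cj_mono s hS0.le
  have htriv : 𝒞(P) ⊓ 𝒞(cj s P) = ⊥ := by
    rw [eq_bot_iff]
    intro k hk
    by_contra h1
    have h1' : k ≠ 1 := by simpa using h1
    have hle : cj s P ≤ 𝒩(P) := fun x hx =>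
      hloc k hk.1 h1' (mem_centralizer_singleton_iff.2 (comm_of_mem hk.2 hx))
    have hsyl : IsSylowIn 19 (cj s P) 𝒩(P) := by
      refine ⟨hle, IsPGroup.of_card (n := 1) (by rw [hP1]; rfl), fun hd => ?_⟩
      have e : Nat.card (cj s P) * (cj s P).relIndex 𝒩(P) = Nat.card 𝒩(P) := by
        rw [← relIndex_bot_left, ← relIndex_bot_left]
        exact relIndex_mul_relIndex _ _ _ bot_le hle
      have : 19 * 19 ∣ 5515776 := by
        refine Dvd.dvd.trans ?_ hdvd
        rw [← hN, ← e, hP1]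
        exact Dvd.dvd.mul_right (Nat.mul_dvd_mul_left _ hd) _
      omega
    have hPle : P ≤ cj s P :=
      hsyl.le_of_normalized (IsPGroup.of_card (n := 1) (by rw [hP]; rfl)) le_normalizer le_rfl
    have : P = cj s P := eq_of_le_of_card_ge hPle (by rw [hP, hP1])
    exact hsP (cj_eq_iff_mem.1 this.symm)
  have i1 := nc hP hS0.le hS0.isPGroup
  have i2 := nc hP1 hS01 hS0.isPGroup
  have h4 : Nat.card S0 ≤ 4 := by
    rw [← relIndex_bot_left, ← htriv]
    calc _ ≤ _ := relIndex_inf_le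
      _ ≤ 2 * 2 := Nat.mul_le_mul i1 i2
  have ha' : a = 2 := by
    rw [ha] at h4
    have := (Nat.pow_le_pow_iff_right (by norm_num : 1 < 2)).1 (show 2 ^ a ≤ 2 ^ 2 from h4)
    omega
  subst ha'
  subst hab
  obtain ⟨k, hkC, hk0, hk1⟩ : ∃ k ∈ 𝒞(P), k ∈ S0 ∧ k ≠ 1 := by
    by_contra hn
    push_neg at hn
    have : 𝒞(P) ⊓ S0 = ⊥ := by
      rw [eq_bot_iff]
      intro k hk
      exact mem_bot.2 (hn k hk.1 hk.2)
    rw [← inf_relIndex_right, this, relIndex_bot_left, ha] at i1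
    omega
  have hcA : Nat.card (S0.subgroupOf S) = 2 ^ 2 := by
    rw [← ha]
    exact Nat.card_congr (subgroupOfEquivOfLe hS0S).toEquiv
  have hCA : centralizer ((S0.subgroupOf S : Subgroup (S : Subgroup G)) : Set (S : Subgroup G)) =
      S0.subgroupOf S := by
    apply le_antisymm
    · intro x hx
      have h1 := mem_centralizer_iff.1 hx ⟨k, hS0S hk0⟩ hk0
      have h2 : (x : G) ∈ centralizer ({k} : Set G) :=
        mem_centralizer_singleton_iff.2 (congrArg Subtype.val h1).symm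
      have h3 : (x : G) ∈ (S : Subgroup G) ⊓ 𝒩(P) := ⟨x.2, hloc k hkC hk1 h2⟩
      rw [hS] at h3
      exact h3
    · have := IsPGroup.isMulCommutative_of_card_eq_prime_sq hcA
      exact le_centralizer _
  have hcl := Cfsg.Agent.S0112.result (p := 2) _ hb _ hcA hCA
  obtain ⟨C, hC, hi⟩ := Cfsg.Agent.S0113.result _ (by norm_num) hb hcl
  refine ⟨fun E _ hE => ?_, fun h => ?_⟩
  · have hEp : IsPGroup 2 E := fun x => ⟨1, Subtype.ext (by simpa using hE x x.2)⟩
    obtain ⟨g, hg⟩ := exists_conj_le_sylow S hEp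
    have hg' : cj g E ≤ S := hg
    have := small (E := (cj g E).subgroupOf S) hC hi fun x hx => by
      apply Subtype.ext
      have h1 : (g⁻¹ * (x : G) * g) ^ 2 = 1 := hE _ (mem_cj.1 hx)
      calc ((x ^ 2 : (S : Subgroup G)) : G) = g * (g⁻¹ * x * g) ^ 2 * g⁻¹ := by
            simp only [pow_two, coe_mul]; group
        _ = 1 := by rw [h1]; group
    rw [Nat.card_congr (subgroupOfEquivOfLe hg').toEquiv, card_cj] at this
    exact this
  · have : 2 ^ 7 ∣ 2 ^ (2 + 4) :=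
      (Nat.Coprime.pow_left 7 o3).dvd_of_dvd_mul_right (by rw [← hGa]; exact h)
    omega

end CL.DG9
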