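/-
Project DG9 (S3645): consequences of the principal 19-block.
-/
import Cfsg.Agent.DG9.Defs
import Cfsg.Agent.Char.PiSection
import Cfsg.Agent.Char.Burnside

set_option autoImplicit false

namespace CL.DG9

open Cfsg Subgroup CL.Grp CL.Loc CL.Even CL.Char
open scoped commutatorElement

universe u

namespace M8x

/-- the sum of a character over a subgroup of exponent two on whose involutions it is constant -/
theorem avg {G : Type*} [Group G] [Finite G] (χ : IrrCharacter G) (H : Subgroup G) (a : ℂ)
    (h : ∀ x ∈ H, x ≠ 1 → (χ : G → ℂ) x = a) :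
    ∃ n : ℕ, (χ : G → ℂ) 1 + (Nat.card H - 1 : ℂ) * a = Nat.card H * n := by
  classical
  obtain ⟨χ, n, ρ, hρ, rfl⟩ := χ
  have : Fintype H := Fintype.ofFinite H
  have c0 : (Nat.card H : ℂ) ≠ 0 := Nat.cast_ne_zero.2 Nat.card_pos.ne'
  have : Invertible (Nat.card H : ℂ) := invertibleOfNonzero c0
  have k := Representation.card_inv_mul_sum_char_eq_finrank (k := ℂ) (G := H) (ρ.comp H.subtype)
  refine ⟨Module.finrank ℂ (Representation.invariants (ρ.comp H.subtype)), ?_⟩
  · rw [← k, mul_inv_cancel_left₀ c0, ← Finset.add_sum_erase _ _ (Finset.mem_univ 1),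
      Finset.sum_congr rfl (g := fun _ => a) fun (x : H) hx =>
        show Representation.character (ρ.comp H.subtype) x = a from
          h x x.2 fun e => (Finset.mem_erase.1 hx).1 (Subtype.ext e),
      Finset.sum_const, Finset.card_erase_of_mem (Finset.mem_univ _), Finset.card_univ, nsmul_eq_mul,
      Nat.cast_sub Fintype.card_pos, Nat.card_eq_fintype_card, Nat.cast_one]
    rfl

end M8x

theorem m8 : M8.{u} := by
  classical
  intro G _ _ χ St θ c b
  have s0 : ∀ g : G, 2 ∣ orderOf g → (St : G → ℂ) g = 0 := fun g hg =>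
    irr_eq_zero_of_defect_zero (k := 10773) Nat.prime_two St.2 b.dSt (by rw [c]) (by norm_num) hg
  have v : ∀ t : G, orderOf t = 2 → (χ : G → ℂ) t = -8 := fun t ht => by
    have r := b.rel t (by rw [ht]; norm_num)
    have i := b.inv t ht
    rw [s0 t (by rw [ht])] at r i
    obtain ⟨n, hn⟩ := M8x.avg χ (zpowers t) ((χ : G → ℂ) t) fun x hx x1 => by
      rw [mem_zpowers_iff_mem_range_orderOf, ht] at hx
      simp only [Finset.mem_image, Finset.mem_range] at hx
      obtain ⟨k, hk, rfl⟩ := hx
      interval_cases k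
      · simp at x1
      · rw [pow_one]
    rw [Nat.card_zpowers, ht, b.dχ] at hn
    have e : (θ : G → ℂ) t = (χ : G → ℂ) t - 1 := by linear_combination r
    rw [e] at i
    have f : ((χ : G → ℂ) t + 8) * (73 * (χ : G → ℂ) t - 568) = 0 := by
      push_cast at i
      linear_combination (-4536 : ℂ) * i
    rcases mul_eq_zero.1 f with f | f
    · linear_combination f
    · have : ((146 * n : ℕ) : ℂ) = (4656 : ℕ) := by
        push_cast at hn ⊢
        linear_combination f - 73 * hn
      have := Nat.cast_injective this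
      omega
  refine ⟨fun A _ hA => ?_, fun t ht => isSolvable_of_two_primes Nat.prime_two Nat.prime_three fun r hr hd => ?_⟩
  · obtain ⟨n, hn⟩ := M8x.avg χ A (-8) fun x hx x1 => v x (orderOf_eq_prime (hA x hx) x1)
    rw [b.dχ] at hn
    have : ((Nat.card A * (n + 8) : ℕ) : ℂ) = (64 : ℕ) := by
      push_cast at hn ⊢
      linear_combination -hn
    have := Nat.cast_injective this
    nlinarith
  · by_contra ne
    have : Fact r.Prime := ⟨hr⟩
    obtain ⟨⟨x, hx⟩, ho⟩ := exists_prime_orderOf_dvd_card' r hd
    rw [orderOf_mk] at ho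
    have r2 : r ≠ 2 := fun e => ne (.inl e)
    have o : orderOf (x * t) = r * 2 := by
      rw [Commute.orderOf_mul_eq_mul_orderOf_of_coprime (mem_centralizer_singleton_iff.1 hx)
        (by rw [ho, ht]; exact (Nat.coprime_primes hr Nat.prime_two).2 r2), ho, ht]
    have d : r ∣ 2 ^ 9 * 3 ^ 4 * 7 * 19 := (hd.trans (card_subgroup_dvd_card _)).trans (by rw [c]; norm_num)
    have : r = 7 ∨ r = 19 := by
      rcases (Nat.Prime.dvd_mul hr).1 d with d | d
      · rcases (Nat.Prime.dvd_mul hr).1 d with d | d
        · rcases (Nat.Prime.dvd_mul hr).1 d with d | d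
          · exact absurd (.inl ((Nat.prime_dvd_prime_iff_eq hr Nat.prime_two).1 (hr.dvd_of_dvd_pow d))) ne
          · exact absurd (.inr ((Nat.prime_dvd_prime_iff_eq hr Nat.prime_three).1 (hr.dvd_of_dvd_pow d))) ne
        · exact .inl ((Nat.prime_dvd_prime_iff_eq hr (by norm_num)).1 d)
      · exact .inr ((Nat.prime_dvd_prime_iff_eq hr (by norm_num)).1 d)
    rcases this with rfl | rfl
    · have q := b.rel (x * t) (by rw [o]; norm_num)
      rw [s0 _ (by rw [o]; norm_num), irr_eq_zero_of_defect_zero (k := 98496) hr χ.2 b.dχ (by rw [c]) (by norm_num)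
        (by rw [o]; norm_num), irr_eq_zero_of_defect_zero (k := 9728) hr θ.2 b.dθ (by rw [c]) (by norm_num)
        (by rw [o]; norm_num)] at q
      norm_num at q
    · have := b.self (x * t) (by rw [o]; norm_num)
      omega

end CL.DG9
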