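/-
Project DG9 (S3645): assembly.
-/
import Cfsg.Agent.DG9.Defs
import Cfsg.Agent.Known.SL2Irr2

set_option autoImplicit false

namespace CL.DG9

open Cfsg Subgroup CL.Grp CL.Loc CL.Even CL.Char
open scoped commutatorElement

universe u

theorem comm_top {T : Type*} [Group T] (h : NAS T) : commutator T = ⊤ := by
  haveI := h.1
  rcases (inferInstance : (commutator T).Normal).eq_bot_or_eq_top with e | e
  · refine absurd ⟨⟨fun a b => ?_⟩⟩ h.2
    have : ⁅a, b⁆ ∈ commutator T := commutator_mem_commutator (mem_top a) (mem_top b)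
    rw [e, mem_bot] at this
    exact commutatorElement_eq_one_iff_mul_comm.1 this
  · exact e

theorem sm (hSTR : STR.{u}) (hCL2 : CL2.{u}) (hRK2 : RK2.{u}) (hOUT : OUT.{u}) (hSML : SML.{u}) (hU16 : U16.{u})
    (hU8a : U8a.{u}) (hU8 : U8.{u}) (hCMP : CMP.{u}) (hFOC : FOC.{u}) : SM.{u} := by
  intro T _ _ hT h64
  obtain ⟨S, hS⟩ := exists_isSylowIn (p := 2) (⊤ : Subgroup T)
  rcases hSTR T S hS h64 with h | h | ⟨A, hA⟩
  · exact hCL2 T S hT hS h
  · exact hRK2 T hT h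
  exfalso
  obtain ⟨W, hWS, hne, hD, hW⟩ := hCMP T S A hA (fun U hU hact => by
    have hUS : U ≤ S := hU.1.1
    have hd : Nat.card U ∣ 2 ^ 5 := by
      have := card_dvd_of_le hUS
      rwa [hA.card] at this
    obtain ⟨k, hk, e⟩ := (Nat.dvd_prime_pow Nat.prime_two).1 hd
    by_cases h5 : k = 5
    · exfalso
      have : U = S := eq_of_le_of_card_ge hUS (by rw [hA.card, e, h5]; norm_num)
      subst this
      obtain ⟨x, hx, ho, hc⟩ := hact
      exact hc (hOUT T U A hA x hx ho)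
    by_cases h4 : k = 4
    · exact hU16 T S A U hA hUS hact (by rw [e, h4]; norm_num)
    have h8 : Nat.card U ≤ 8 := by
      rw [e]
      exact (Nat.pow_le_pow_right (by norm_num) (show k ≤ 3 by omega)).trans (by norm_num)
    have hE := hSML T S A U hA hUS hU.2 hact h8
    exact hU8 T S A U hA hU hact hE (hU8a T S A U hA hU hact hE))
  have := hFOC T S W hS hWS hD hW
  rw [comm_top hT, inf_top_eq] at this
  exact hne (le_antisymm hWS this)

def Ck (n p : ℕ) : Prop := ∀ r < 80, 2 ≤ r → (∀ a < r, a ∣ r → a = 1) → ∀ i < 26, 0 < i → r ^ i ∣ n → r ^ i % p ≠ 1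

set_option synthInstance.maxSize 2000 in
instance (n p : ℕ) : Decidable (Ck n p) := by
  unfold Ck
  infer_instance

theorem chk {n p m : ℕ} (hm : m ∣ n) (h0 : n ∣ Nat.factorial 79) (hlt : n < 2 ^ 26) (h : Ck n p) :
    ∀ r, r.Prime → ∀ i, 0 < i → r ^ i ∣ m → r ^ i % p ≠ 1 := by
  intro r hr i hi hd
  have hd' := hd.trans hm
  have hn : 0 < n := Nat.pos_of_dvd_of_pos h0 (Nat.factorial_pos _)
  refine h r ?_ hr.two_le (fun a ha had => ((Nat.dvd_prime hr).1 had).resolve_right ha.ne) i ?_ hi hd'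
  · have := (Nat.Prime.dvd_factorial hr).1 (((dvd_pow_self r hi.ne').trans hd').trans h0)
    omega
  · have h2 := (Nat.pow_le_pow_left hr.two_le i).trans (Nat.le_of_dvd hn hd')
    exact (Nat.pow_lt_pow_iff_right one_lt_two).1 (h2.trans_lt hlt)

theorem card_syl {G : Type*} [Group G] [Finite G] {p : ℕ} [hp : Fact p.Prime] (P : Sylow p G) (h1 : p ∣ Nat.card G)
    (h2 : ¬ p ^ 2 ∣ Nat.card G) : Nat.card P = p := by
  rw [P.card_eq_multiplicity]
  have h3 : (Nat.card G).factorization p = 1 := by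
    have a := (hp.out.pow_dvd_iff_le_factorization Nat.card_pos.ne' (k := 1)).1 (by simpa using h1)
    have b := mt (hp.out.pow_dvd_iff_le_factorization Nat.card_pos.ne' (k := 2)).2 h2
    omega
  rw [h3, pow_one]

/-- proper subgroups containing `P` normalise it -/
theorem prop8 (hRED : RED.{u}) {T : Type u} [Group T] [Finite T] (hd : Nat.card T ∣ 5515776) {P : Subgroup T}
    (hP : Nat.card P = 19)
    (ih : ∀ (T' : Type u) [Group T'] [Finite T'], NAS T' → 19 ∣ Nat.card T' → Nat.card T' ∣ 5515776 →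
      Nat.card T' < Nat.card T → False) : ∀ H : Subgroup T, H ≠ ⊤ → P ≤ H → H ≤ 𝒩(P) := by
  intro H hH hPH
  haveI : Fact (Nat.Prime 19) := ⟨by norm_num⟩
  have hHd : Nat.card H ∣ 5515776 := (card_subgroup_dvd_card H).trans hd
  by_contra hn
  obtain ⟨T', _, _, h1, h2, h3, -⟩ := hRED H 19 (P.subgroupOf H)
    (by rw [← hP]; exact Nat.card_congr (subgroupOfEquivOfLe hPH).toEquiv)
    (fun e => absurd (e.trans hHd) (by norm_num))
    (chk hHd (by decide +kernel) (by norm_num) (by decide +kernel))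
    (fun e => hn ((normal_subgroupOf_iff_le_normalizer hPH).1 e))
  refine ih T' h1 h2 (h3.trans hHd) ((Nat.le_of_dvd Nat.card_pos h3).trans_lt ?_)
  refine lt_of_le_of_ne (Nat.le_of_dvd Nat.card_pos (card_subgroup_dvd_card H)) fun e => hH ?_
  exact eq_top_of_card_eq _ e

theorem id8 (hRED : RED.{u}) (hSM : SM.{u}) (hRK2 : RK2.{u}) (hRK3 : RK3.{u}) (hOC3 : OC3.{u}) (hN8 : N8.{u})
    (hK8 : K8.{u}) (hBD8 : BD8.{u}) (hM8 : M8.{u}) (k : ℕ) : ∀ (T : Type u) [Group T] [Finite T], Nat.card T = k →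
    NAS T → 19 ∣ Nat.card T → Nat.card T ∣ 5515776 → U3 T 8 ∧ Nat.card T = 5515776 := by
  induction k using Nat.strong_induction_on with
  | _ k ih =>
  intro T _ _ hk hT h19 hd
  haveI : Fact (Nat.Prime 19) := ⟨by norm_num⟩
  refine hOC3 T 8 19 5515776 (by simp) ?_ h19 hd
  rcases hN8 T hT hd h19 with h | h
  · obtain ⟨P⟩ : Nonempty (Sylow 19 T) := inferInstance
    have hP := card_syl P h19 (fun e => absurd (e.trans hd) (by norm_num))
    have := hK8 T P hT hd hP (by rw [← h, P.card_eq_index_normalizer]; rfl)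
      (prop8 hRED hd hP fun T' _ _ h1 h2 h3 h4 => by
        have := (ih _ (hk ▸ h4) T' rfl h1 h2 h3).2
        have := Nat.le_of_dvd (by norm_num) hd
        omega)
    rcases this with h1 | h1
    · exact hSM T hT h1
    · exact hRK2 T hT h1.1
  · obtain ⟨hc, χ, St, θ, hB⟩ := hBD8 T hT hd h19 h
    obtain ⟨h1, h2⟩ := hM8 T χ St θ hc hB
    exact hRK3 T hT h1 h2

theorem id7 (hOC3 : OC3.{u}) (hBD7 : BD7.{u}) (hFA7 : FA7.{u}) (hTI7 : TI7.{u}) (hPI7 : PI7.{u}) (hCY7 : CY7.{u})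
    (hEND7 : END7.{u}) (T : Type u) [Group T] [Finite T] (hT : NAS T) (h43 : 43 ∣ Nat.card T)
    (hd : Nat.card T ∣ 5663616) : U3 T 7 ∧ Nat.card T = 5663616 := by
  refine hOC3 T 7 43 5663616 (by simp) ?_ h43 hd
  obtain ⟨hc, χ, St, θ, hB⟩ := hBD7 T hT h43 hd
  have hF := hFA7 T χ St θ hT hc hB
  have hA := hPI7 T χ St hF (fun P Q h => hTI7 T χ St P Q hF h)
  have : Nontrivial (Sylow 7 T) := Finite.one_lt_card_iff_nontrivial.1 (by rw [hA.deg]; norm_num)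
  obtain ⟨P, Q, h⟩ := exists_pair_ne (Sylow 7 T)
  exact hEND7 T P Q hA h (hCY7 T P Q hA h)

/-- the number of Sylow subgroups from arithmetic -/
theorem nsyl {T : Type*} [Group T] [Finite T] (hT : NAS T) {p m d : ℕ} [hp : Fact p.Prime] (hc : Nat.card T = p * m)
    (hm : ¬ p ∣ m) (h : ∀ a, a ∣ m → a % p = 1 → a = 1 ∨ a = d) : Nat.card (Sylow p T) = d := by
  obtain ⟨P⟩ : Nonempty (Sylow p T) := inferInstance
  have hP := card_syl P (hc ▸ Dvd.intro _ rfl) (fun e => hm (by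
    rw [hc, sq] at e
    exact Nat.dvd_of_mul_dvd_mul_left hp.out.pos e))
  have hi : (P : Subgroup T).index = m := by
    have := (P : Subgroup T).card_mul_index
    rw [hP, hc] at this
    exact Nat.eq_of_mul_eq_mul_left hp.out.pos this
  have h1 : Nat.card (Sylow p T) % p = 1 := by
    have := card_sylow_modEq_one p T
    rwa [Nat.ModEq, Nat.mod_eq_of_lt hp.out.one_lt] at this
  refine (h _ (hi ▸ P.card_dvd_index) h1).resolve_left fun e => ?_
  haveI : Subsingleton (Sylow p T) := (Nat.card_eq_one_iff_unique.1 e).1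
  haveI := hT.1
  rcases (P.normal_of_subsingleton).eq_bot_or_eq_top with e | e
  · rw [e, card_bot] at hP
    exact hp.out.one_lt.ne hP
  · rw [e, card_top] at hP
    haveI := isCyclic_of_prime_card hP
    exact hT.2 IsCyclic.isMulCommutative

theorem dv7 : ∀ a, a ∣ 131712 → a % 43 = 1 → a = 1 ∨ a = 43904 := by
  intro a ha h
  rw [show 131712 = 2 ^ 7 * (3 * 7 ^ 3) by norm_num] at ha
  obtain ⟨x, y, hx, hy, rfl⟩ := Nat.dvd_mul.1 ha
  obtain ⟨z, w, hz, hw, rfl⟩ := Nat.dvd_mul.1 hy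
  obtain ⟨i, hi, rfl⟩ := (Nat.dvd_prime_pow Nat.prime_two).1 hx
  obtain ⟨j, hj, rfl⟩ := (Nat.dvd_prime_pow (by norm_num : Nat.Prime 7)).1 hw
  rcases (Nat.dvd_prime Nat.prime_three).1 hz with rfl | rfl <;>
    interval_cases i <;> interval_cases j <;> simp_all

theorem dv9 : ∀ a, a ∣ 583200 → a % 73 = 1 → a = 1 ∨ a = 194400 := by
  intro a ha h
  rw [show 583200 = 2 ^ 5 * (3 ^ 6 * 5 ^ 2) by norm_num] at ha
  obtain ⟨x, y, hx, hy, rfl⟩ := Nat.dvd_mul.1 ha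
  obtain ⟨z, w, hz, hw, rfl⟩ := Nat.dvd_mul.1 hy
  obtain ⟨i, hi, rfl⟩ := (Nat.dvd_prime_pow Nat.prime_two).1 hx
  obtain ⟨j, hj, rfl⟩ := (Nat.dvd_prime_pow (by norm_num : Nat.Prime 5)).1 hw
  obtain ⟨k, hk, rfl⟩ := (Nat.dvd_prime_pow Nat.prime_three).1 hz
  interval_cases i <;> interval_cases j <;> interval_cases k <;> simp_all

theorem degu' (hDEGU : DEGU.{u}) {T : Type u} [Group T] [Finite T] {p d : ℕ} [hp : Fact p.Prime]
    (hc : Nat.card T = d * (3 * p)) (hd : Nat.card (Sylow p T) = d) (he : Even d) (h2 : ¬ p ^ 2 ∣ d * (3 * p))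
    (hp2 : p ≠ 2) : p ∈ degreePrimes T := by
  obtain ⟨P⟩ : Nonempty (Sylow p T) := inferInstance
  exact hDEGU T p P (card_syl P (hc ▸ Dvd.intro_left (d * 3) (by ring)) (hc ▸ h2)) (hc ▸ he.mul_right _)
    (by rw [hd, hc]) hp2

/-- the reduction for `G` -/
theorem redG (hRED : RED.{u}) {G : Type u} [Group G] [Finite G] {p n : ℕ} (hp : p.Prime) (hc : Nat.card G = n)
    (h1 : p ∣ n) (h2 : ¬ p ^ 2 ∣ n) (hd : p ∈ degreePrimes G) (h0 : n ∣ Nat.factorial 79) (hlt : n < 2 ^ 26)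
    (h : Ck n p) :
    ∃ (T : Type u) (_ : Group T) (_ : Finite T), NAS T ∧ p ∣ Nat.card T ∧ Nat.card T ∣ n ∧
      (Nat.card T = n → Nonempty (G ≃* T)) := by
  haveI : Fact p.Prime := ⟨hp⟩
  obtain ⟨P⟩ : Nonempty (Sylow p G) := inferInstance
  have hP := card_syl P (hc ▸ h1) (hc ▸ h2)
  subst hc
  exact hRED G p P hP h2 (chk dvd_rfl h0 hlt h) fun e =>
    CL.Blk.DegOrd.not_mem_of_card_prime hp h2 (P : Subgroup G) hP hd

theorem l2_of {T T' : Type*} [Group T] [Group T'] {q : ℕ} (e : T ≃* T') (h : L2 T' q) : L2 T q :=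
  let ⟨F, a, b, c, ⟨f⟩⟩ := h; ⟨F, a, b, c, ⟨e.trans f⟩⟩

/-- isomorphism across universes -/
theorem iso2 (hI : ISO.{0}) {T : Type*} {T' : Type*} [Group T] [Group T'] (q : ℕ) :
    (L2 T q → L2 T' q → Nonempty (T ≃* T')) ∧ (U3 T q → U3 T' q → Nonempty (T ≃* T')) ∧
    (SzI T q → SzI T' q → Nonempty (T ≃* T')) := by
  refine ⟨?_, ?_, ?_⟩
  · rintro ⟨F, a, b, c, ⟨e⟩⟩ ⟨F', a', b', c', ⟨e'⟩⟩
    obtain ⟨f⟩ := (hI _ _ q).1 ⟨F, a, b, c, ⟨MulEquiv.refl _⟩⟩ ⟨F', a', b', c', ⟨MulEquiv.refl _⟩⟩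
    exact ⟨(e.trans f).trans e'.symm⟩
  · rintro ⟨F, a, b, c, ⟨e⟩⟩ ⟨F', a', b', c', ⟨e'⟩⟩
    obtain ⟨f⟩ := (hI _ _ q).2.1 ⟨F, a, b, c, ⟨MulEquiv.refl _⟩⟩ ⟨F', a', b', c', ⟨MulEquiv.refl _⟩⟩
    exact ⟨(e.trans f).trans e'.symm⟩
  · rintro ⟨F, a, b, c, ⟨e⟩⟩ ⟨F', a', b', c', ⟨e'⟩⟩
    obtain ⟨f⟩ := (hI _ _ q).2.2 ⟨F, a, b, c, ⟨MulEquiv.refl _⟩⟩ ⟨F', a', b', c', ⟨MulEquiv.refl _⟩⟩
    exact ⟨(e.trans f).trans e'.symm⟩

/-- all identification results in one universe -/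
structure IDs : Prop where
  red : RED.{u}
  card : CARD.{u}
  degu : DEGU.{u}
  degs : DEGS.{u}
  sz : SZ.{u}
  oc2 : OC2.{u}
  oc3 : OC3.{u}
  sm : SM.{u}
  n8 : N8.{u}
  k8 : K8.{u}
  i7 : ∀ (T : Type u) [Group T] [Finite T], NAS T → 43 ∣ Nat.card T → Nat.card T ∣ 5663616 →
    U3 T 7 ∧ Nat.card T = 5663616
  i8 : ∀ (T : Type u) [Group T] [Finite T], NAS T → 19 ∣ Nat.card T → Nat.card T ∣ 5515776 →
    U3 T 8 ∧ Nat.card T = 5515776

theorem fin {S : Type*} [Group S] {G : Type u} [Group G] [Finite G] (hRED : RED.{u}) {p n : ℕ} (hp : p.Prime)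
    (hc : Nat.card G = n) (h1 : p ∣ n) (h2 : ¬ p ^ 2 ∣ n) (hd : p ∈ degreePrimes G) (h0 : n ∣ Nat.factorial 79)
    (hlt : n < 2 ^ 26) (h : Ck n p)
    (hid : ∀ (T : Type u) [Group T] [Finite T], NAS T → p ∣ Nat.card T → Nat.card T ∣ n →
      Nonempty (T ≃* S) ∧ Nat.card T = n) : Nonempty (G ≃* S) := by
  obtain ⟨T, _, _, a, b, c, d⟩ := redG hRED hp hc h1 h2 hd h0 hlt h
  obtain ⟨⟨e⟩, f⟩ := hid T a b c
  obtain ⟨e'⟩ := d f
  exact ⟨e'.trans e⟩

universe v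

theorem caseL2 (hI : ISO.{0}) (I : IDs.{u}) (J : IDs.{v}) {S : Type v} [Group S] [Finite S] {G : Type u} [Group G]
    [Finite G] (hcard : Nat.card G = Nat.card S) (hΔ : degreePrimes G = degreePrimes S) {q p n : ℕ}
    (hm : (q, p, n) ∈ [(23, 23, 6072), (25, 13, 7800), (47, 47, 51888), (81, 41, 265680)]) (hS : L2 S q) :
    Nonempty (G ≃* S) := by
  classical
  have hn : n * Nat.gcd 2 (q - 1) = q * (q ^ 2 - 1) ∧ Nat.gcd 2 (q - 1) = 2 ∧ p.Prime ∧ p ∣ n ∧ ¬ p ^ 2 ∣ n ∧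
      n ∣ Nat.factorial 79 ∧ n < 2 ^ 26 ∧ Ck n p ∧ ¬ 64 ∣ n ∧ ¬ q - 1 ∣ 4 ∧ 4 ≤ q ∧ p ∣ q * (q ^ 2 - 1) := by
    simp only [List.mem_cons, Prod.mk.injEq, List.not_mem_nil, or_false] at hm
    rcases hm with ⟨rfl, rfl, rfl⟩ | ⟨rfl, rfl, rfl⟩ | ⟨rfl, rfl, rfl⟩ | ⟨rfl, rfl, rfl⟩ <;>
      exact ⟨by norm_num, by norm_num, by norm_num, by norm_num, by norm_num, by decide +kernel, by norm_num,
        by decide +kernel, by norm_num, by norm_num, by norm_num, by norm_num⟩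
  obtain ⟨a1, a2, a3, a4, a5, a6, a7, a8, a9, a10, a11, a12⟩ := hn
  have hc : Nat.card S = n := by
    have := ((J.card S q).1 hS).2.1
    rw [← a1, a2] at this
    omega
  have hd : p ∈ degreePrimes S := by
    obtain ⟨F, _, _, c, e⟩ := hS
    rw [(CL.GL2.degreeGraph_PSL2_or_SL2 (F := F) (c ▸ a10) (c ▸ a11) (.inl e)).1, c]
    exact ⟨a3, a12⟩
  refine fin I.red a3 (hcard.trans hc) a4 a5 (hΔ ▸ hd) a6 a7 a8 fun T _ _ b1 b2 b3 => ?_
  obtain ⟨c1, c2⟩ := I.oc2 T q p n hm (I.sm T b1 fun e => a9 (e.trans b3)) b2 b3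
  exact ⟨(iso2 hI q).1 c1 hS, c2⟩

theorem caseSz (hI : ISO.{0}) (I : IDs.{u}) (J : IDs.{v}) {S : Type v} [Group S] [Finite S] {G : Type u} [Group G]
    [Finite G] (hcard : Nat.card G = Nat.card S) (hΔ : degreePrimes G = degreePrimes S) {m p n : ℕ}
    (hm : (m, p, n) ∈ [(1, 13, 29120), (2, 41, 32537600)]) (hS : SzI S m) : Nonempty (G ≃* S) := by
  have hn : 1 ≤ m ∧ (2 ^ (2 * m + 1)) ^ 2 * ((2 ^ (2 * m + 1)) ^ 2 + 1) * (2 ^ (2 * m + 1) - 1) = n ∧ p.Prime ∧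
      p ∣ n ∧ ¬ p ^ 2 ∣ n ∧ n ∣ Nat.factorial 79 ∧ n < 2 ^ 26 ∧ Ck n p ∧
      (p, n) ∈ [(13, 29120), (41, 32537600)] := by
    simp only [List.mem_cons, Prod.mk.injEq, List.not_mem_nil, or_false] at hm
    rcases hm with ⟨rfl, rfl, rfl⟩ | ⟨rfl, rfl, rfl⟩ <;>
      exact ⟨by norm_num, by norm_num, by norm_num, by norm_num, by norm_num, by decide +kernel, by norm_num,
        by decide +kernel, by simp⟩
  obtain ⟨a1, a2, a3, a4, a5, a6, a7, a8, a9⟩ := hn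
  obtain ⟨hN, hc⟩ := (J.card S m).2.2 a1 hS
  rw [a2] at hc
  refine fin I.red a3 (hcard.trans hc) a4 a5 (hΔ ▸ J.degs S p n a9 hN hc) a6 a7 a8 fun T _ _ b1 b2 b3 => ?_
  obtain ⟨c1, c2⟩ := I.sz T m p n hm b1 b2 b3
  exact ⟨(iso2 hI m).2.2 c1 hS, c2⟩

theorem caseU (hI : ISO.{0}) (I : IDs.{u}) (J : IDs.{v}) {S : Type v} [Group S] [Finite S] {G : Type u} [Group G]
    [Finite G] (hcard : Nat.card G = Nat.card S) (hΔ : degreePrimes G = degreePrimes S) {q : ℕ}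
    (hq : q = 7 ∨ q = 8 ∨ q = 9) (hS : U3 S q) : Nonempty (G ≃* S) := by
  obtain ⟨-, hc, hN⟩ := (J.card S q).2.1 hS
  replace hN := hN (by omega)
  rcases hq with rfl | rfl | rfl
  · haveI : Fact (Nat.Prime 43) := ⟨by norm_num⟩
    have hc : Nat.card S = 5663616 := by norm_num at hc; exact hc
    have hd := degu' J.degu (p := 43) (d := 43904) (by rw [hc]) (nsyl hN (m := 131712) (by rw [hc]) (by norm_num) dv7)
      (by decide) (by norm_num) (by norm_num)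
    refine fin I.red (by norm_num) (hcard.trans hc) (by norm_num) (by norm_num) (hΔ ▸ hd) (by decide +kernel)
      (by norm_num) (by decide +kernel) fun T _ _ b1 b2 b3 => ?_
    obtain ⟨c1, c2⟩ := I.i7 T b1 b2 b3
    exact ⟨(iso2 hI 7).2.1 c1 hS, c2⟩
  · haveI : Fact (Nat.Prime 19) := ⟨by norm_num⟩
    have hc : Nat.card S = 5515776 := by norm_num at hc; omega
    have hn : Nat.card (Sylow 19 S) = 96768 := by
      refine (J.n8 S hN (by rw [hc]) (by rw [hc]; norm_num)).resolve_left fun h => ?_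
      obtain ⟨P⟩ : Nonempty (Sylow 19 S) := inferInstance
      have hP := card_syl P (by rw [hc]; norm_num) (by rw [hc]; norm_num)
      have := J.k8 S P hN (by rw [hc]) hP (by rw [← h, P.card_eq_index_normalizer]; rfl)
        (prop8 J.red (by rw [hc]) hP fun T' _ _ h1 h2 h3 h4 => by
          have := (J.i8 T' h1 h2 h3).2
          omega)
      rw [hc] at this
      rcases this with h1 | h1
      · exact h1 (by norm_num)
      · exact h1.2 (by norm_num)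
    have hd := degu' J.degu (p := 19) (d := 96768) (by rw [hc]) hn (by decide) (by norm_num) (by norm_num)
    refine fin I.red (by norm_num) (hcard.trans hc) (by norm_num) (by norm_num) (hΔ ▸ hd) (by decide +kernel)
      (by norm_num) (by decide +kernel) fun T _ _ b1 b2 b3 => ?_
    obtain ⟨c1, c2⟩ := I.i8 T b1 b2 b3
    exact ⟨(iso2 hI 8).2.1 c1 hS, c2⟩
  · haveI : Fact (Nat.Prime 73) := ⟨by norm_num⟩
    have hc : Nat.card S = 42573600 := by norm_num at hc; exact hc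
    have hd := degu' J.degu (p := 73) (d := 194400) (by rw [hc]) (nsyl hN (m := 583200) (by rw [hc]) (by norm_num) dv9)
      (by decide) (by norm_num) (by norm_num)
    refine fin I.red (by norm_num) (hcard.trans hc) (by norm_num) (by norm_num) (hΔ ▸ hd) (by decide +kernel)
      (by norm_num) (by decide +kernel) fun T _ _ b1 b2 b3 => ?_
    obtain ⟨c1, c2⟩ := I.oc3 T 9 73 42573600 (by simp) (I.sm T b1 fun e => absurd (e.trans b3) (by norm_num)) b2 b3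
    exact ⟨(iso2 hI 9).2.1 c1 hS, c2⟩

theorem main (hI : ISO.{0}) (I : IDs.{u}) (J : IDs.{v}) {S : Type v} [Group S] [Finite S]
    (hS : (∃ (F : Type) (_ : Field F) (_ : Fintype F), Fintype.card F ∈ ({23, 25, 47, 81} : Finset ℕ) ∧ Nonempty (S ≃* Matrix.ProjectiveSpecialLinearGroup (Fin 2) F)) ∨
      (∃ (F : Type) (_ : Field F) (_ : Fintype F) (q : ℕ), q ∈ ({7, 8, 9} : Finset ℕ) ∧ Fintype.card F = q ^ 2 ∧ Nonempty (S ≃* Cfsg.PSU 3 F q)) ∨
      (∃ (F : Type) (_ : Field F) (_ : Fintype F) (m : ℕ), m ∈ ({1, 2} : Finset ℕ) ∧ Fintype.card F = 2 ^ (2 * m + 1) ∧ Nonempty (S ≃* ↥(Cfsg.Lie.Sz F (2 ^ (m + 1))))))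
    {G : Type u} [Group G] [Finite G] (hcard : Nat.card G = Nat.card S) (hΔ : degreePrimes G = degreePrimes S) :
    Nonempty (G ≃* S) := by
  rcases hS with ⟨F, a, b, c, e⟩ | ⟨F, a, b, q, c, d, e⟩ | ⟨F, a, b, m, c, d, e⟩
  · simp only [Finset.mem_insert, Finset.mem_singleton] at c
    rcases c with c | c | c | c
    · exact caseL2 hI I J hcard hΔ (q := 23) (p := 23) (n := 6072) (by simp) ⟨F, a, b, c, e⟩
    · exact caseL2 hI I J hcard hΔ (q := 25) (p := 13) (n := 7800) (by simp) ⟨F, a, b, c, e⟩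
    · exact caseL2 hI I J hcard hΔ (q := 47) (p := 47) (n := 51888) (by simp) ⟨F, a, b, c, e⟩
    · exact caseL2 hI I J hcard hΔ (q := 81) (p := 41) (n := 265680) (by simp) ⟨F, a, b, c, e⟩
  · simp only [Finset.mem_insert, Finset.mem_singleton] at c
    exact caseU hI I J hcard hΔ c ⟨F, a, b, d, e⟩
  · simp only [Finset.mem_insert, Finset.mem_singleton] at c
    rcases c with rfl | rfl
    · exact caseSz hI I J hcard hΔ (m := 1) (p := 13) (n := 29120) (by simp) ⟨F, a, b, d, e⟩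
    · exact caseSz hI I J hcard hΔ (m := 2) (p := 41) (n := 32537600) (by simp) ⟨F, a, b, d, e⟩

end CL.DG9
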