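/-
Project DG9 (S3645): the number of Sylow 19-subgroups.
-/
import Cfsg.Agent.DG9.Defs
import Cfsg.Agent.S4700
import Cfsg.Agent.S4343
import Cfsg.Agent.Cls.SmallIso
import Cfsg.Agent.Inv.Small1

set_option autoImplicit false

namespace CL.DG9

open Cfsg Subgroup CL.Grp CL.Loc CL.Even CL.Char
open scoped commutatorElement

universe u

namespace n8x

theorem tab : ∀ i : ℕ, i < 10 → ∀ b : ℕ, b < 568 → 567 % b = 0 ∧ 2 ^ i * b % 19 = 1 →
    2 ^ i * b ∈ [1, 96, 324, 1008, 96768] := by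
  decide +kernel

theorem lst {n : ℕ} (h : n ∣ 5515776) (h1 : n % 19 = 1) : n ∈ [1, 96, 324, 1008, 96768] := by
  have h2 : n ∣ 2 ^ 9 * 567 := Nat.Coprime.dvd_of_dvd_mul_right (n := 19) (by
    refine ((Nat.Prime.coprime_iff_not_dvd (by norm_num)).2 ?_).symm; omega) h
  obtain ⟨a, b, ha, hb, rfl⟩ := Nat.dvd_mul.1 h2
  obtain ⟨i, hi, rfl⟩ := (Nat.dvd_prime_pow Nat.prime_two).1 ha
  exact tab i (by omega) b (Nat.lt_succ_of_le (Nat.le_of_dvd (by norm_num) hb)) ⟨Nat.mod_eq_zero_of_dvd hb, h1⟩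

theorem no {G : Type u} [Group G] [Finite G] [Fact (Nat.Prime 19)] (hG : NAS G) (hc : Nat.card G ∣ 5515776)
    (hd : 19 ∣ Nat.card G) (n : ℕ) (hn : n = 5 ∨ n = 17) (e : Nat.card (Sylow 19 G) = 1 + n * 19) : False := by
  have := hG.1
  have hperf : commutator G = ⊤ :=
    (IsSimpleGroup.eq_bot_or_eq_top_of_normal _ inferInstance).resolve_left fun e =>
      hG.2 ⟨⟨fun a b => commutatorElement_eq_one_iff_mul_comm.1
        (mem_bot.1 (e ▸ commutator_mem_commutator (mem_top a) (mem_top b)))⟩⟩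
  obtain ⟨P⟩ : Nonempty (Sylow 19 G) := inferInstance
  rcases Cfsg.Agent.S4700.result hperf 19 P (Cfsg.Agent.S4343.result hG.2 19 hd (by omega) P) n e with
    ⟨F, _, _, hF, -, ⟨φ⟩⟩ | ⟨m, F, _, _, -, hm, -⟩ | ⟨h, u, hh, hu, e⟩
  · have h1 := (card_quotient_dvd_card (pPrimeCore 19 G)).trans hc
    rw [Nat.card_congr φ.toEquiv, CL.Cls.card_PSL_two_of_card (d := 2) (N := 3420) hF rfl two_pos rfl] at h1
    omega
  · have : m < 5 := (Nat.pow_lt_pow_iff_right (by norm_num : 1 < 2)).1 (by omega)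
    interval_cases m <;> omega
  · have h1 : 1 * u * 19 ≤ h * u * 19 := by gcongr; omega
    have h2 : u < 4 := by rcases hn with rfl | rfl <;> nlinarith
    interval_cases u <;> omega

end n8x

open n8x in
theorem n8 : N8.{u} := by
  intro G _ _ hG hc hd
  have : Fact (Nat.Prime 19) := ⟨by norm_num⟩
  have := hG.1
  obtain ⟨P⟩ : Nonempty (Sylow 19 G) := inferInstance
  have h := lst ((P.card_dvd_index.trans (index_dvd_card _)).trans hc) (card_sylow_modEq_one 19 G)
  simp only [List.mem_cons, List.not_mem_nil, or_false] at h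
  rcases h with h | h | h | h
  · exact (CL.Inv.card_sylow_ne_one_of_simple hG.2 hd h).elim
  · exact (no hG hc hd 5 (.inl rfl) h).elim
  · exact (no hG hc hd 17 (.inr rfl) h).elim
  · exact h

end CL.DG9
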