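/-
Project DG9 (S3645): the two-point stabiliser has a normal Sylow 2-subgroup and a unique involution.
-/
import Cfsg.Agent.DG9.Defs

set_option autoImplicit false

namespace CL.DG9

open Cfsg Subgroup CL.Grp CL.Loc CL.Even CL.Char
open scoped commutatorElement

universe u

namespace NR7x

variable {G : Type u} [Group G] [Finite G]

theorem card16 {R H : Subgroup G} (h : IsSylowIn 2 R H) (hH : Nat.card H = 48) : Nat.card R = 16 := by
  have : Fact (Nat.Prime 2) := ⟨Nat.prime_two⟩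
  rw [h.card_eq_pow, hH]
  have : (48 : ℕ).factorization 2 = 4 := by
    rw [show (48 : ℕ) = 2 ^ 4 * 3 by norm_num, Nat.factorization_mul (by norm_num) (by norm_num),
      Nat.Prime.factorization_pow Nat.prime_two, Nat.prime_three.factorization]
    simp
  rw [this]; norm_num

theorem inv_inf {R R' H : Subgroup G} (h : R ≤ H) (h' : R' ≤ H) (hH : Nat.card H = 48) (c : Nat.card R = 16)
    (c' : Nat.card R' = 16) : ∃ t, orderOf t = 2 ∧ t ∈ R ∧ t ∈ R' := by
  have : Fact (Nat.Prime 2) := ⟨Nat.prime_two⟩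
  have e1 := card_mul_relIndex h'
  rw [c', hH] at e1
  have e2 : R'.relIndex R ≤ R'.relIndex H := relIndex_le_of_le_right h (by omega)
  have e3 := card_inf_mul_relIndex R' R
  rw [c] at e3
  have e4 : 2 ∣ Nat.card (R' ⊓ R : Subgroup G) := by
    have : R'.relIndex R ≤ 3 := by omega
    interval_cases R'.relIndex R <;> omega
  obtain ⟨t, ht⟩ := exists_prime_orderOf_dvd_card' 2 e4
  exact ⟨t, by rw [orderOf_coe, ht], t.2.2, t.2.1⟩

omit [Finite G] in
theorem comm_cent {L : Subgroup G} [IsCyclic L] {g x : G} (hg : g ∈ 𝒩(L)) (hx : x ∈ 𝒩(L)) : ⁅g, x⁆ ∈ 𝒞(L) := by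
  have h1 : ⁅(⟨g, hg⟩ : 𝒩(L)), ⟨x, hx⟩⁆ ∈ L.normalizerMonoidHom.ker := by
    rw [MonoidHom.mem_ker, map_commutatorElement, commutatorElement_eq_one_iff_mul_comm]
    exact (IsCyclic.mulAutMulEquiv L).injective (by rw [map_mul, map_mul, mul_comm])
  rw [normalizerMonoidHom_ker] at h1
  exact h1

end NR7x

open NR7x in
theorem nr7 (h1 : CT7.{u}) (h2 : UI7.{u}) : NR7.{u} := by
  intro G _ _ P Q A hPQ
  have : Fact (Nat.Prime 2) := ⟨Nat.prime_two⟩
  have : Fact (Nat.Prime 3) := ⟨Nat.prime_three⟩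
  have : Fact (Nat.Prime 7) := ⟨by norm_num⟩
  obtain ⟨c48, hfix, c6, c7⟩ := h1 G P Q A hPQ
  generalize hH : H7 P Q = H at *
  have hN : H ≤ 𝒩((P : Subgroup G)) := fun g hg => by
    rw [← hH] at hg
    exact Sylow.smul_eq_iff_mem_normalizer.1 hg.1
  have cP : Nat.card (P : Subgroup G) = 343 := by
    rw [P.card_eq_multiplicity, A.card]
    have : (5663616 : ℕ).factorization 7 = 3 := by
      rw [show (5663616 : ℕ) = 7 ^ 3 * 16512 by norm_num, Nat.factorization_mul (by norm_num) (by norm_num),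
        Nat.Prime.factorization_pow (by norm_num), Finsupp.add_apply,
        Nat.factorization_eq_zero_of_not_dvd (by norm_num)]
      simp
    rw [this]; norm_num
  have c8 : Nat.card {h : G // orderOf h = 2 ∧ h ∈ H} ≤ 8 := by
    have : Nat.card {s : G // orderOf s = 2 ∧ s • P = Q ∧ s • Q = P} ≤ Nat.card {s : G // s • P = Q ∧ s • Q = P} :=
      Nat.card_le_card_of_injective (fun s => ⟨s.1, s.2.2⟩) fun a b e => Subtype.ext (by simpa using e)
    omega
  have cT : ∀ t ∈ H, orderOf t = 2 → Nat.card ((P : Subgroup G) ⊓ centralizer {t} : Subgroup G) = 7 := fun t ht o => by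
    have := hfix t ht
    rw [A.fix2 t o] at this
    omega
  have hU : ∀ R ≤ H, Nat.card R = 16 → ∃ t ∈ R, ∀ h ∈ R, orderOf h = 2 ↔ h = t := fun R hR c =>
    h2 G P R cP c (hR.trans hN) (fun t ht => cT t (hR ht)) (le_trans (Nat.card_le_card_of_injective
      (fun s => (⟨s.1, s.2.1, hR s.2.2⟩ : {h : G // orderOf h = 2 ∧ h ∈ H}))
      fun a b e => Subtype.ext (by simpa using e)) c8)
  obtain ⟨R, hR⟩ := exists_isSylowIn (p := 2) H
  have cR := card16 hR c48
  obtain ⟨t, ht, hu⟩ := hU R hR.le cR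
  have o2 := (hu t ht).2 rfl
  have huq : ∀ h ∈ H, orderOf h = 2 ↔ h = t := fun h hh => ⟨fun o => by
    obtain ⟨R', hR', hle⟩ := exists_isSylowIn_ge (p := 2) (U := zpowers h)
      (IsPGroup.of_card (n := 1) (by rw [Nat.card_zpowers, o]; rfl)) (zpowers_le.2 hh)
    have cR' := card16 hR' c48
    obtain ⟨t', -, hu'⟩ := hU R' hR'.le cR'
    obtain ⟨s, s1, s2, s3⟩ := inv_inf hR.le hR'.le c48 cR cR'
    rw [(hu' h (hle (mem_zpowers h))).1 o, ← (hu' s s3).1 s1, (hu s s2).1 s1], fun e => e ▸ o2⟩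
  have htH := hR.le ht
  have hc : ∀ g ∈ H, g * t * g⁻¹ = t := fun g hg =>
    (huq _ (mul_mem (mul_mem hg htH) (inv_mem hg))).1 (((MulAut.conj g).orderOf_eq t).trans o2)
  obtain ⟨L, hL⟩ : ∃ L, L = (P : Subgroup G) ⊓ centralizer {t} := ⟨_, rfl⟩
  have cL : Nat.card L = 7 := hL ▸ cT t htH o2
  have : IsCyclic L := isCyclic_of_prime_card cL
  have hNL : H ≤ 𝒩(L) := by
    rw [hL]
    refine le_norm_inf hN fun g hg => le_normalizer (mem_centralizer_singleton_iff.2 ?_)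
    exact mul_inv_eq_iff_eq_mul.1 (hc g hg)
  have hK : IsPGroup 2 (H ⊓ 𝒞(L) : Subgroup G) := by
    have d1 : Nat.card (H ⊓ 𝒞(L) : Subgroup G) ∣ 2 ^ 4 * 3 := by
      have := card_dvd_of_le (inf_le_left : H ⊓ 𝒞(L) ≤ H)
      rwa [c48] at this
    have d2 : ¬ 3 ∣ Nat.card (H ⊓ 𝒞(L) : Subgroup G) := fun hd => by
      obtain ⟨r, hr⟩ := exists_prime_orderOf_dvd_card' 3 hd
      have e1 := hfix r r.2.1
      rw [A.fix3 r (by rw [orderOf_coe, hr])] at e1
      have e2 : L ≤ (P : Subgroup G) ⊓ centralizer {(r : G)} := fun y hy =>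
        ⟨(hL ▸ hy).1, mem_centralizer_singleton_iff.2 (comm_of_mem r.2.2 hy)⟩
      have := card_le_of_le e2
      omega
    obtain ⟨k, -, hk⟩ := (Nat.dvd_prime_pow Nat.prime_two).1
      (((Nat.prime_three.coprime_iff_not_dvd.2 d2).symm).dvd_of_dvd_mul_right d1)
    exact IsPGroup.of_card hk
  have hKR : H ⊓ 𝒞(L) ≤ R := hR.le_of_normalized hK inf_le_left (le_norm_inf le_normalizer (le_norm_cent hNL))
  refine ⟨R, t, hR.le, cR, le_norm_of_commutator_le (commutator_le.2 fun x hx g hg => hKR ⟨?_, ?_⟩), ht, huq⟩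
  · exact H.mul_mem (H.mul_mem (H.mul_mem (hR.le hx) hg) (H.inv_mem (hR.le hx))) (H.inv_mem hg)
  · exact comm_cent (hNL (hR.le hx)) (hNL hg)

end CL.DG9
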