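/-
Project DG9: order comparison for the groups `L₂(q)`.
-/
import Cfsg.Agent.DG9.Defs

set_option autoImplicit false

namespace CL.DG9

open Cfsg Subgroup CL.Grp CL.Loc CL.Even CL.Char
open scoped commutatorElement

universe u

namespace oc2x

abbrev LL : List (ℕ × ℕ × ℕ) := [(23, 23, 6072), (25, 13, 7800), (47, 47, 51888), (81, 41, 265680)]

theorem bd : ∀ x ∈ LL, 0 < x.2.2 ∧ x.2.2 ≤ 265680 := by decide +kernel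

theorem d2 : ∀ x ∈ LL, ∀ q < 82, 2 ≤ q → x.2.1 ∣ q * (q ^ 2 - 1) / Nat.gcd 2 (q - 1) →
    q * (q ^ 2 - 1) / Nat.gcd 2 (q - 1) ∣ x.2.2 → q = x.1 ∧ q * (q ^ 2 - 1) / Nat.gcd 2 (q - 1) = x.2.2 := by decide +kernel

theorem u3 : ∀ x ∈ LL, ∀ q < 6, x.2.1 ∣ q ^ 3 * (q ^ 2 - 1) * (q ^ 3 + 1) / Nat.gcd 3 (q + 1) →
    ¬ q ^ 3 * (q ^ 2 - 1) * (q ^ 3 + 1) / Nat.gcd 3 (q + 1) ∣ x.2.2 := by decide +kernel

theorem l3 : ∀ x ∈ LL, ∀ q < 6, x.2.1 ∣ q ^ 3 * (q ^ 2 - 1) * (q ^ 3 - 1) / Nat.gcd 3 (q - 1) →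
    ¬ q ^ 3 * (q ^ 2 - 1) * (q ^ 3 - 1) / Nat.gcd 3 (q - 1) ∣ x.2.2 := by decide +kernel

theorem s4 : ∀ x ∈ LL, ∀ q < 4, x.2.1 ∣ q ^ 4 * (q ^ 2 - 1) * (q ^ 4 - 1) →
    ¬ q ^ 4 * (q ^ 2 - 1) * (q ^ 4 - 1) ∣ x.2.2 := by decide +kernel

theorem sp : ∀ x ∈ LL, ∀ m ∈ [29120, 2520, 7920, 175560, 4245696], x.2.1 ∣ m → ¬ m ∣ x.2.2 := by decide +kernel

theorem div_of {m g X : ℕ} (c : ℕ) (hc : 0 < c) (h : m * Nat.gcd c g = X) : m = X / Nat.gcd c g ∧ X ≤ m * c :=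
  ⟨(Nat.div_eq_of_eq_mul_left (Nat.gcd_pos_of_pos_left _ hc) h.symm).symm,
    h ▸ Nat.mul_le_mul_left _ (Nat.gcd_le_left _ hc)⟩

end oc2x

open oc2x

theorem oc2 (h : CARD.{u}) : OC2.{u} := by
  intro T _ q p n hx l hp hn
  obtain ⟨n0, nb⟩ : 0 < n ∧ n ≤ 265680 := bd _ hx
  have mb := (Nat.le_of_dvd n0 hn).trans nb
  rcases l with ⟨r, l⟩ | ⟨r, l⟩ | ⟨r, r2, e⟩ | ⟨r, r2, e⟩ | ⟨k, k1, e⟩ | ⟨k, k1, e⟩ | e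
  · obtain ⟨r2, e, -⟩ := (h T r).1 l
    obtain ⟨e1, e2⟩ := div_of 2 two_pos e
    have : r < 82 := by
      by_contra! k
      have : 82 * (82 ^ 2 - 1) ≤ r * (r ^ 2 - 1) := by gcongr
      omega
    obtain ⟨rfl, e3⟩ : r = q ∧ _ = n := d2 _ hx r this r2 (e1 ▸ hp) (e1 ▸ hn)
    exact ⟨l, e1.trans e3⟩
  · obtain ⟨r2, e, -⟩ := (h T r).2.1 l
    obtain ⟨e1, e2⟩ := div_of 3 three_pos e
    have : r < 6 := by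
      by_contra! k
      have : 6 ^ 3 * (6 ^ 2 - 1) * (6 ^ 3 + 1) ≤ r ^ 3 * (r ^ 2 - 1) * (r ^ 3 + 1) := by gcongr
      omega
    exact (u3 _ hx r this (e1 ▸ hp) (e1 ▸ hn)).elim
  · obtain ⟨e1, e2⟩ := div_of 3 three_pos e
    have : r < 6 := by
      by_contra! k
      have : 6 ^ 3 * (6 ^ 2 - 1) * (6 ^ 3 - 1) ≤ r ^ 3 * (r ^ 2 - 1) * (r ^ 3 - 1) := by gcongr
      omega
    exact (l3 _ hx r this (e1 ▸ hp) (e1 ▸ hn)).elim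
  · have : r < 4 := by
      by_contra! k
      have : 4 ^ 4 * (4 ^ 2 - 1) * (4 ^ 4 - 1) ≤ r ^ 4 * (r ^ 2 - 1) * (r ^ 4 - 1) := by gcongr
      omega
    exact (s4 _ hx r this (e ▸ hp) (e ▸ hn)).elim
  · obtain rfl : k = 1 := by
      by_contra k0
      have k2 : 2 ^ 5 ≤ 2 ^ (2 * k + 1) := Nat.pow_le_pow_right two_pos (by omega)
      generalize 2 ^ (2 * k + 1) = r at e k2
      have : (2 ^ 5) ^ 2 * ((2 ^ 5) ^ 2 + 1) * (2 ^ 5 - 1) ≤ r ^ 2 * (r ^ 2 + 1) * (r - 1) := by gcongr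
      omega
    exact (sp _ hx _ (by simp [e]) hp hn).elim
  · have k2 : 3 ^ 3 ≤ 3 ^ (2 * k + 1) := Nat.pow_le_pow_right three_pos (by omega)
    generalize 3 ^ (2 * k + 1) = r at e k2
    have : (3 ^ 3) ^ 3 * ((3 ^ 3) ^ 3 + 1) * (3 ^ 3 - 1) ≤ r ^ 3 * (r ^ 3 + 1) * (r - 1) := by gcongr
    omega
  · exact (sp _ hx _ (by simp [e]) hp hn).elim

end CL.DG9
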