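/-
Project DG9 (S3645): orders dividing those of three unitary groups.
-/
import Cfsg.Agent.DG9.Defs

set_option autoImplicit false

namespace CL.DG9

universe u

namespace oc3x

def Ls : List (ℕ × ℕ × ℕ) := [(7, 43, 5663616), (8, 19, 5515776), (9, 73, 42573600)]

theorem le {q p n m : ℕ} (h : (q, p, n) ∈ Ls) (hm : m ∣ n) : m ≤ 42573600 := by
  have : ∀ t ∈ Ls, 0 < t.2.2 ∧ t.2.2 ≤ 42573600 := by decide
  exact (Nat.le_of_dvd (this _ h).1 hm).trans (this _ h).2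

theorem bd (f : ℕ → ℕ) (hf : ∀ a b, a ≤ b → f a ≤ f b) (B : ℕ) {q m g : ℕ} (hm : m ≤ 42573600) (hg : g ≤ 3)
    (e : m * g = f q) (hB : 42573600 * 3 < f B) : q < B :=
  lt_of_not_ge fun k => absurd ((hf _ _ k).trans (e.ge.trans (Nat.mul_le_mul hm hg))) (not_le.2 hB)

theorem dv {m g x : ℕ} (hg : 0 < g) (e : m * g = x) : m = x / g := by rw [← e, Nat.mul_div_cancel _ hg]

theorem l2 {q0 p n m q : ℕ} (h : (q0, p, n) ∈ Ls) (hp : p ∣ m) (hm : m ∣ n)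
    (e : m * Nat.gcd 2 (q - 1) = q * (q ^ 2 - 1)) : False := by
  have b := bd (fun q => q * (q ^ 2 - 1)) (fun a b h => by gcongr) 510 (le h hm)
    ((Nat.gcd_le_left _ (by norm_num)).trans (by norm_num)) e (by norm_num)
  have : ∀ q < 510, ∀ t ∈ Ls, t.2.1 ∣ q * (q ^ 2 - 1) / Nat.gcd 2 (q - 1) →
      ¬ q * (q ^ 2 - 1) / Nat.gcd 2 (q - 1) ∣ t.2.2 := by decide +kernel
  rw [dv (Nat.gcd_pos_of_pos_left _ (by norm_num)) e] at hp hm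
  exact this q b _ h hp hm

theorem u3 {q0 p n m q : ℕ} (h : (q0, p, n) ∈ Ls) (hp : p ∣ m) (hm : m ∣ n)
    (e : m * Nat.gcd 3 (q + 1) = q ^ 3 * (q ^ 2 - 1) * (q ^ 3 + 1)) : q = q0 ∧ m = n := by
  have b := bd (fun q => q ^ 3 * (q ^ 2 - 1) * (q ^ 3 + 1)) (fun a b h => by gcongr) 12 (le h hm)
    (Nat.gcd_le_left _ (by norm_num)) e (by norm_num)
  have : ∀ q < 12, ∀ t ∈ Ls, t.2.1 ∣ q ^ 3 * (q ^ 2 - 1) * (q ^ 3 + 1) / Nat.gcd 3 (q + 1) →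
      q ^ 3 * (q ^ 2 - 1) * (q ^ 3 + 1) / Nat.gcd 3 (q + 1) ∣ t.2.2 →
      q = t.1 ∧ q ^ 3 * (q ^ 2 - 1) * (q ^ 3 + 1) / Nat.gcd 3 (q + 1) = t.2.2 := by decide +kernel
  rw [dv (Nat.gcd_pos_of_pos_left _ (by norm_num)) e] at hp hm ⊢
  exact this q b _ h hp hm

theorem oth {q0 p n m : ℕ} (h : (q0, p, n) ∈ Ls) (hp : p ∣ m) (hm : m ∣ n) (o : Oth m) : False := by
  rcases o with ⟨q, -, e⟩ | ⟨q, -, e⟩ | ⟨k, -, e⟩ | ⟨k, hk, e⟩ | e | e | e | e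
  · have b := bd (fun q => q ^ 3 * (q ^ 2 - 1) * (q ^ 3 - 1)) (fun a b h => by gcongr) 12 (le h hm)
      (Nat.gcd_le_left _ (by norm_num)) e (by norm_num)
    have : ∀ q < 12, ∀ t ∈ Ls, t.2.1 ∣ q ^ 3 * (q ^ 2 - 1) * (q ^ 3 - 1) / Nat.gcd 3 (q - 1) →
        ¬ q ^ 3 * (q ^ 2 - 1) * (q ^ 3 - 1) / Nat.gcd 3 (q - 1) ∣ t.2.2 := by decide +kernel
    rw [dv (Nat.gcd_pos_of_pos_left _ (by norm_num)) e] at hp hm
    exact this q b _ h hp hm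
  · have b := bd (fun q => q ^ 4 * (q ^ 2 - 1) * (q ^ 4 - 1)) (fun a b h => by gcongr) 12 (le h hm)
      (g := 1) (by norm_num) ((mul_one _).trans e) (by norm_num)
    have : ∀ q < 12, ∀ t ∈ Ls, t.2.1 ∣ q ^ 4 * (q ^ 2 - 1) * (q ^ 4 - 1) →
        ¬ q ^ 4 * (q ^ 2 - 1) * (q ^ 4 - 1) ∣ t.2.2 := by decide +kernel
    rw [e] at hp hm
    exact this q b _ h hp hm
  · have b := bd (fun k => (2 ^ (2 * k + 1)) ^ 2 * ((2 ^ (2 * k + 1)) ^ 2 + 1) * (2 ^ (2 * k + 1) - 1))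
      (fun a b h => by gcongr <;> norm_num) 3 (le h hm) (g := 1) (by norm_num) ((mul_one _).trans e) (by norm_num)
    have : ∀ k < 3, ∀ t ∈ Ls,
        t.2.1 ∣ (2 ^ (2 * k + 1)) ^ 2 * ((2 ^ (2 * k + 1)) ^ 2 + 1) * (2 ^ (2 * k + 1) - 1) →
        ¬ (2 ^ (2 * k + 1)) ^ 2 * ((2 ^ (2 * k + 1)) ^ 2 + 1) * (2 ^ (2 * k + 1) - 1) ∣ t.2.2 := by decide +kernel
    rw [e] at hp hm
    exact this k b _ h hp hm
  · have b := bd (fun k => (3 ^ (2 * k + 1)) ^ 3 * ((3 ^ (2 * k + 1)) ^ 3 + 1) * (3 ^ (2 * k + 1) - 1))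
      (fun a b h => by gcongr <;> norm_num) 1 (le h hm) (g := 1) (by norm_num) ((mul_one _).trans e) (by norm_num)
    omega
  all_goals
    have : ∀ m ∈ [2520, 7920, 175560, 4245696], ∀ t ∈ Ls, t.2.1 ∣ m → ¬ m ∣ t.2.2 := by decide +kernel
    exact this m (by simp [e]) _ h hp hm

end oc3x

theorem oc3 (h : CARD.{u}) : OC3.{u} := by
  intro T _ q p n hl hT hp hm
  rcases hT with ⟨r, k⟩ | ⟨r, k⟩ | k
  · exact (oc3x.l2 hl hp hm ((h T r).1 k).2.1).elim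
  · obtain ⟨rfl, e⟩ := oc3x.u3 hl hp hm ((h T r).2.1 k).2.1
    exact ⟨k, e⟩
  · exact (oc3x.oth hl hp hm k).elim

end CL.DG9
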