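/-
Project DG9: elements of odd order normalising `S` centralise it.
-/
import Cfsg.Agent.DG9.Defs
import Cfsg.Agent.Even.Amb2

set_option autoImplicit false

namespace CL.DG9

open Cfsg Subgroup CL.Grp CL.Loc CL.Even CL.Char
open scoped commutatorElement

universe u

namespace OUTx
variable {G : Type u} [Group G] [Finite G]

theorem mul_mem_two {U V : Subgroup G} (hle : V ≤ U) (hc : Nat.card U = 2 * Nat.card V) {a b : G} (ha : a ∈ U)
    (hb : b ∈ U) (h : a ∈ V ↔ b ∈ V) : a * b ∈ V := by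
  have h1 : (V.subgroupOf U).index = 2 := by
    have h2 := (V.subgroupOf U).card_mul_index
    rw [Nat.card_congr (subgroupOfEquivOfLe hle).toEquiv, hc, mul_comm 2] at h2
    exact Nat.eq_of_mul_eq_mul_left Nat.card_pos h2
  exact (mul_mem_iff_of_index_two h1 (a := ⟨a, ha⟩) (b := ⟨b, hb⟩)).2 h

/-- one step of the chain -/
theorem step {U V : Subgroup G} (hV : IsPGroup 2 V) (hle : V ≤ U) (hc : Nat.card U = 2 * Nat.card V) {x : G}
    (ho : Odd (orderOf x)) (hU : x ∈ 𝒩(U)) (hx : x ∈ 𝒞(V)) : x ∈ 𝒞(U) := by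
  refine mem_cent_of_coprime hV (Nat.coprime_two_right.2 ho) (fun r hr => ?_) hx
  have hN := cent_le_norm V hx
  rw [show ⁅r, x⁆ = r * (x * r⁻¹ * x⁻¹) by simp only [commutatorElement_def, mul_assoc]]
  refine mul_mem_two hle hc hr (conj_mem hU (inv_mem hr)) ⟨fun h => conj_mem hN (inv_mem h), fun h => ?_⟩
  have := conj_mem' hN h
  rwa [show x⁻¹ * (x * r⁻¹ * x⁻¹) * x = r⁻¹ by group, inv_mem_iff] at this

end OUTx

open OUTx in
theorem out : OUT.{u} := by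
  intro G _ _ S A h x hx ho
  have pS := h.syl.isPGroup
  have DS : ⁅S, S⁆ ≤ S := h.DA.trans h.le
  have nD : 𝒩(S) ≤ 𝒩(⁅S, S⁆) := le_norm_commutator le_rfl le_rfl
  have xD := nD hx
  have xM : x ∈ 𝒩(S ⊓ 𝒞(⁅S, S⁆)) := le_norm_inf le_rfl (le_norm_cent nD) hx
  have xZ : x ∈ 𝒩(⁅S, S⁆ ⊓ 𝒞(S)) := le_norm_inf nD (norm_le_norm_cent S) hx
  have xA : x ∈ 𝒩(A) := by
    refine mem_norm_of_cj_le ?_
    rintro _ ⟨a, ha, rfl⟩
    show x * a * x⁻¹ ∈ A
    refine (h.memA _ (conj_mem hx (h.le ha))).2 fun s hs => ?_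
    have h1 := conj_mem (norm_le_norm_cent S hx) ((h.memA a (h.le ha)).1 ha _ (conj_mem' hx hs))
    rwa [show x * ⁅a, x⁻¹ * s * x⁆ * x⁻¹ = ⁅x * a * x⁻¹, s⁆ by simp only [commutatorElement_def]; group] at h1
  have cZ : Nat.card (⁅S, S⁆ ⊓ 𝒞(S) : Subgroup G) = 2 := by
    have h1 : Nat.card (⁅S, S⁆ ⊓ 𝒞(S) : Subgroup G) ∣ 2 ^ 2 := (card_dvd_of_le inf_le_left).trans (dvd_of_eq h.cardD)
    have h2 : (⁅S, S⁆ ⊓ 𝒞(S) : Subgroup G) ≠ ⊥ := inf_cent_ne_bot (pS.to_le DS) pS (le_normalizer.trans nD) fun e => by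
      have := h.cardD
      rw [e, card_bot] at this
      omega
    obtain ⟨k, hk, e⟩ := (Nat.dvd_prime_pow Nat.prime_two).1 h1
    interval_cases k
    · exact absurd (card_eq_one.1 e) h2
    · exact e
    · exact absurd ((eq_of_le_of_card_ge inf_le_left (by rw [e, h.cardD]; rfl)).ge.trans inf_le_right) h.nc
  have AM : A ≤ S ⊓ 𝒞(⁅S, S⁆) := le_inf h.le h.AD
  have h0 : x ∈ 𝒞((⊥ : Subgroup G)) := mem_centralizer_iff.2 fun g hg => by rw [mem_bot.1 hg, one_mul, mul_one]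
  have h1 := step IsPGroup.of_bot bot_le (by rw [cZ, card_bot]) ho xZ h0
  have h2 := step (pS.to_le (inf_le_left.trans DS)) inf_le_left (by rw [cZ, h.cardD]) ho xD h1
  have h3 := step (pS.to_le DS) h.DA (by rw [h.cardA, h.cardD]) ho xA h2
  have h4 := step (pS.to_le h.le) AM (by rw [h.cardA, h.cardM]) ho xM h3
  exact step (pS.to_le inf_le_left) inf_le_left (by rw [h.card, h.cardM]) ho hx h4

end CL.DG9
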