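/-
Project DG9 (S3645): the action on the Sylow 7-subgroups.
-/
import Cfsg.Agent.DG9.Defs
import Cfsg.Agent.Char.Prod

set_option autoImplicit false

namespace CL.DG9

open Cfsg Subgroup CL.Grp CL.Loc CL.Even CL.Char
open scoped commutatorElement

universe u

theorem PI7x.num : ∀ j < 49, 343 * j + 1 ∣ 16512 → 343 * j + 1 ≠ 1 → 343 * j + 1 = 344 := by decide +kernel

theorem pi7 : PI7.{u} := by
  intro G _ _ χ St h ti
  have : Fact (Nat.Prime 7) := ⟨by norm_num⟩
  have cP : ∀ P : Sylow 7 G, Nat.card (P : Subgroup G) = 343 := fun P => by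
    rw [P.card_eq_multiplicity, h.card, show 5663616 = 7 ^ 3 * 16512 by norm_num,
      Nat.factorization_eq_of_coprime_left (by norm_num) (by simp), Nat.Prime.factorization_pow (by norm_num)]
    simp
  have own : ∀ (P : Sylow 7 G), ∀ y ∈ (P : Subgroup G), y • P = P := fun P y hy =>
    Sylow.smul_eq_iff_mem_normalizer.2 (le_normalizer hy)
  have free : ∀ P Q : Sylow 7 G, Q ≠ P → ∀ y ∈ (P : Subgroup G), y • Q = Q → y = 1 := fun P Q hQ y hy e => by
    have h1 : y ∈ (P : Subgroup G) ⊓ normalizer (Q : Set G) := ⟨hy, Sylow.smul_eq_iff_mem_normalizer.1 e⟩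
    rwa [P.isPGroup'.inf_normalizer_sylow Q, ti P Q hQ.symm, mem_bot] at h1
  have deg : Nat.card (Sylow 7 G) = 344 := by
    obtain ⟨P⟩ : Nonempty (Sylow 7 G) := inferInstance
    have h1 : Nat.card (Sylow 7 G) ∣ 16512 := by
      have h2 := (P : Subgroup G).card_mul_index
      rw [cP, h.card] at h2
      have h3 := P.card_dvd_index
      rwa [show (P : Subgroup G).index = 16512 by omega] at h3
    have h2 : Nat.card (Sylow 7 G) ≠ 1 := fun e => by
      have := (Nat.card_eq_one_iff_unique.1 e).1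
      have := h.nas.1
      have h3 := cP P
      rcases (Sylow.normal_of_subsingleton P).eq_bot_or_eq_top with e | e
      · rw [e, card_bot] at h3; omega
      · rw [e, card_top, h.card] at h3; omega
    classical
    have := Fintype.ofFinite (P : Subgroup G)
    have h3 := sum_card_fixedBy (G := (P : Subgroup G)) (Sylow 7 G)
    rw [← Finset.add_sum_erase _ _ (Finset.mem_univ 1), Finset.sum_congr rfl (g := fun _ => 1) fun y hy => by
      rw [show MulAction.fixedBy (Sylow 7 G) y = {P} from Set.ext fun Q => ⟨fun e => by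
        by_contra k
        exact (Finset.mem_erase.1 hy).1 (Subtype.ext (free P Q k y y.2 e)), fun e => by
          rw [Set.mem_singleton_iff.1 e]; exact own P y y.2⟩, Nat.card_unique],
      MulAction.fixedBy_one_eq_univ, Nat.card_univ, Finset.sum_const, Finset.card_erase_of_mem (Finset.mem_univ _),
      Finset.card_univ, ← Nat.card_eq_fintype_card, cP, smul_eq_mul] at h3
    have h4 := Nat.le_of_dvd (by norm_num) h1
    obtain ⟨j, hj⟩ : ∃ j, Nat.card (Sylow 7 G) = 343 * j + 1 :=
      ⟨Nat.card (MulAction.orbitRel.Quotient (P : Subgroup G) (Sylow 7 G)) - 1, by omega⟩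
    rw [hj] at h1 h2 h4 ⊢
    exact PI7x.num j (by omega) h1 h2
  have reg : ∀ P Q R : Sylow 7 G, Q ≠ P → R ≠ P → ∃! y : (P : Subgroup G), (y : G) • Q = R := fun P Q R hQ hR => by
    let f : ↥(P : Subgroup G) → {R : Sylow 7 G // R ≠ P} := fun y => ⟨(y : G) • Q, fun e => hQ (by
      rw [← inv_smul_smul (y : G) Q, e, own P _ (inv_mem y.2)])⟩
    have hf : Function.Injective f := fun a b e => by
      have e1 : (a : G) • Q = (b : G) • Q := congrArg Subtype.val e
      have := free P Q hQ ((b : G)⁻¹ * a) (mul_mem (inv_mem b.2) a.2) (by rw [mul_smul, e1, inv_smul_smul])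
      exact Subtype.ext (inv_mul_eq_one.1 this).symm
    have hc : Nat.card {R : Sylow 7 G // R ≠ P} = 343 := by
      classical
      have := Fintype.ofFinite (Sylow 7 G)
      rw [Nat.card_eq_fintype_card, Fintype.card_subtype_compl, Fintype.card_subtype_eq, ← Nat.card_eq_fintype_card, deg]
    obtain ⟨y, hy⟩ := (hf.bijective_of_nat_card_le (by rw [hc, cP])).2 ⟨R, hR⟩
    exact ⟨y, congrArg Subtype.val hy, fun y' e => hf ((Subtype.ext e).trans hy.symm)⟩
  have two : MulAction.IsMultiplyPretransitive G (Sylow 7 G) 2 :=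
    MulAction.is_two_pretransitive_iff.2 fun {a b c d} hab hcd => by
      obtain ⟨g, rfl⟩ := MulAction.exists_smul_eq G a c
      obtain ⟨y, hy, -⟩ := reg (g • a) (g • b) d (fun e => hab (smul_left_cancel g e).symm) hcd.symm
      exact ⟨y * g, by rw [mul_smul, own _ _ y.2], by rw [mul_smul, hy]⟩
  have : Nontrivial (Sylow 7 G) := Finite.one_lt_card_iff_nontrivial.1 (by omega)
  have hψ := (isIrrCharacter_card_fixedBy_sub_one_iff (G := G) (Sylow 7 G)).2 two
  have e := h.uniq ⟨_, hψ⟩ (charDegree_eq_of_eq (by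
    show (Nat.card (MulAction.fixedBy (Sylow 7 G) (1 : G)) : ℂ) - 1 = _
    rw [MulAction.fixedBy_one_eq_univ, Nat.card_univ, deg]; norm_num))
  have e1 : ∀ g : G, (Nat.card (MulAction.fixedBy (Sylow 7 G) g) : ℂ) = (St : G → ℂ) g + 1 := fun g => by
    rw [← e]; exact (sub_add_cancel _ _).symm
  refine ⟨h.nas, h.card, deg, ti, reg, two, fun t ht => ?_, fun g hg => ?_⟩
  · have := e1 t
    rw [h.Stt t ht] at this
    exact_mod_cast (this.trans (by norm_num : (7 : ℂ) + 1 = (8 : ℕ)))
  · have := e1 g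
    rw [h.St3 g hg] at this
    exact_mod_cast (this.trans (by norm_num : (1 : ℂ) + 1 = (2 : ℕ)))

end CL.DG9
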