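/-
Project DG9, job RED (helper60): reduction to a nonabelian simple section.
-/
import Cfsg.Agent.DG9.Defs

set_option autoImplicit false

namespace CL.DG9

open Cfsg Subgroup CL.Grp CL.Loc CL.Even CL.Char CL.Blk.DegOrd
open scoped commutatorElement

universe u

theorem red : RED.{u} := by
  intro G _ _ p hp P hP h2 hr nP
  have h1 : p ∣ Nat.card G := hP ▸ card_subgroup_dvd_card P
  set N := pPrimeCore p G
  have hN : ¬ p ∣ Nat.card N := not_dvd_card_pPrimeCore p G
  have hq := card_eq_card_quotient_mul_card_subgroup N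
  have hO := pPrimeCore_quotient_pPrimeCore p G
  obtain ⟨h3, h4⟩ := gen_simple ((hp.out.dvd_mul.1 (hq ▸ h1)).resolve_right hN)
    (fun e => h2 (e.trans (Dvd.intro _ hq.symm))) hO
  have hc' : ¬ IsMulCommutative (gen p (G ⧸ N)) := fun hm => by
    have h5 : Nat.card (gen p (G ⧸ N)) = p := by
      have := (Group.is_simple_iff_prime_card (α := gen p (G ⧸ N))).1 h4
      exact ((Nat.prime_dvd_prime_iff_eq hp.out this).1 h3).symm
    set K := (gen p (G ⧸ N)).comap (QuotientGroup.mk' N)
    have hK : Nat.card K = Nat.card N * p := by rw [card_comap_mk', h5]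
    obtain ⟨X, hX⟩ := exists_isSylowIn (p := p) K
    have hXp : Nat.card X = p := by
      rw [hX.card_eq_pow, hK, Nat.factorization_mul Nat.card_pos.ne' hp.out.ne_zero, Finsupp.add_apply,
        Nat.factorization_eq_zero_of_not_dvd hN, hp.out.factorization_self, zero_add, pow_one]
    have hNK : N ≤ K := by
      nth_rewrite 1 [← QuotientGroup.ker_mk' N]
      exact ker_le_comap _ _
    have hXN : X ⊔ N = K := by
      refine eq_of_le_of_card_ge (sup_le hX.le hNK) ?_
      rw [card_sup_of_inf_eq_bot le_normalizer_of_normal (inf_pPrimeCore_eq_bot hX.isPGroup), hK, hXp, mul_comm]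
    have hn : K ≤ normalizer (X : Set G) := hXN ▸ sup_le le_normalizer
      ((le_cent hX.isPGroup le_normalizer_of_normal hN fun r h i h0 e =>
        hr r h i h0 (e.trans (card_subgroup_dvd_card N))).trans (centralizer_le_normalizer _))
    have he : pCoreOf p K = X :=
      hX.eq_of_le (pCoreOf_isPGroup p K) (le_pCoreOf hX.le hn hX.isPGroup) (pCoreOf_le p K)
    have hXn : X.Normal := he ▸ inferInstance
    have hle : P ≤ X := fun x hx => by
      rcases (Nat.dvd_prime hp.out).1 (hP ▸ P.orderOf_dvd_natCard hx) with e | e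
      · rw [orderOf_eq_one_iff.1 e]; exact one_mem _
      · exact mem_of_orderOf h2 hXp.symm.dvd e (le_normalizer_of_normal (mem_top x))
    exact nP (eq_of_le_of_card_ge hle (by rw [hXp, hP]) ▸ hXn)
  have hd := card_subgroup_dvd_card (gen p (G ⧸ N))
  refine ⟨gen p (G ⧸ N), inferInstance, inferInstance, ⟨h4, hc'⟩, h3, hd.trans (Dvd.intro _ hq.symm), fun e => ?_⟩
  have h5 : Nat.card (G ⧸ N) ≤ Nat.card G := Nat.le_of_dvd Nat.card_pos (Dvd.intro _ hq.symm)
  have h6 : gen p (G ⧸ N) = ⊤ := eq_top_of_le_card _ (e ▸ h5)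
  exact ⟨MulEquiv.ofBijective ((QuotientGroup.mk' N).codRestrict _ fun x => h6 ▸ mem_top _)
    ((Nat.bijective_iff_surjective_and_card _).2 ⟨fun y => by
      obtain ⟨x, hx⟩ := QuotientGroup.mk'_surjective N y.1
      exact ⟨x, Subtype.ext hx⟩, e.symm⟩)⟩

end CL.DG9
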