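/-
Project DG9 (S3645): self-centralizing subgroups of order at most 8 with an odd automorphism.
-/
import Cfsg.Agent.DG9.Defs

set_option autoImplicit false

namespace CL.DG9

open Cfsg Subgroup CL.Grp CL.Loc CL.Even CL.Char
open scoped commutatorElement

universe u

namespace SMLx

variable {G : Type*} [Group G] [Finite G]

theorem two_mul_le {H K : Subgroup G} (h : H ≤ K) (hn : ¬ K ≤ H) : 2 * Nat.card H ≤ Nat.card K := by
  obtain ⟨c, hc⟩ := card_dvd_of_le h
  have h0 : 0 < Nat.card K := Nat.card_pos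
  have h1 : c ≠ 1 := by
    rintro rfl
    exact hn (eq_of_le_of_card_ge h (by omega)).ge
  have h2 : c ≠ 0 := by rintro rfl; omega
  rw [hc, mul_comm]
  exact Nat.mul_le_mul_left _ (by omega)

theorem idx_two {H K : Subgroup G} (h : H ≤ K) (hc : Nat.card K ≤ 2 * Nat.card H) {a b : G} (ha : a ∈ K) (hb : b ∈ K)
    (ha' : a ∉ H) (hb' : b ∉ H) : a * b ∈ H := by
  have e : Nat.card (H.subgroupOf K) = Nat.card H := Nat.card_congr (subgroupOfEquivOfLe h).toEquiv
  have m := (H.subgroupOf K).index_mul_card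
  rw [e] at m
  have h0 : 0 < Nat.card H := Nat.card_pos
  have h1 : (H.subgroupOf K).index ≠ 1 := fun k => ha' (relIndex_eq_one.1 k ha)
  have h2 : (H.subgroupOf K).index ≠ 0 := index_ne_zero_of_finite
  have h3 : (H.subgroupOf K).index ≤ 2 := Nat.le_of_mul_le_mul_right (m ▸ hc) h0
  have := (mul_mem_iff_of_index_two (H := H.subgroupOf K) (by omega) (a := ⟨a, ha⟩) (b := ⟨b, hb⟩)).2
    (by simp [mem_subgroupOf, ha', hb'])
  exact this

theorem step {V W : Subgroup G} {x : G} (hx : Odd (orderOf x)) (h : V ≤ W) (hc : Nat.card W ≤ 2 * Nat.card V)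
    (hW : ∀ w ∈ W, x * w * x⁻¹ ∈ W) (hV : ∀ v ∈ V, x * v * x⁻¹ = v) (h2 : ∀ v ∈ V, v ^ 8 = 1) :
    ∀ w ∈ W, x * w * x⁻¹ = w := by
  intro w hw
  by_cases hwV : w ∈ V
  · exact hV w hwV
  have h1 : x * w * x⁻¹ ∉ V := fun k => hwV (by
    have := hV _ k
    have e : x * w * x⁻¹ = w := by
      have := congrArg (fun y => x⁻¹ * y * x) this
      simpa [mul_assoc] using this
    exact e ▸ k)
  have h3 : x * w * x⁻¹ * w⁻¹ ∈ V := idx_two h hc (hW w hw) (W.inv_mem hw) h1 fun k => hwV (by simpa using k)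
  obtain ⟨v, hv⟩ : ∃ v, v = x * w * x⁻¹ * w⁻¹ := ⟨_, rfl⟩
  rw [← hv] at h3
  have e : x * w * x⁻¹ = v * w := by rw [hv]; group
  have key : ∀ n : ℕ, x ^ n * w * (x ^ n)⁻¹ = v ^ n * w := by
    intro n
    induction n with
    | zero => simp
    | succ n ih =>
      calc x ^ (n + 1) * w * (x ^ (n + 1))⁻¹ = x * (x ^ n * w * (x ^ n)⁻¹) * x⁻¹ := by rw [pow_succ']; group
        _ = (x * v ^ n * x⁻¹) * (x * w * x⁻¹) := by rw [ih]; group
        _ = v ^ (n + 1) * w := by rw [hV _ (V.pow_mem h3 n), e, pow_succ, mul_assoc]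
  have k := key (orderOf x)
  rw [pow_orderOf_eq_one] at k
  have k1 : v ^ orderOf x = 1 := by simpa using k.symm
  have k2 : v = 1 := by
    have := (pow_gcd_eq_one (a := v)).2 ⟨k1, h2 v h3⟩
    rwa [show Nat.gcd (orderOf x) 8 = 1 from
      (Nat.Coprime.pow_right 3 (Nat.coprime_two_right.2 hx) : Nat.Coprime (orderOf x) (2 ^ 3)), pow_one] at this
  rw [e, k2, one_mul]

theorem half {H Z : Subgroup G} {u : G} (hZ : Nat.card Z ≤ 2) (hc : H ≤ 𝒞(Z)) (h : ∀ a ∈ H, ⁅a, u⁆ ∈ Z) :
    Nat.card H ≤ 2 * Nat.card (H ⊓ centralizer {u} : Subgroup G) := by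
  let f : H →* G := MonoidHom.mk' (fun a => ⁅(a : G), u⁆) fun a b => by
    have := comm_of_mem (hc a.2) (h b b.2)
    calc ⁅((a * b : H) : G), u⁆ = a * ⁅(b : G), u⁆ * (a : G)⁻¹ * ⁅(a : G), u⁆ := by
          simp only [coe_mul, commutatorElement_def]; group
      _ = ⁅(b : G), u⁆ * ⁅(a : G), u⁆ := by rw [← this]; group
      _ = ⁅(a : G), u⁆ * ⁅(b : G), u⁆ := by
          have k1 := comm_of_mem (hc a.2) (h b b.2)
          have k2 : ⁅(a : G), u⁆ ∈ Z := h a a.2
          have k3 : ⁅(b : G), u⁆ ∈ Z := h b b.2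
          have : IsCyclic Z := by
            rcases (show Nat.card Z = 1 ∨ Nat.card Z = 2 by have : 0 < Nat.card Z := Nat.card_pos; omega) with e | e
            · haveI := (Nat.card_eq_one_iff_unique.1 e).1; infer_instance
            · exact isCyclic_of_prime_card (p := 2) e
          letI := IsCyclic.commGroup (α := Z)
          exact congrArg Subtype.val (mul_comm (⟨_, k3⟩ : Z) ⟨_, k2⟩)
  have m := f.ker.index_mul_card
  rw [index_ker] at m
  have r : Nat.card f.range ≤ 2 := (card_le_of_le (by rintro _ ⟨a, rfl⟩; exact h a a.2)).trans hZ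
  have k : Nat.card f.ker ≤ Nat.card (H ⊓ centralizer {u} : Subgroup G) := by
    rw [← card_map_of_injective (K := f.ker) H.subtype_injective]
    refine card_le_of_le ?_
    rintro _ ⟨a, ha, rfl⟩
    exact ⟨a.2, mem_centralizer_singleton_iff.2 (commutatorElement_eq_one_iff_mul_comm.1 ha)⟩
  rw [← m]
  exact Nat.mul_le_mul r k

/-- an abelian group of order eight with a nontrivial odd automorphism is elementary -/
theorem ab {U : Subgroup G} {x z : G} (hx : Odd (orderOf x)) (hN : ∀ w ∈ U, x * w * x⁻¹ ∈ U) (h8 : Nat.card U = 8)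
    (hab : ∀ a ∈ U, ∀ b ∈ U, a * b = b * a) (hz : z ∈ U) (z1 : z ≠ 1) (z2 : z * z = 1)
    (hne : ¬ ∀ a ∈ U, a * a = 1) : ∀ w ∈ U, x * w * x⁻¹ = w := by
  let f : U →* G := MonoidHom.mk' (fun a => (a : G) * a) fun a b => by
    simp only [coe_mul]
    calc (a : G) * b * (a * b) = a * (b * a) * b := by group
      _ = a * a * (b * b) := by rw [← hab a a.2 b b.2]; group
  set O := f.ker.map U.subtype with hO
  have mO : ∀ w, w ∈ O ↔ w ∈ U ∧ w * w = 1 := fun w =>
    ⟨by rintro ⟨a, ha, rfl⟩; exact ⟨a.2, ha⟩, fun k => ⟨⟨w, k.1⟩, k.2, rfl⟩⟩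
  have mR : ∀ w, w ∈ f.range ↔ ∃ a ∈ U, a * a = w := fun w =>
    ⟨by rintro ⟨a, rfl⟩; exact ⟨a, a.2, rfl⟩, by rintro ⟨a, ha, rfl⟩; exact ⟨⟨a, ha⟩, rfl⟩⟩
  have OU : O ≤ U := fun w k => ((mO w).1 k).1
  have RU : f.range ≤ U := fun w k => by obtain ⟨a, ha, rfl⟩ := (mR w).1 k; exact U.mul_mem ha ha
  have m := f.ker.index_mul_card
  rw [index_ker, ← card_map_of_injective (K := f.ker) U.subtype_injective, ← hO, h8] at m
  have p8 : ∀ v ∈ U, v ^ 8 = 1 := fun v hv => by
    have := pow_card_eq_one' (G := U) (x := ⟨v, hv⟩)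
    rw [h8] at this
    exact congrArg Subtype.val this
  have xO : ∀ w ∈ O, x * w * x⁻¹ ∈ O := fun w k => (mO _).2 ⟨hN w (OU k), by
    calc x * w * x⁻¹ * (x * w * x⁻¹) = x * (w * w) * x⁻¹ := by group
      _ = 1 := by rw [((mO w).1 k).2]; group⟩
  have xR : ∀ w ∈ f.range, x * w * x⁻¹ ∈ f.range := fun w k => by
    obtain ⟨a, ha, rfl⟩ := (mR w).1 k
    exact (mR _).2 ⟨x * a * x⁻¹, hN a ha, by group⟩
  have c1 : 2 * Nat.card O ≤ 8 := h8 ▸ two_mul_le OU fun k => hne fun a ha => ((mO a).1 (k ha)).2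
  have c2 : 2 ≤ Nat.card O := by
    have := two_mul_le (bot_le (a := O)) fun k => z1 (mem_bot.1 (k ((mO z).2 ⟨hz, z2⟩)))
    simpa using this
  have c3 : (Nat.card O = 2 ∧ Nat.card f.range = 4) ∨ (Nat.card O = 4 ∧ Nat.card f.range = 2) := by
    have : Nat.card O ≤ 4 := by omega
    generalize Nat.card O = a at *
    generalize Nat.card f.range = b at *
    interval_cases a <;> omega
  have c4 : 2 ≤ Nat.card (O ⊓ f.range : Subgroup G) := by
    obtain ⟨y, hy⟩ := exists_prime_orderOf_dvd_card' (G := f.range) 2 (by omega)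
    have y2 : (y : G) * y = 1 := by
      have := pow_orderOf_eq_one y
      rw [hy, pow_two] at this
      exact congrArg Subtype.val this
    have y1 : (y : G) ≠ 1 := fun k => by
      rw [show y = 1 from Subtype.ext k, orderOf_one] at hy; omega
    have := two_mul_le (bot_le (a := O ⊓ f.range)) fun k => y1 (mem_bot.1 (k ⟨(mO y).2 ⟨RU y.2, y2⟩, y.2⟩))
    simpa using this
  have c5 := card_le_of_le (inf_le_left (a := O) (b := f.range))
  have c6 := card_le_of_le (inf_le_right (a := O) (b := f.range))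
  have s1 : ∀ w ∈ O ⊓ f.range, x * w * x⁻¹ = w :=
    step hx bot_le (by rw [card_bot]; omega) (fun w k => ⟨xO w k.1, xR w k.2⟩)
      (fun v k => by rw [mem_bot.1 k]; group) fun v k => by rw [mem_bot.1 k, one_pow]
  rcases c3 with c | c
  · exact step hx RU (by omega) hN (step hx inf_le_right (by omega) xR s1 fun v k => p8 v (RU k.2))
      fun v k => p8 v (RU k)
  · exact step hx OU (by omega) hN (step hx inf_le_left (by omega) xO s1 fun v k => p8 v (OU k.1))
      fun v k => p8 v (OU k)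

end SMLx

open SMLx in
theorem sml : SML.{u} := by
  intro G _ _ S A U h hUS hself ⟨x, hxN, hx, hxC⟩ hU8
  set Z : Subgroup G := ⁅S, S⁆ ⊓ 𝒞(S) with hZ
  have DS : ⁅S, S⁆ ≤ S := h.DA.trans h.le
  have ZU : Z ≤ U := fun w k => hself ⟨DS k.1, cent_mono hUS k.2⟩
  have SZ : S ≤ 𝒞(Z) := le_centralizer_iff.1 inf_le_right
  have AZ : ∀ a ∈ A, ∀ s ∈ S, ⁅a, s⁆ ∈ Z := fun a ha s hs =>
    ⟨commutator_mem_commutator (h.le ha) hs, (h.memA a (h.le ha)).1 ha s hs⟩
  have Z2 : Nat.card Z ≤ 2 := by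
    have := two_mul_le (inf_le_left (a := ⁅S, S⁆) (b := 𝒞(S))) fun k => h.nc (k.trans inf_le_right)
    rw [h.cardD, ← hZ] at this; omega
  have Z1 : Z ≠ ⊥ := fun k => h.nc fun d hd => mem_centralizer_iff.2 fun s hs => by
    have := AZ d (h.DA hd) s hs
    rw [k, mem_bot] at this
    exact (commutatorElement_eq_one_iff_mul_comm.1 this).symm
  have Z3 : Nat.card Z = 2 := by have := (one_lt_card_iff_ne_bot Z).2 Z1; omega
  obtain ⟨z, hz, z1⟩ := (Subgroup.bot_or_exists_ne_one Z).resolve_left Z1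
  have mZ : ∀ w ∈ Z, w = 1 ∨ w = z := fun w hw => by
    by_contra! k
    have := idx_two (bot_le (a := Z)) (by rw [card_bot]; omega) hw (Z.inv_mem hz) (by simpa using k.1) (by simpa using z1)
    exact k.2 (mul_inv_eq_one.1 (mem_bot.1 this))
  have z2 : z * z = 1 := by
    rcases mZ _ (Z.mul_mem hz hz) with k | k
    · exact k
    · exact absurd (by simpa using k) z1
  have cz : ∀ s ∈ S, s * z = z * s := fun s hs => comm_of_mem hz.2 hs
  have hdv : Nat.card U ∣ 32 := h.card ▸ card_dvd_of_le hUS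
  have h8 : Nat.card U = 8 := by
    by_contra hne
    have h4 : Nat.card U ≤ 4 := by
      generalize Nat.card U = a at *
      interval_cases a <;> omega
    obtain ⟨u, hu, hcu⟩ : ∃ u ∈ U, ∀ g ∈ S, g * u = u * g → g ∈ U := by
      by_cases k : U ≤ Z
      · exact ⟨1, U.one_mem, fun g hg _ => hself ⟨hg, cent_mono k (SZ hg)⟩⟩
      obtain ⟨u, hu, huZ⟩ := SetLike.not_le_iff_exists.1 k
      refine ⟨u, hu, fun g hg e => hself ⟨hg, mem_centralizer_iff.2 fun w hw => ?_⟩⟩
      by_cases k : w ∈ Z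
      · exact comm_of_mem (SZ hg) k
      have k1 := idx_two ZU (by omega) hw (U.inv_mem hu) k fun k => huZ (by simpa using k)
      have k2 := comm_of_mem (SZ hg) k1
      calc w * g = w * u⁻¹ * (u * g) := by group
        _ = w * u⁻¹ * g * u := by rw [← e]; group
        _ = g * w := by rw [k2]; group
    have a1 := half (H := A) (u := u) Z2 (h.le.trans SZ) fun a ha => AZ a ha u (hUS hu)
    have a2 : A ⊓ centralizer {u} ≤ U := fun g k => hcu g (h.le k.1) (mem_centralizer_singleton_iff.1 k.2)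
    have a3 : A ⊓ centralizer {u} = U := eq_of_le_of_card_ge a2 (by rw [h.cardA] at a1; omega)
    have uA : u ∈ A := (a3.ge hu).1
    have b1 := half (H := S) (u := u) Z2 SZ fun s hs => by
      rw [← commutatorElement_inv]; exact Z.inv_mem (AZ u uA s hs)
    have b2 : S ⊓ centralizer {u} ≤ U := fun g k => hcu g k.1 (mem_centralizer_singleton_iff.1 k.2)
    have := card_le_of_le b2
    rw [h.card] at b1; omega
  have hab : ∀ a ∈ U, ∀ b ∈ U, a * b = b * a := by
    by_contra! k
    obtain ⟨u, hu, v, hv, huv⟩ := k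
    have nZ : ∀ a ∈ U, ∀ b ∈ U, a * b ≠ b * a → a ∉ Z := fun a _ b hb e k => e (comm_of_mem (SZ (hUS hb)) k)
    have four : ∀ a ∈ U, ∀ b ∈ U, a * b ≠ b * a → ∀ K : Subgroup G, Z ≤ K → a ∈ K →
        4 ≤ Nat.card (K ⊓ centralizer {a} : Subgroup G) := fun a ha b hb e K hK haK => by
      have := two_mul_le (H := Z) (K := K ⊓ centralizer {a})
        (fun w k => ⟨hK k, mem_centralizer_singleton_iff.2 (comm_of_mem (SZ (hUS ha)) k)⟩)
        fun k => nZ a ha b hb e (k ⟨haK, mem_centralizer_singleton_iff.2 rfl⟩)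
      omega
    have gen : ∀ g ∈ S, g * u = u * g → g * v = v * g → g ∈ U := fun g hg e1 e2 => by
      have k1 := four u hu v hv huv (U ⊓ centralizer {g})
        (fun w k => ⟨ZU k, mem_centralizer_singleton_iff.2 (comm_of_mem (SZ hg) k)⟩)
        ⟨hu, mem_centralizer_singleton_iff.2 e1.symm⟩
      have k2 := two_mul_le (inf_le_left (a := U ⊓ centralizer {g}) (b := centralizer {u})) fun k =>
        huv (mem_centralizer_singleton_iff.1 (k ⟨hv, mem_centralizer_singleton_iff.2 e2.symm⟩).2).symm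
      have k3 : U ⊓ centralizer {g} = U := eq_of_le_of_card_ge inf_le_left (by omega)
      exact hself ⟨hg, mem_centralizer_iff.2 fun w hw => mem_centralizer_singleton_iff.1 (k3.ge hw).2⟩
    have cm : ∀ a ∈ U, ∀ b ∈ U, a * b ≠ b * a → b * a * b⁻¹ = z * a := fun a ha b hb e => by
      have k1 := four a ha b hb e U ZU ha
      have nb : b ∉ U ⊓ centralizer {a} := fun k => e (mem_centralizer_singleton_iff.1 k.2).symm
      have k2 := two_mul_le (inf_le_left (a := U) (b := centralizer {a})) fun k => nb (k hb)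
      have aY : a ∈ U ⊓ centralizer {a} := ⟨ha, mem_centralizer_singleton_iff.2 rfl⟩
      have k3 := idx_two (inf_le_left (a := U) (b := centralizer {a})) (by omega) hb (U.mul_mem ha (U.inv_mem hb)) nb
        fun k => nb (by simpa using Subgroup.mul_mem _ (Subgroup.inv_mem _ k) aY)
      have k4 := idx_two (H := Z) (K := U ⊓ centralizer {a})
        (fun w k => ⟨ZU k, mem_centralizer_singleton_iff.2 (comm_of_mem (SZ (hUS ha)) k)⟩) (by omega) k3
        (Subgroup.inv_mem _ aY) (fun k => nZ a ha b hb e (by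
          have k5 := comm_of_mem (SZ (hUS hb)) k
          have k6 : b * (a * b⁻¹) = a := by
            calc b * (a * b⁻¹) = b⁻¹ * (b * (b * (a * b⁻¹))) := by group
              _ = a := by
                have : a * b = b * a := by
                  have k7 : b * a = b * (b * (a * b⁻¹)) := by rw [← k5]; group
                  have k8 : a = b * (a * b⁻¹) := mul_left_cancel k7
                  calc a * b = b * (a * b⁻¹) * b := by rw [← k8]
                    _ = b * a := by group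
                exact absurd this e
          exact k6 ▸ k)) fun k => nZ a ha b hb e (by simpa using k)
      rcases mZ _ k4 with k | k
      · exact absurd (by
          calc a * b = (b * (a * b⁻¹) * a⁻¹) * (a * b) := by rw [k, one_mul]
            _ = b * a := by group) e
      · rw [← k]; group
    have c1 := cm u hu v hv huv
    have c2 := cm v hv u hu (Ne.symm huv)
    have cA : ∀ a ∈ A, ∀ s ∈ S, a * s * a⁻¹ = s ∨ a * s * a⁻¹ = z * s := fun a ha s hs =>
      (mZ _ (AZ a ha s hs)).imp (fun k => by rw [commutatorElement_def] at k; exact mul_inv_eq_one.1 k)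
        fun k => by rw [← k, commutatorElement_def]; group
    have AU : A ≤ U := fun a ha => by
      obtain ⟨w, hw, e1, e2⟩ : ∃ w ∈ U, w * u * w⁻¹ = a * u * a⁻¹ ∧ w * v * w⁻¹ = a * v * a⁻¹ := by
        rcases cA a ha u (hUS hu) with e1 | e1 <;> rcases cA a ha v (hUS hv) with e2 | e2 <;> rw [e1, e2]
        · exact ⟨1, U.one_mem, by group, by group⟩
        · exact ⟨u, hu, by group, c2⟩
        · exact ⟨v, hv, c1, by group⟩
        · refine ⟨u * v, U.mul_mem hu hv, ?_, ?_⟩
          · calc u * v * u * (u * v)⁻¹ = u * (v * u * v⁻¹) * u⁻¹ := by group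
              _ = u * z := by rw [c1]; group
              _ = z * u := cz u (hUS hu)
          · rw [← c2]; group
      have := gen (w⁻¹ * a) (S.mul_mem (S.inv_mem (hUS hw)) (h.le ha))
        (by calc w⁻¹ * a * u = w⁻¹ * (a * u * a⁻¹) * a := by group
              _ = u * (w⁻¹ * a) := by rw [← e1]; group)
        (by calc w⁻¹ * a * v = w⁻¹ * (a * v * a⁻¹) * a := by group
              _ = v * (w⁻¹ * a) := by rw [← e2]; group)
      simpa using U.mul_mem hw this
    have e : A = U := eq_of_le_of_card_ge AU (by rw [h.cardA, h8])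
    have cD : ∀ a ∈ U, ∀ d ∈ ⁅S, S⁆, d * a = a * d := fun a ha d hd => comm_of_mem (h.AD (e.ge ha)) hd
    have := idx_two (h.DA.trans AU) (by rw [h.cardD, h8]) hu hv (fun k => huv (cD v hv u k))
      fun k => huv (cD u hu v k).symm
    have k := cD u hu _ this
    rw [mul_assoc] at k
    exact huv (mul_left_cancel k).symm
  refine ⟨⟨⟨⟨fun a b => Subtype.ext (hab a a.2 b b.2)⟩⟩, fun a ha => ?_⟩, h8⟩
  by_contra k
  refine hxC (mem_centralizer_iff.2 fun w hw => ?_)
  have := ab hx (fun w hw => conj_mem hxN hw) h8 hab (ZU hz) z1 z2 (fun k' => k (by rw [pow_two]; exact k' a ha)) w hw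
  exact (mul_inv_eq_iff_eq_mul.1 this).symm

end CL.DG9
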