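/-
Project DG9 (S3645): the structure of a Sylow 2-subgroup of order at most 32, class at least 3 and rank at least 3.
-/
import Cfsg.Agent.DG9.Defs
import Cfsg.Agent.Grp.PGroupMaxClass

set_option autoImplicit false
set_option linter.unusedSectionVars false

namespace CL.DG9

open Cfsg Subgroup CL.Grp CL.Loc CL.Even CL.Char
open scoped commutatorElement

universe u

namespace STRx

variable {P : Type u} [Group P]

theorem cmr {H K : Subgroup P} (h : H ≤ K) : Nat.card H * H.relIndex K = Nat.card K := by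
  rw [← Nat.card_congr (subgroupOfEquivOfLe h).toEquiv]; exact card_mul_index _

theorem cm (x y : P) : ⁅x, y⁆ ∈ commutator P := commutator_mem_commutator (mem_top x) (mem_top y)

theorem cj_cen {g x : P} : g * x * g⁻¹ ∈ center P ↔ x ∈ center P := (inferInstance : (center P).Normal).mem_comm_iff.trans
  (by rw [← mul_assoc, inv_mul_cancel, one_mul])

/-- the centraliser of `a` modulo the centre -/
def KK (a : P) : Subgroup P where
  carrier := {x | ⁅x, a⁆ ∈ center P}
  one_mem' := by simp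
  mul_mem' := fun {x y} hx hy => by
    change ⁅x * y, a⁆ ∈ center P
    rw [show ⁅x * y, a⁆ = x * ⁅y, a⁆ * x⁻¹ * ⁅x, a⁆ by simp only [commutatorElement_def]; group]
    exact mul_mem (cj_cen.2 hy) hx
  inv_mem' := fun {x} hx => by
    change ⁅x⁻¹, a⁆ ∈ center P
    rw [show ⁅x⁻¹, a⁆ = x⁻¹ * ⁅x, a⁆⁻¹ * x⁻¹⁻¹ by simp only [commutatorElement_def]; group]
    exact cj_cen.2 (inv_mem hx)

theorem mem_KK {a x : P} : x ∈ KK a ↔ ⁅x, a⁆ ∈ center P := Iff.rfl
theorem KK_symm {a x : P} (h : x ∈ KK a) : a ∈ KK x := by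
  rw [mem_KK, ← commutatorElement_inv]; exact inv_mem h
theorem KK_self (a : P) : a ∈ KK a := by simp [mem_KK]

variable [Finite P]

theorem idx {k : ℕ} (hP : Nat.card P = 2 ^ k) {E : Subgroup P} (h2 : ∀ x ∈ E, x ^ 2 = 1) (h8 : Nat.card E = 8) :
    4 < (commutator P).index := by
  by_contra! h
  have k3 : 3 ≤ k := (Nat.pow_dvd_pow_iff_le_right one_lt_two).1 (by
    rw [← hP, show 2 ^ 3 = Nat.card E from h8.symm]; exact card_subgroup_dvd_card E)
  obtain ⟨n, rfl⟩ : ∃ n, k = n + 1 := ⟨k - 1, by omega⟩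
  obtain ⟨a, b, d⟩ := exists_dqsGen_of_index_commutator_le (by omega) P hP h
  have := d.normal
  have h1 := cmr (inf_le_right : zpowers a ⊓ E ≤ E)
  have h3 := Nat.le_of_dvd two_pos (d.index ▸ relIndex_dvd_index_of_normal (zpowers a) E)
  have : IsCyclic (zpowers a ⊓ E : Subgroup P) := Subgroup.isCyclic_of_le inf_le_left
  have h4 : Nat.card (zpowers a ⊓ E : Subgroup P) ≤ 2 := Nat.le_of_dvd two_pos (by
    rw [← IsCyclic.exponent_eq_card]
    exact Monoid.exponent_dvd_of_forall_pow_eq_one fun x => Subtype.ext (h2 x x.2.2))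
  rw [inf_relIndex_right, h8] at h1
  have := Nat.mul_le_mul h4 h3
  omega

theorem core {k : ℕ} (hP : Nat.card P = 2 ^ k) (k5 : k ≤ 5) (hi : 4 < (commutator P).index)
    (nc : ¬ commutator P ≤ center P) : Nat.card P = 32 ∧ Nat.card (commutator P) = 4 ∧
    Nat.card (𝒞(commutator P)) = 16 ∧ ∃ A : Subgroup P, Nat.card A = 8 ∧ (∀ x, x ∈ A ↔ ∀ s, ⁅x, s⁆ ∈ center P) ∧
      commutator P ≤ A ∧ A ≤ 𝒞(commutator P) ∧ ∀ s, s * s ∈ A := by
  have pP : IsPGroup 2 P := IsPGroup.of_card hP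
  have := pP.isNilpotent
  obtain ⟨i, ei⟩ := (pP.to_subgroup (commutator P)).exists_card_eq
  obtain ⟨j, ej⟩ := pP.index (commutator P)
  have e1 := card_mul_index (commutator P)
  have j3 : 2 < j := (Nat.pow_lt_pow_iff_right one_lt_two).1 (by rw [← ej]; exact hi)
  have i0 : i ≠ 0 := by
    rintro rfl
    exact nc (by rw [card_eq_one.1 ei]; exact bot_le)
  have i1 : i ≠ 1 := by
    rintro rfl
    exact nc (le_center_of_normal_card_prime pP _ ei)
  rw [ei, ej, hP, ← pow_add] at e1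
  have e2 := Nat.pow_right_injective le_rfl e1
  obtain ⟨rfl, rfl, rfl⟩ : i = 2 ∧ j = 3 ∧ k = 5 := by omega
  have c4 : Nat.card (commutator P) = 4 := ei
  have c32 : Nat.card P = 32 := hP
  have w1 := cmr (inf_le_left : commutator P ⊓ center P ≤ commutator P)
  have w2 : Nat.card (commutator P ⊓ center P : Subgroup P) = 2 := by
    have n1 : Nat.card (commutator P ⊓ center P : Subgroup P) ≠ 1 := fun e =>
      inf_center_ne_bot (fun e => nc (by rw [e]; exact bot_le)) (card_eq_one.1 e)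
    have n4 : (commutator P ⊓ center P).relIndex (commutator P) ≠ 1 := fun e =>
      nc ((relIndex_eq_one.1 e).trans inf_le_right)
    have : ∀ a < 5, ∀ b < 5, (a : ℕ) * b = 4 → a ≠ 1 → b ≠ 1 → a = 2 := by
      intro a ha b hb
      interval_cases a <;> omega
    rw [c4] at w1
    exact this _ (Nat.lt_succ_of_le (Nat.le_of_dvd (by decide) (Dvd.intro _ w1))) _
      (Nat.lt_succ_of_le (Nat.le_of_dvd (by decide) (Dvd.intro_left _ w1))) w1 n1 n4
  have w3 : (center P).relIndex (commutator P) = 2 := by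
    rw [w2, c4, inf_relIndex_left] at w1; omega
  have two : ∀ {x y}, x ∈ commutator P → y ∈ commutator P → (x * y ∈ center P ↔ (x ∈ center P ↔ y ∈ center P)) :=
    fun hx hy => mul_mem_iff_of_index_two w3 (a := ⟨_, hx⟩) (b := ⟨_, hy⟩)
  have nD : (commutator P).Normal := inferInstance
  have DK : ∀ a, commutator P ≤ KK a := fun a w hw => by
    rw [mem_KK, show ⁅w, a⁆ = w * (a * w⁻¹ * a⁻¹) by simp only [commutatorElement_def]; group,
      two hw (nD.conj_mem _ (inv_mem hw) a), cj_cen, inv_mem_iff]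
  have bil : ∀ a x y : P, x * y ∈ KK a ↔ (x ∈ KK a ↔ y ∈ KK a) := fun a x y => by
    rw [mem_KK, show ⁅x * y, a⁆ = x * ⁅y, a⁆ * x⁻¹ * ⁅x, a⁆ by simp only [commutatorElement_def]; group,
      two (nD.conj_mem _ (cm y a) x) (cm x a), cj_cen, mem_KK, mem_KK]
    exact iff_comm
  obtain ⟨a, b, ab⟩ : ∃ a b : P, a ∉ KK b := by
    by_contra! h
    exact nc (commutator_le.2 fun a _ b _ => h a b)
  have ba : b ∉ KK a := fun h => ab (KK_symm h)
  have x1 : (KK a).index = 2 := index_eq_two_iff.2 ⟨b, fun x => by rw [bil]; unfold Xor; tauto⟩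
  have x2 : (KK b).relIndex (KK a) = 2 := index_eq_two_iff.2 ⟨⟨a, KK_self a⟩, fun x => by
    change Xor (x.1 * a ∈ KK b) (x.1 ∈ KK b)
    rw [bil]; unfold Xor; tauto⟩
  have x3 : (KK b ⊓ KK a).index = 4 := by
    rw [← relIndex_mul_index (inf_le_right : KK b ⊓ KK a ≤ KK a), inf_relIndex_right, x1, x2]
  have x4 := card_mul_index (KK b ⊓ KK a)
  have x5 := relIndex_mul_index (le_inf (DK b) (DK a))
  rw [x3, c32] at x4
  rw [x3, ej] at x5
  have x6 : (commutator P).relIndex (KK b ⊓ KK a) = 2 := by omega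
  have inK : ∀ x ∈ KK b ⊓ KK a, ∀ y ∈ KK b ⊓ KK a, y ∈ KK x := fun x hx y hy => by
    by_cases h1 : x ∈ commutator P
    · exact KK_symm (DK y h1)
    by_cases h2 : y ∈ commutator P
    · exact DK x h2
    · exact (mul_mem_cancel_left (KK_self x)).1 (DK x ((mul_mem_iff_of_index_two x6 (a := ⟨x, hx⟩) (b := ⟨y, hy⟩)).2
        (iff_of_false h1 h2)))
  have memA : ∀ x ∈ KK b ⊓ KK a, ∀ s : P, ⁅x, s⁆ ∈ center P := fun x hx s => by
    refine KK_symm (a := x) (x := s) ?_
    have ha := KK_symm hx.2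
    have hb := KK_symm hx.1
    have sa := KK_self a
    have sb := KK_self b
    by_cases h1 : s ∈ KK a <;> by_cases h2 : s ∈ KK b
    · exact inK x hx s ⟨h2, h1⟩
    · exact (mul_mem_cancel_right ha).1 (inK x hx (s * a) (mem_inf.2 (by rw [bil, bil]; tauto)))
    · exact (mul_mem_cancel_right hb).1 (inK x hx (s * b) (mem_inf.2 (by rw [bil, bil]; tauto)))
    · exact (mul_mem_cancel_right ha).1 ((mul_mem_cancel_right hb).1 (inK x hx (s * a * b)
        (mem_inf.2 (by rw [bil, bil, bil, bil]; tauto))))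
  have hom : ∀ x ∈ KK b ⊓ KK a, ∀ s t : P, ⁅x, s * t⁆ = ⁅x, s⁆ * ⁅x, t⁆ := fun x hx s t => by
    rw [show ⁅x, s * t⁆ = ⁅x, s⁆ * (s * ⁅x, t⁆ * s⁻¹) by simp only [commutatorElement_def]; group,
      mem_center_iff.1 (memA x hx t) s, mul_inv_cancel_right]
  refine ⟨c32, c4, ?_, KK b ⊓ KK a, by omega, fun x => ⟨memA x, fun h => ⟨h b, h a⟩⟩, le_inf (DK b) (DK a),
    fun x hx => mem_centralizer_iff.2 fun w hw => ?_, fun s => mem_inf.2 (by rw [bil, bil]; tauto)⟩
  · obtain ⟨d, d1, d2⟩ := SetLike.not_le_iff_exists.1 nc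
    have dA := le_inf (DK b) (DK a) d1
    have c1 : ∀ s : P, s ∈ 𝒞(commutator P) ↔ ⁅d, s⁆ = 1 := fun s => by
      rw [commutatorElement_eq_one_iff_mul_comm]
      refine ⟨fun h => h d d1, fun h w hw => ?_⟩
      by_cases hz : w ∈ center P
      · exact (mem_center_iff.1 hz s).symm
      · have := mem_center_iff.1 ((two hw d1).2 (iff_of_false hz d2)) s
        rwa [mul_assoc, h, ← mul_assoc, ← mul_assoc, mul_left_inj, eq_comm] at this
    obtain ⟨t, ht⟩ : ∃ t : P, ⁅d, t⁆ ≠ 1 := by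
      by_contra! h
      exact d2 (mem_center_iff.2 fun g => (commutatorElement_eq_one_iff_mul_comm.1 (h g)).symm)
    have b2 : (⊥ : Subgroup (commutator P ⊓ center P : Subgroup P)).index = 2 := by rw [index_bot, w2]
    have c2 : (𝒞(commutator P)).index = 2 := index_eq_two_iff.2 ⟨t, fun s => by
      have := mul_mem_iff_of_index_two b2 (a := ⟨⁅d, s⁆, cm d s, memA d dA s⟩) (b := ⟨⁅d, t⁆, cm d t, memA d dA t⟩)
      simp only [mem_bot, Subtype.ext_iff, coe_mul, coe_one] at this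
      rw [c1, c1, hom d dA, this]; unfold Xor; tauto⟩
    have := card_mul_index (𝒞(commutator P))
    rw [c2, c32] at this
    omega
  · let f : P →* center P := MonoidHom.mk' (fun s => ⟨⁅x, s⁆, memA x hx s⟩) fun s t => Subtype.ext (hom x hx s t)
    have k : f w = 1 := (commutator_le (H₃ := f.ker)).2 (fun a _ b _ => by
      rw [MonoidHom.mem_ker, map_commutatorElement, commutatorElement_eq_one_iff_mul_comm]
      exact Subtype.ext (mem_center_iff.1 (f b).2 _)) hw
    have k' : ⁅x, w⁆ = 1 := congrArg Subtype.val k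
    exact (commutatorElement_eq_one_iff_mul_comm.1 k').symm

end STRx

open STRx in
theorem str : STR.{u} := by
  intro G _ _ S hS h64
  by_cases nc : ⁅S, S⁆ ≤ 𝒞(S)
  · exact Or.inl nc
  by_cases rk : PRankLE 2 2 G
  · exact Or.inr (Or.inl rk)
  refine Or.inr (Or.inr ?_)
  obtain ⟨k, hk⟩ := hS.isPGroup.exists_card_eq
  have k5 : k ≤ 5 := by
    by_contra! h
    exact h64 ((pow_dvd_pow 2 h).trans (hk ▸ card_subgroup_dvd_card S))
  obtain ⟨E, ES, E1, E2⟩ : ∃ E ≤ S, IsElementaryAbelian 2 E ∧ Nat.card E = 8 := by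
    unfold PRankLE at rk
    push Not at rk
    obtain ⟨B, b1, b2, b3⟩ := rk
    have pB : IsPGroup 2 B := fun x => ⟨1, Subtype.ext (b2 x x.2)⟩
    obtain ⟨m, hm⟩ := pB.exists_card_eq
    obtain ⟨B', hB'⟩ := Sylow.exists_subgroup_card_pow_prime (G := B) 2 (n := 3)
      (hm ▸ pow_dvd_pow 2 ((Nat.pow_lt_pow_iff_right one_lt_two).1 (hm ▸ b3)))
    obtain ⟨g, -, hg⟩ := hS.exists_conj_le pB le_top
    have c : ∀ x ∈ B, ∀ y ∈ B, x * y = y * x := fun x hx y hy =>
      congrArg Subtype.val (b1.is_comm.comm (⟨x, hx⟩ : B) ⟨y, hy⟩)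
    refine ⟨cj g (B'.map B.subtype), (map_mono (map_subtype_le _)).trans hg, ⟨⟨⟨?_⟩⟩, ?_⟩, ?_⟩
    · rintro ⟨_, x, hx, rfl⟩ ⟨_, y, hy, rfl⟩
      refine Subtype.ext ?_
      rw [coe_mul, coe_mul, ← map_mul, ← map_mul, c x (map_subtype_le _ hx) y (map_subtype_le _ hy)]
    · rintro _ ⟨x, hx, rfl⟩
      rw [← map_pow, b2 x (map_subtype_le _ hx), map_one]
    · rw [card_cj, card_map_of_injective B.subtype_injective, hB']; rfl
  have cen : ∀ x : S, x ∈ center S ↔ (x : G) ∈ 𝒞(S) := fun x => by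
    rw [mem_center_iff, mem_centralizer_iff]
    exact ⟨fun h s hs => congrArg Subtype.val (h ⟨s, hs⟩), fun h s => Subtype.ext (h s s.2)⟩
  have com := S.map_subtype_commutator
  have cc : ∀ x : S, x ∈ 𝒞(commutator S) ↔ (x : G) ∈ 𝒞(⁅S, S⁆) := fun x => by
    rw [← com, mem_centralizer_iff, mem_centralizer_iff]
    exact ⟨by rintro h _ ⟨s, hs, rfl⟩; exact congrArg Subtype.val (h s hs), fun h s hs => Subtype.ext (h s ⟨s, hs, rfl⟩)⟩
  obtain ⟨c1, c2, c3, A, a1, a2, a3, a4, a5⟩ := core hk k5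
    (idx hk (E := E.subgroupOf S) (fun x hx => Subtype.ext (E1.2 x hx))
      ((Nat.card_congr (subgroupOfEquivOfLe ES).toEquiv).trans E2))
    fun h => nc (by rw [← com]; rintro _ ⟨x, hx, rfl⟩; exact (cen x).1 (h hx))
  refine ⟨A.map S.subtype, hS, c1, map_subtype_le _, (card_map_of_injective S.subtype_injective).trans a1,
    fun x hx => ?_, ?_, com ▸ map_mono a3, nc, ?_, ?_, fun s hs => ⟨_, a5 ⟨s, hs⟩, rfl⟩, E, ES, E1, E2⟩
  · refine (mem_map_iff_mem (x := (⟨x, hx⟩ : S)) S.subtype_injective).trans ((a2 _).trans ?_)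
    exact ⟨fun h s hs => (cen _).1 (h ⟨s, hs⟩), fun h s => (cen _).2 (h s s.2)⟩
  · rw [← com, card_map_of_injective S.subtype_injective, c2]
  · rintro _ ⟨x, hx, rfl⟩
    exact (cc x).1 (a4 hx)
  · have : S ⊓ 𝒞(⁅S, S⁆) = (𝒞(commutator S)).map S.subtype := Subgroup.ext fun x =>
      ⟨fun h => ⟨⟨x, h.1⟩, (cc _).2 h.2, rfl⟩, by rintro ⟨y, hy, rfl⟩; exact ⟨y.2, (cc y).1 hy⟩⟩
    rw [this, card_map_of_injective S.subtype_injective, c3]

end CL.DG9
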