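/-
Project DG9: two Sylow 7-subgroups do not meet in a subgroup of order 49.
-/
import Cfsg.Agent.DG9.Defs

set_option autoImplicit false

namespace CL.DG9

open Cfsg Subgroup CL.Grp CL.Loc CL.Even CL.Char
open scoped commutatorElement

universe u

namespace T49x

variable {G : Type u} [Group G] [Finite G] {P D : Subgroup G} {z : G}

local instance : Fact (Nat.Prime 7) := ⟨by norm_num⟩

theorem cen (hP : Nat.card P = 343) : ∃ z ∈ P, orderOf z = 7 ∧ ∀ g ∈ P, Commute g z := by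
  have p : IsPGroup 7 P := IsPGroup.of_card (n := 3) hP
  have : Nontrivial P := Finite.one_lt_card_iff_nontrivial.1 (by omega)
  have := p.center_nontrivial
  obtain ⟨z, hz⟩ := exists_prime_orderOf_dvd_card' 7
    ((p.to_subgroup (center P)).card_eq_or_dvd.resolve_left Finite.one_lt_card.ne')
  exact ⟨z.1.1, z.1.2, by rw [orderOf_coe, orderOf_coe, hz],
    fun g hg => congrArg Subtype.val (mem_center_iff.1 z.2 ⟨g, hg⟩)⟩

omit [Finite G] in
theorem cmt (hP : Nat.card P = 343) (zP : z ∈ P) (z7 : orderOf z = 7) (zc : ∀ g ∈ P, Commute g z) {g d : G}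
    (hg : g ∈ P) (hd : d ∈ P) : ⁅g, d⁆ ∈ zpowers z := by
  let L : Subgroup P := zpowers ⟨z, zP⟩
  have hL : L ≤ center P := zpowers_le.2 (mem_center_iff.2 fun g => Subtype.ext (zc g g.2))
  have : L.Normal := ⟨fun n hn g => by rwa [mem_center_iff.1 (hL hn) g, mul_inv_cancel_right]⟩
  have c := card_eq_card_quotient_mul_card_subgroup L
  rw [hP, Nat.card_zpowers, orderOf_mk, z7] at c
  have := IsPGroup.isMulCommutative_of_card_eq_prime_sq (G := P ⧸ L) (p := 7) (by omega)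
  have k : ⁅(⟨g, hg⟩ : P), (⟨d, hd⟩ : P)⁆ ∈ L := by
    rw [← QuotientGroup.eq_one_iff, ← QuotientGroup.mk'_apply, map_commutatorElement,
      commutatorElement_eq_one_iff_mul_comm]
    exact this.is_comm.comm _ _
  obtain ⟨n, hn⟩ := k
  exact ⟨n, congrArg Subtype.val hn⟩

theorem top (hD : Nat.card D = 49) (z7 : orderOf z = 7) {E : Subgroup G} (hE : E ≤ D) (zE : z ∈ E) {d : G} (dE : d ∈ E)
    (hd : d ∉ zpowers z) : D ≤ E := by
  have h1 : Nat.card E ∣ 7 ^ 2 := (card_dvd_of_le hE).trans (dvd_of_eq hD)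
  have h2 : ¬ Nat.card E ≤ 7 := fun h => hd
    (eq_of_le_of_card_ge (zpowers_le.2 zE) (by rwa [Nat.card_zpowers, z7]) ▸ dE)
  obtain ⟨k, hk, e⟩ := (Nat.dvd_prime_pow (by norm_num)).1 h1
  refine (eq_of_le_of_card_ge hE ?_).ge
  interval_cases k <;> omega

omit [Finite G] in
theorem pw {g d : G} (c : Commute g ⁅g, d⁆) (k : ℕ) : g ^ k * d * (g ^ k)⁻¹ = ⁅g, d⁆ ^ k * d := by
  induction k with
  | zero => simp
  | succ k ih =>
    calc _ = g * (g ^ k * d * (g ^ k)⁻¹) * g⁻¹ := by rw [pow_succ']; group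
      _ = g * ⁅g, d⁆ ^ k * g⁻¹ * (⁅g, d⁆ * d) := by rw [ih, commutatorElement_def g d]; group
      _ = _ := by rw [(c.pow_right k).eq, mul_inv_cancel_right, pow_succ, mul_assoc]

omit [Finite G] in
theorem cz {g w : G} (c : Commute g z) (hw : w ∈ zpowers z) : Commute g w := by
  obtain ⟨n, rfl⟩ := hw
  exact c.zpow_right n

theorem gen (z7 : orderOf z = 7) {c : G} (hc : c ∈ zpowers z) (c1 : c ≠ 1) : zpowers c = zpowers z := by
  have h := orderOf_dvd_of_mem_zpowers hc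
  rw [z7] at h
  refine eq_of_le_of_card_ge (zpowers_le.2 hc) ?_
  rw [Nat.card_zpowers, Nat.card_zpowers, z7,
    ((Nat.dvd_prime (by norm_num)).1 h).resolve_left fun e => c1 (orderOf_eq_one_iff.1 e)]

theorem cos (hP : Nat.card P = 343) (hD : Nat.card D = 49) (DP : D ≤ P) (hC : 𝒞(D) ≤ D) (zD : z ∈ D)
    (z7 : orderOf z = 7) (zc : ∀ g ∈ P, Commute g z) {d w : G} (hd : d ∈ D) (dn : d ∉ zpowers z) (hw : w ∈ zpowers z) :
    ∃ g, g * d * g⁻¹ = w * d := by
  obtain ⟨g, gP, gD⟩ := SetLike.not_le_iff_exists.1 fun h : P ≤ D => by have := card_le_of_le h; omega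
  have c := cmt hP (DP zD) z7 zc gP (DP hd)
  have c1 : ⁅g, d⁆ ≠ 1 := fun e => gD (hC fun x hx => mem_centralizer_singleton_iff.1
    (top hD z7 (E := D ⊓ centralizer {g}) inf_le_left ⟨zD, mem_centralizer_singleton_iff.2 (zc g gP).symm⟩
      ⟨hd, mem_centralizer_singleton_iff.2 (commutatorElement_eq_one_iff_mul_comm.1 e).symm⟩ dn hx).2)
  obtain ⟨k, rfl⟩ := mem_powers_iff_mem_zpowers.2 ((gen z7 c c1).ge hw)
  exact ⟨g ^ k, pw (cz (zc g gP) c) k⟩

/-- the stabiliser of the chain `D > ⟨z⟩ > 1` -/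
def stab (D : Subgroup G) (z : G) : Subgroup G where
  carrier := {g | Commute g z ∧ ∀ d ∈ D, ⁅g, d⁆ ∈ zpowers z}
  one_mem' := ⟨Commute.one_left z, fun d _ => by simp⟩
  mul_mem' := fun {a b} ha hb => ⟨ha.1.mul_left hb.1, fun d hd => by
    rw [show ⁅a * b, d⁆ = a * ⁅b, d⁆ * a⁻¹ * ⁅a, d⁆ by simp only [commutatorElement_def]; group,
      (cz ha.1 (hb.2 d hd)).eq, mul_inv_cancel_right]
    exact mul_mem (hb.2 d hd) (ha.2 d hd)⟩
  inv_mem' := fun {a} ha => ⟨ha.1.inv_left, fun d hd => by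
    rw [show ⁅a⁻¹, d⁆ = a⁻¹ * ⁅a, d⁆⁻¹ * a⁻¹⁻¹ by simp only [commutatorElement_def]; group,
      (cz ha.1.inv_left (inv_mem (ha.2 d hd))).eq, mul_inv_cancel_right]
    exact inv_mem (ha.2 d hd)⟩

omit [Finite G] in
theorem stab_p (hD : Nat.card D = 49) (hC : 𝒞(D) ≤ D) (z7 : orderOf z = 7) : IsPGroup 7 (stab D z) :=
  isPGroup_iff_forall.2 fun g hg => ⟨3, by
    have h : g ^ 7 ∈ D := hC fun d hd => by
      have k := pw (cz hg.1 (hg.2 d hd)) 7
      rw [show ⁅g, d⁆ ^ 7 = 1 from orderOf_dvd_iff_pow_eq_one.1 (z7 ▸ orderOf_dvd_of_mem_zpowers (hg.2 d hd)),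
        one_mul] at k
      exact (mul_inv_eq_iff_eq_mul.1 k).symm
    rw [show 7 ^ 3 = 7 * 49 from rfl, pow_mul, ← hD]
    exact orderOf_dvd_iff_pow_eq_one.1 (orderOf_dvd_natCard D h)⟩

variable {χ St : IrrCharacter G} (F : F7 χ St)
include F

theorem cp (hD : Nat.card D = 49) : IsPGroup 7 𝒞(D) := isPGroup_of_coprime fun x hx hc => by
  obtain ⟨z, z7⟩ := exists_prime_orderOf_dvd_card' (G := D) 7 (by rw [hD]; norm_num)
  rw [← orderOf_coe] at z7
  have c : Commute x z := (hx z z.2).symm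
  have o := c.orderOf_mul_eq_mul_orderOf_of_coprime (z7 ▸ hc)
  rw [z7] at o
  have h2 : ¬ 2 ∣ orderOf x := fun h => F.c7 _ (orderOf_pow_orderOf_div (orderOf_pos x).ne' h)
    (hD ▸ card_dvd_of_le fun d hd => mem_centralizer_singleton_iff.2 (pow_mem hx _ d hd))
  have h3 : ¬ 3 ∣ orderOf x := fun h => F.n21 (x * z) (o ▸ Nat.mul_dvd_mul_right h 7)
  have h43 : ¬ 43 ∣ orderOf x := fun h => by
    have := F.n43 (x * z) (o ▸ h.mul_right 7)
    omega
  have d := orderOf_dvd_natCard x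
  rw [F.card, show 5663616 = 2 ^ 7 * 3 * 7 ^ 3 * 43 by norm_num] at d
  refine orderOf_eq_one_iff.1 (Nat.Coprime.eq_one_of_dvd ?_ d)
  exact (((((Nat.Prime.coprime_iff_not_dvd (by norm_num)).2 h2).symm.pow_right 7).mul_right
    ((Nat.Prime.coprime_iff_not_dvd (by norm_num)).2 h3).symm).mul_right (hc.pow_right 3)).mul_right
    ((Nat.Prime.coprime_iff_not_dvd (by norm_num)).2 h43).symm

theorem cP (P : Sylow 7 G) : Nat.card (P : Subgroup G) = 343 := by
  rw [P.card_eq_multiplicity, F.card, show 5663616 = 7 ^ 3 * 16512 by norm_num,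
    Nat.factorization_mul_apply_of_coprime (by norm_num), Nat.factorization_pow_self (by norm_num),
    Nat.factorization_eq_zero_of_not_dvd (by norm_num)]
  rfl

theorem cle (hD : Nat.card D = 49) (P : Sylow 7 G) (DP : D ≤ P) : 𝒞(D) ≤ P := by
  have c := card_mul_index (D.subgroupOf P)
  rw [Nat.card_congr (subgroupOfEquivOfLe DP).toEquiv, hD, cP F] at c
  have n : (D.subgroupOf P).Normal := normal_of_index_eq_minFac_card (by
    rw [cP F, show Nat.minFac 343 = 7 by norm_num]; omega)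
  exact P.3 ((cp F hD).to_sup_of_normal_left' P.2
    (CL.Grp.le_normalizer_centralizer' ((normal_subgroupOf_iff_le_normalizer DP).1 n))) le_sup_right ▸ le_sup_left

theorem val (z7 : orderOf z = 7) {w : G} (hw : w ∈ zpowers z) (w1 : w ≠ 1) : (χ : G → ℂ) w = (χ : G → ℂ) z := by
  obtain ⟨k, rfl⟩ := mem_powers_iff_mem_zpowers.2 hw
  refine F.pw z k (z7 ▸ ((Nat.Prime.coprime_iff_not_dvd (by norm_num)).2 fun h => w1 ?_).symm)
  exact orderOf_dvd_iff_pow_eq_one.1 (z7 ▸ h)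

theorem fin (hD : Nat.card D = 49) (z1 : z ≠ 1) (h : ∀ d ∈ D, d ≠ 1 → (χ : G → ℂ) d = (χ : G → ℂ) z) : False := by
  classical
  have := Fintype.ofFinite D
  have := F.nas.1
  obtain ⟨b, hb⟩ := F.int z
  obtain ⟨n, hn⟩ := (χ.2.isCharacter.restrict D).exists_nat_classInner isCharacter_one
  have l := χ.2.isCharacter.norm_le z
  rw [hb, χ.2.isCharacter.charDegree_eq_iff.2 (F.dχ.trans (Nat.cast_ofNat (n := 42)).symm), Complex.norm_intCast] at l
  rw [classInner, hD, ← Finset.add_sum_erase _ _ (Finset.mem_univ 1), Finset.sum_congr rfl (g := fun _ => (b : ℂ))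
    fun d hd => by rw [h d d.2 fun e => Finset.ne_of_mem_erase hd (Subtype.ext e), hb, map_one, mul_one],
    Finset.sum_const, Finset.card_erase_of_mem (Finset.mem_univ 1), Finset.card_univ, ← Nat.card_eq_fintype_card, hD,
    OneMemClass.coe_one, F.dχ, map_one, nsmul_eq_mul] at hn
  have e : (42 + 48 * b : ℤ) = 49 * n := by
    have : (42 + 48 * b : ℂ) = 49 * n := by rw [← hn]; push_cast; ring
    exact_mod_cast this
  have l' : |b| ≤ 42 := by exact_mod_cast l
  have b42 : b = 42 := by have := abs_le.1 l'; omega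
  have k : z ∈ charKer (χ : G → ℂ) := χ.2.mem_charKer.2 (by rw [hb, b42, F.dχ]; norm_num)
  rw [χ.2.charKer_eq_bot_of_simple fun e => by have := F.dχ; rw [e] at this; norm_num at this] at k
  exact z1 k

end T49x

open T49x in
theorem t49 : T49.{u} := by
  intro G _ _ χ St P Q F hD
  have hC : 𝒞((P : Subgroup G) ⊓ Q) ≤ (P : Subgroup G) ⊓ Q := le_inf (cle F hD P inf_le_left) (cle F hD Q inf_le_right)
  obtain ⟨z, zP, z7, zc⟩ := cen (cP F P)
  obtain ⟨y, yQ, y7, yc⟩ := cen (cP F Q)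
  have zD : z ∈ (P : Subgroup G) ⊓ Q := hC fun d hd => zc d hd.1
  have yD : y ∈ (P : Subgroup G) ⊓ Q := hC fun d hd => yc d hd.2
  have z1 : z ≠ 1 := fun e => by rw [e, orderOf_one] at z7; omega
  have y1 : y ≠ 1 := fun e => by rw [e, orderOf_one] at y7; omega
  by_cases hy : y ∈ zpowers z
  · have e := gen z7 hy y1
    have a := P.3 (stab_p hD hC z7) fun g hg => ⟨zc g hg, fun d hd => cmt (cP F P) zP z7 zc hg hd.1⟩
    have b := Q.3 (stab_p hD hC z7) fun g hg => ⟨cz (yc g hg) (e.ge (mem_zpowers z)),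
      fun d hd => e ▸ cmt (cP F Q) yQ y7 yc hg hd.2⟩
    have := cP F P
    rw [← b, a, inf_idem] at hD
    omega
  have hz : z ∉ zpowers y := fun h => hy ((gen y7 h z1).ge (mem_zpowers y))
  have c1 : ∀ d ∈ (P : Subgroup G) ⊓ Q, d ∉ zpowers z → ∀ w ∈ zpowers z, (χ : G → ℂ) (w * d) = (χ : G → ℂ) d :=
    fun d hd dn w hw => by
      obtain ⟨g, hg⟩ := cos (cP F P) hD inf_le_left hC zD z7 zc hd dn hw
      rw [← hg]; exact χ.2.isClassFunction d g
  have c2 : (χ : G → ℂ) y = (χ : G → ℂ) z := by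
    obtain ⟨g, hg⟩ := cos (cP F Q) hD inf_le_right hC yD y7 yc zD hz (mem_zpowers y)
    rw [← c1 y yD hy z (mem_zpowers z), ← (zc y yD.1).eq, ← hg]
    exact χ.2.isClassFunction z g
  refine fin F hD z1 fun d hd d1 => ?_
  have m : d ∈ zpowers z ⊔ zpowers y := top hD z7 (sup_le (zpowers_le.2 zD) (zpowers_le.2 yD))
    (mem_sup_left (mem_zpowers z)) (mem_sup_right (mem_zpowers y)) hy hd
  have n : zpowers y ≤ normalizer (zpowers z : Set G) := fun v hv => centralizer_le_normalizer _ fun w hw =>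
    (cz (zc v (zpowers_le.2 yD.1 hv)) hw).symm
  rw [← SetLike.mem_coe, coe_mul_of_right_le_normalizer_left _ _ n] at m
  obtain ⟨w, hw, v, hv, rfl⟩ := m
  by_cases v1 : v = 1
  · subst v1
    exact val F z7 (by simpa using hw) d1
  · rw [show (χ : G → ℂ) ((fun a b => a * b) w v) = (χ : G → ℂ) v from c1 v (zpowers_le.2 yD hv)
      (fun h => hy (zpowers_le.2 h ((gen y7 hv v1).ge (mem_zpowers y)))) w hw, val F y7 hv v1, c2]

end CL.DG9
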