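/-
Project DG9 (S3645): the centralizer of an element of order 7 has no normal 2-subgroup.
-/
import Cfsg.Agent.DG9.Defs

set_option autoImplicit false

namespace CL.DG9

open Cfsg Subgroup CL.Grp CL.Loc CL.Even CL.Char
open scoped commutatorElement

universe u

namespace T7x

variable {G : Type u} [Group G]

/-- a character without fixed vectors on `Z` has sum zero on every coset of `Z` -/
theorem vanish {χ : G → ℂ} (hχ : IsCharacter G χ) (Z : Subgroup G) [Fintype Z] (h0 : ∑ z : Z, χ z = 0) (w : G) :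
    ∑ z : Z, χ (z * w) = 0 := by
  obtain ⟨n, ρ, rfl⟩ := hχ
  obtain ⟨s, hs⟩ : ∃ s : Module.End ℂ (Fin n → ℂ), s = ∑ z : Z, ρ z := ⟨_, rfl⟩
  have hN : (Fintype.card Z : ℂ) ≠ 0 := Nat.cast_ne_zero.2 Fintype.card_ne_zero
  have h1 : ∀ z : Z, ρ z * s = s := by
    intro z
    rw [hs, Finset.mul_sum]
    refine Fintype.sum_equiv (Equiv.mulLeft z) _ _ fun x => ?_
    rw [← map_mul]; rfl
  have h2 : s * s = (Fintype.card Z : ℂ) • s := by
    conv_lhs => rw [hs, Finset.sum_mul, ← hs]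
    rw [Finset.sum_congr rfl fun z _ => h1 z, Finset.sum_const, Finset.card_univ, Nat.cast_smul_eq_nsmul]
  have h3 : IsIdempotentElem ((Fintype.card Z : ℂ)⁻¹ • s) := by
    show _ * _ = _
    rw [smul_mul_smul_comm, h2, smul_smul, mul_assoc, inv_mul_cancel₀ hN, mul_one]
  have h4 : LinearMap.trace ℂ _ s = 0 := by
    rw [hs, map_sum]; exact h0
  have h5 := LinearMap.IsIdempotentElem.eq_zero_of_trace_eq_zero h3 (by rw [map_smul, h4, smul_zero])
  have h6 : s = 0 := (smul_eq_zero.1 h5).resolve_left (inv_ne_zero hN)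
  have h7 : LinearMap.trace ℂ _ (s * ρ w) = 0 := by rw [h6, zero_mul, map_zero]
  rw [hs, Finset.sum_mul, map_sum] at h7
  rw [← h7]
  refine Finset.sum_congr rfl fun z _ => ?_
  rw [← map_mul]; rfl

theorem sum_one {Z : Type*} [Group Z] [Fintype Z] (f : Z → ℂ) (b : ℂ) (h : ∀ z, z ≠ 1 → f z = b)
    (hc : Fintype.card Z = 8) : ∑ z, f z = f 1 + 7 * b := by
  classical
  rw [← Finset.add_sum_erase Finset.univ f (Finset.mem_univ 1),
    Finset.sum_congr rfl fun z hz => h z (Finset.ne_of_mem_erase hz), Finset.sum_const,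
    Finset.card_erase_of_mem (Finset.mem_univ 1), Finset.card_univ, hc]
  simp

theorem fixy {g y : G} {k : ℕ} (hg : g ^ 7 ^ k = 1) (hy : orderOf y = 7) (h : g * y * g⁻¹ ∈ zpowers y) :
    g * y * g⁻¹ = y := by
  haveI : Fact (Nat.Prime 7) := ⟨by norm_num⟩
  have hfin : IsOfFinOrder y := orderOf_pos_iff.1 (by rw [hy]; norm_num)
  obtain ⟨m, hm⟩ := (hfin.mem_powers_iff_mem_zpowers).2 h
  have hm' : y ^ m = g * y * g⁻¹ := hm
  have h1 : ∀ n : ℕ, g ^ n * y * (g ^ n)⁻¹ = y ^ m ^ n := by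
    intro n
    induction n with
    | zero => simp
    | succ n ih =>
      calc g ^ (n + 1) * y * (g ^ (n + 1))⁻¹ = g ^ n * (g * y * g⁻¹) * (g ^ n)⁻¹ := by rw [pow_succ]; group
        _ = (g ^ n * y * (g ^ n)⁻¹) ^ m := by rw [← hm', conj_pow]
        _ = y ^ m ^ (n + 1) := by rw [ih, ← pow_mul, pow_succ]
  have h2 := h1 (7 ^ k)
  rw [hg, one_mul, inv_one, mul_one] at h2
  have h3 : y ^ m ^ 7 ^ k = y ^ m := by
    rw [pow_eq_pow_iff_modEq, hy, ← ZMod.natCast_eq_natCast_iff]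
    push_cast
    exact ZMod.pow_card_pow _
  rw [← hm', ← h3, ← h2]

theorem grp [Finite G] {y : G} {Z : Subgroup G} (hc : 343 ∣ Nat.card G)
    (c7 : ∀ t : G, orderOf t = 2 → ¬ 49 ∣ Nat.card (centralizer ({t} : Set G))) (hy : orderOf y = 7)
    (h2 : ∀ z ∈ Z, z ^ 2 = 1) (h8 : Nat.card Z ≤ 8) (hZ : Z ≤ centralizer ({y} : Set G))
    (hN : centralizer ({y} : Set G) ≤ 𝒩(Z)) (hne : Z ≠ ⊥) :
    Nat.card Z = 8 ∧ ∃ g : G, g * y * g⁻¹ ∈ 𝒩(Z) ∧
      ∀ z ∈ Z, z * (g * y * g⁻¹) = (g * y * g⁻¹) * z → z = 1 := by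
  haveI : Fact (Nat.Prime 7) := ⟨by norm_num⟩
  haveI : Fact (Nat.Prime 2) := ⟨Nat.prime_two⟩
  have hY : IsPGroup 7 (zpowers y) := isPGroup_zpowers (k := 1) (by rw [pow_one, ← hy, pow_orderOf_eq_one])
  have cY : Nat.card (zpowers y) = 7 := by rw [Nat.card_zpowers, hy]
  obtain ⟨P, hP⟩ := hY.exists_le_sylow
  have cP : 343 ≤ Nat.card P :=
    Nat.le_of_dvd Nat.card_pos (P.pow_dvd_card_of_pow_dvd_card (n := 3) (by simpa using hc))
  have yP : y ∈ (P : Subgroup G) := hP (mem_zpowers y)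
  have cen : ∀ g ∈ (P : Subgroup G), g * y * g⁻¹ ∈ zpowers y → g ∈ centralizer ({y} : Set G) := by
    intro g hg h
    obtain ⟨k, hk⟩ := isPGroup_iff_forall.1 P.2 g hg
    rw [mem_centralizer_singleton_iff, ← mul_inv_eq_iff_eq_mul]
    exact fixy hk hy h
  obtain ⟨P₁, hP₁⟩ : ∃ P₁ : Subgroup G, P₁ = (P : Subgroup G) ⊓ centralizer ({y} : Set G) := ⟨_, rfl⟩
  have l1 : P₁ ≤ P := hP₁ ▸ inf_le_left
  have l2 : P₁ ≤ centralizer ({y} : Set G) := hP₁ ▸ inf_le_right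
  have p1 : IsPGroup 7 P₁ := P.2.to_le l1
  have y1 : y ∈ P₁ := by rw [hP₁]; exact ⟨yP, mem_centralizer_singleton_iff.2 rfl⟩
  have Y1 : zpowers y ≤ P₁ := zpowers_le.2 y1
  have lt1 : zpowers y < P₁ := by
    have h : zpowers y < (P : Subgroup G) := lt_of_le_of_ne hP fun h => by
      have : Nat.card (zpowers y) = Nat.card P := by rw [h]
      omega
    obtain ⟨r, ⟨hr1, hr2⟩, hr3⟩ := SetLike.exists_of_lt (lt_inf_normalizer_of_isPGroup P.2 h)
    refine lt_of_le_of_ne Y1 fun h' => hr3 ?_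
    rw [h', hP₁]
    exact ⟨hr1, cen r hr1 (conj_mem hr2 (mem_zpowers y))⟩
  have stab : ∀ z ∈ Z, z ≠ 1 → P₁ ⊓ centralizer ({z} : Set G) = zpowers y := by
    intro z hz hz1
    have o2 : orderOf z = 2 := orderOf_eq_prime (h2 z hz) hz1
    have hle : zpowers y ≤ P₁ ⊓ centralizer ({z} : Set G) :=
      zpowers_le.2 ⟨y1, mem_centralizer_singleton_iff.2 (mem_centralizer_singleton_iff.1 (hZ hz)).symm⟩
    obtain ⟨a, ha⟩ := (IsPGroup.iff_card (p := 7)).1
      (p1.to_le (inf_le_left : P₁ ⊓ centralizer ({z} : Set G) ≤ P₁))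
    have hd : Nat.card (P₁ ⊓ centralizer ({z} : Set G) : Subgroup G) ∣ Nat.card (centralizer ({z} : Set G)) :=
      card_dvd_of_le inf_le_right
    have ha1 : a ≤ 1 := by
      by_contra h
      exact c7 z o2 (Dvd.dvd.trans (by rw [ha]; exact pow_dvd_pow 7 (show 2 ≤ a by omega)) hd)
    refine (eq_of_le_of_card_ge hle ?_).symm
    rw [ha, cY]
    exact (Nat.pow_le_pow_right (by norm_num) ha1).trans (by norm_num)
  obtain ⟨z, hz1⟩ := (ne_bot_iff_exists_ne_one.1 hne)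
  have hz1' : (z : G) ≠ 1 := fun h => hz1 (Subtype.ext h)
  letI : MulAction P₁ G := MulAction.compHom G ((MulAut.conj (G := G)).comp P₁.subtype)
  have sm : ∀ (w : P₁) (x : G), w • x = w * x * (w : G)⁻¹ := fun _ _ => rfl
  have st : MulAction.stabilizer P₁ (z : G) = (zpowers y).subgroupOf P₁ := by
    ext w
    rw [MulAction.mem_stabilizer_iff, sm, mem_subgroupOf, ← stab z z.2 hz1', mul_inv_eq_iff_eq_mul, mem_inf,
      mem_centralizer_singleton_iff]
    exact ⟨fun h => ⟨w.2, h⟩, fun h => h.2⟩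
  have cst : Nat.card (MulAction.stabilizer P₁ (z : G)) = 7 := by
    rw [st, ← cY]; exact Nat.card_congr (subgroupOfEquivOfLe Y1).toEquiv
  have e1 := (MulAction.stabilizer P₁ (z : G)).card_mul_index
  rw [cst, MulAction.index_stabilizer] at e1
  have sub : MulAction.orbit P₁ (z : G) ⊆ (Z : Set G) \ {1} := by
    rintro _ ⟨w, rfl⟩
    refine ⟨conj_mem (hN (l2 w.2)) z.2, fun h => hz1' ?_⟩
    have h' : (w : G) * z * (w : G)⁻¹ = 1 := h
    simpa using h'
  have e2 := Set.ncard_le_ncard sub (Set.toFinite _)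
  rw [Set.ncard_sdiff_singleton_of_mem Z.one_mem] at e2
  have e3 : (Z : Set G).ncard = Nat.card Z := rfl
  obtain ⟨a, ha⟩ := (IsPGroup.iff_card (p := 7)).1 p1
  have c1 : 7 < Nat.card P₁ := cY ▸ card_lt_of_lt lt1
  have c2 : 49 ≤ Nat.card P₁ := by
    rw [ha] at c1 ⊢
    have : 1 < a := (Nat.pow_lt_pow_iff_right (a := 7) (by norm_num)).1 (by simpa using c1)
    exact le_trans (by norm_num) (Nat.pow_le_pow_right (by norm_num) this)
  refine ⟨by omega, ?_⟩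
  have lt2 : P₁ < (P : Subgroup G) := lt_of_le_of_ne l1 fun h => by
    have : Nat.card P₁ = Nat.card P := by rw [h]
    omega
  obtain ⟨g, ⟨hg1, hg2⟩, hg3⟩ := SetLike.exists_of_lt (lt_inf_normalizer_of_isPGroup P.2 lt2)
  have hy' : g * y * g⁻¹ ∈ P₁ := conj_mem hg2 y1
  refine ⟨g, hN (l2 hy'), fun x hx hxy => ?_⟩
  by_contra hx1
  apply hg3
  rw [hP₁]
  refine ⟨hg1, cen g hg1 ?_⟩
  rw [← stab x hx hx1]
  exact ⟨hy', mem_centralizer_singleton_iff.2 hxy.symm⟩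

end T7x

theorem t7 : T7.{u} := by
  intro G _ _ χ St y Z hF hy hE hZ hN
  by_contra hne
  haveI : Fact (Nat.Prime 2) := ⟨Nat.prime_two⟩
  obtain ⟨h8, g, hg, hfix⟩ := T7x.grp (by rw [hF.card]; norm_num) hF.c7 hy hE.2 (hF.rk Z hE.1 hE.2) hZ hN hne
  let _ : Fintype Z := Fintype.ofFinite Z
  have h8' : Fintype.card Z = 8 := by rw [← Nat.card_eq_fintype_card, h8]
  have o2 : ∀ z : Z, z ≠ 1 → orderOf (z : G) = 2 := fun z hz =>
    orderOf_eq_prime (hE.2 z z.2) fun h => hz (Subtype.ext h)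
  have hχ := χ.2.isCharacter
  have s0 : ∑ z : Z, (χ : G → ℂ) z = 0 := by
    rw [T7x.sum_one (fun z : Z => (χ : G → ℂ) z) (-6) (fun z hz => hF.χt _ (o2 z hz)) h8']
    simp only [OneMemClass.coe_one, hF.dχ]
    norm_num
  have s1 := T7x.vanish hχ Z s0 y
  rw [T7x.sum_one (fun z : Z => (χ : G → ℂ) (z * y)) 1 (fun z hz => hF.mix _ (by
    have hc : Commute (z : G) y := mem_centralizer_singleton_iff.1 (hZ z.2)
    rw [hc.orderOf_mul_eq_mul_orderOf_of_coprime (by rw [o2 z hz, hy]; norm_num), o2 z hz, hy])) h8'] at s1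
  simp only [OneMemClass.coe_one, one_mul] at s1
  obtain ⟨w, hw⟩ : ∃ w, w = g * y * g⁻¹ := ⟨_, rfl⟩
  have cw : (χ : G → ℂ) w = (χ : G → ℂ) y := by rw [hw]; exact hχ.isClassFunction y g
  rw [← hw] at hg hfix
  have s2 := T7x.vanish hχ Z s0 w
  let f : Z → Z := fun z => ⟨z * (w * (z : G)⁻¹ * w⁻¹), mul_mem z.2 (conj_mem hg (inv_mem z.2))⟩
  have hf : Function.Injective f := by
    intro a b hab
    have h1 : (a : G) * (w * (a : G)⁻¹ * w⁻¹) = b * (w * (b : G)⁻¹ * w⁻¹) := congrArg Subtype.val hab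
    have h2 := hfix ((b : G)⁻¹ * a) (mul_mem (inv_mem b.2) a.2) (by
      calc (b : G)⁻¹ * a * w = (b : G)⁻¹ * ((a : G) * (w * (a : G)⁻¹ * w⁻¹)) * w * a := by group
        _ = w * ((b : G)⁻¹ * a) := by rw [h1]; group)
    exact Subtype.ext (inv_mul_eq_one.1 h2).symm
  rw [← (Finite.injective_iff_bijective.1 hf).sum_comp fun z : Z => (χ : G → ℂ) (z * w)] at s2
  have s3 : ∀ z : Z, (χ : G → ℂ) (f z * w) = (χ : G → ℂ) y := by
    intro z
    rw [← cw, ← hχ.isClassFunction w z]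
    have e : (z : G) * (w * (z : G)⁻¹ * w⁻¹) * w = z * w * (z : G)⁻¹ := by group
    exact congrArg (χ : G → ℂ) e
  rw [Finset.sum_congr rfl fun z _ => s3 z, Finset.sum_const, Finset.card_univ, h8'] at s2
  simp only [nsmul_eq_mul, Nat.cast_ofNat, mul_eq_zero, OfNat.ofNat_ne_zero, false_or] at s2
  rw [s2] at s1
  norm_num at s1

end CL.DG9
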