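/-
Project DG9 (S3645): the Sylow 7-subgroups intersect trivially.
-/
import Cfsg.Agent.DG9.Defs
import Cfsg.Agent.Char.Burnside
import Cfsg.Agent.Even.CharP
import Cfsg.Agent.Grp.Fitting

set_option autoImplicit false

namespace CL.DG9

open Cfsg Subgroup CL.Grp CL.Loc CL.Even CL.Char
open scoped commutatorElement

universe u

namespace ti7x

instance : Fact (Nat.Prime 7) := ⟨by norm_num⟩

variable {G : Type u} [Group G] [Finite G] (hG : Nat.card G = 5663616)
include hG

theorem card_syl (P : Sylow 7 G) : Nat.card P = 7 ^ 3 := by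
  rw [P.card_eq_multiplicity, hG, show 5663616 = 7 ^ 3 * 16512 by norm_num,
    Nat.factorization_mul (by norm_num) (by norm_num), Nat.Prime.factorization_pow (by norm_num), Finsupp.add_apply,
    Nat.factorization_eq_zero_of_not_dvd (by norm_num)]
  simp

theorem cases (P : Sylow 7 G) {X : Subgroup G} (h : X ≤ P) :
    Nat.card X ∣ 7 ∨ Nat.card X = 49 ∨ X = P := by
  obtain ⟨i, hi, e⟩ := (Nat.dvd_prime_pow (by norm_num : Nat.Prime 7)).1 (card_syl hG P ▸ card_dvd_of_le h)
  interval_cases i
  · exact Or.inl (e ▸ one_dvd _)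
  · exact Or.inl (e ▸ dvd_rfl)
  · exact Or.inr (Or.inl e)
  · exact Or.inr (Or.inr (eq_of_le_of_card_ge h (by rw [e]; exact (card_syl hG P).le)))

theorem big (P : Sylow 7 G) {y : G} (hy : y ∈ P) : ¬ Nat.card ((P : Subgroup G) ⊓ centralizer {y} : Subgroup G) ∣ 7 := by
  intro h
  have h1 : omegaOneCenter 7 (P : Subgroup G) ≤ (P : Subgroup G) ⊓ centralizer {y} := fun x hx =>
    ⟨ozc_le _ hx, mem_centralizer_singleton_iff.2 (ozc_le_cent _ hx y hy).symm⟩
  have h2 : Nat.card (omegaOneCenter 7 (P : Subgroup G)) = 7 :=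
    ((Nat.dvd_prime (by norm_num)).1 ((card_dvd_of_le h1).trans h)).resolve_left fun e =>
      ozc_ne_bot P.isPGroup' (fun e => by
        have := card_syl hG P
        rw [show Nat.card P = Nat.card (P : Subgroup G) from rfl, e, card_bot] at this
        exact absurd this (by norm_num)) (card_eq_one.1 e)
  have h3 := eq_of_le_of_card_ge h1 ((Nat.le_of_dvd (by norm_num) h).trans h2.ge)
  have h4 : (P : Subgroup G) ≤ centralizer {y} := fun x hx => mem_centralizer_singleton_iff.2
    (ozc_le_cent _ (h3.ge ⟨hy, mem_centralizer_singleton_iff.2 rfl⟩) x hx)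
  rw [inf_eq_left.2 h4, show Nat.card (P : Subgroup G) = _ from card_syl hG P] at h
  exact absurd h (by norm_num)

end ti7x

open ti7x in
theorem ti7 (h1 : T49.{u}) (h2 : T7.{u}) : TI7.{u} := by
  intro G _ _ χ St P Q f hne
  have key : ∀ R R' : Sylow 7 G, R ≠ R' → Nat.card ((R : Subgroup G) ⊓ R' : Subgroup G) ∣ 7 := fun R R' h =>
    (cases f.card R inf_le_left).resolve_right fun k => k.elim (h1 G χ St R R' f) fun k =>
      h (Sylow.ext (R.is_maximal' R'.isPGroup' (inf_eq_left.1 k)).symm)
  by_contra hD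
  obtain ⟨y, hy, y1, y7⟩ := exists_mem_pow_eq_one (P.isPGroup'.to_le inf_le_left) hD
  have oy : orderOf y = 7 := orderOf_eq_prime y7 y1
  set C := centralizer ({y} : Set G)
  have pr : ∀ r : ℕ, r.Prime → r ∣ Nat.card C → r = 2 ∨ r = 7 := fun r hr h => by
    have := Fact.mk hr
    obtain ⟨x, hx⟩ := exists_prime_orderOf_dvd_card' r h
    rw [← Subgroup.orderOf_coe] at hx
    by_contra! hn
    have e := (show Commute (x : G) y from mem_centralizer_singleton_iff.1 x.2).orderOf_mul_eq_mul_orderOf_of_coprime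
      (by rw [hx, oy]; exact (Nat.coprime_primes hr (by norm_num)).2 hn.2)
    rw [hx, oy] at e
    have k := h.trans (card_subgroup_dvd_card C)
    rw [f.card, show 5663616 = 2 ^ 7 * 7 ^ 3 * (3 * 43) by norm_num, hr.dvd_mul, hr.dvd_mul, hr.dvd_mul] at k
    rcases k with (k | k) | k | k
    · exact hn.1 ((Nat.prime_dvd_prime_iff_eq hr (by norm_num)).1 (hr.dvd_of_dvd_pow k))
    · exact hn.2 ((Nat.prime_dvd_prime_iff_eq hr (by norm_num)).1 (hr.dvd_of_dvd_pow k))
    · rw [(Nat.prime_dvd_prime_iff_eq hr (by norm_num)).1 k] at e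
      exact f.n21 _ (Dvd.intro 1 e.symm)
    · rw [(Nat.prime_dvd_prime_iff_eq hr (by norm_num)).1 k] at e
      exact absurd (e ▸ f.n43 _ (e ▸ dvd_mul_right 43 7)) (by norm_num)
  have := isSolvable_of_two_primes (G := C) Nat.prime_two (by norm_num) pr
  have hC : IsCharP 7 C := isCharP_iff.2 (centralizer_pCore_le_of_isSolvable (pPrimeCore_eq_bot_iff.2 fun N hN hc => by
    have p2 : IsPGroup 2 N := IsPGroup.of_card (Nat.eq_prime_pow_of_unique_prime_dvd Nat.card_pos.ne' fun {d} hd h =>
      (pr d hd (h.trans (card_subgroup_dvd_card N))).resolve_right fun e =>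
        absurd (Nat.eq_one_of_dvd_coprimes hc (e ▸ h) dvd_rfl) (by norm_num))
    by_contra hb
    refine ozc_ne_bot (p2.map C.subtype) (fun e => hb ((map_eq_bot_iff_of_injective _ C.subtype_injective).1 e))
      (h2 G χ St y _ f oy (ozc_elem _) ((ozc_le _).trans (map_subtype_le N)) (le_norm_ozc ?_))
    rw [← normal_subgroupOf_iff_le_normalizer (map_subtype_le N), subgroupOf, comap_map_eq_self_of_injective C.subtype_injective]
    exact hN))
  have hF : ∀ R : Sylow 7 G, y ∈ R → pCoreOf 7 C ≤ R := fun R hR => by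
    obtain ⟨R', h⟩ := (isPGroup_sup' (core_isP (p := 7) C) (R.isPGroup'.to_le (inf_le_left (b := C)))
      (inf_le_right.trans (self_le_norm_core C))).exists_le_sylow
    by_cases e : R = R'
    · exact e ▸ le_sup_left.trans h
    · exact absurd ((card_dvd_of_le (le_inf inf_le_left (le_sup_right.trans h))).trans (key R R' e)) (big f.card R hR)
  have hz : zpowers y = (P : Subgroup G) ⊓ Q := eq_of_le_of_card_ge (zpowers_le.2 hy)
    (by rw [Nat.card_zpowers, oy]; exact Nat.le_of_dvd (by norm_num) (key P Q hne))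
  have hFD := le_inf (hF P hy.1) (hF Q hy.2)
  refine big f.card P hy.1 ((card_dvd_of_le (inf_le_right.trans ((hC.le_core le_rfl fun x hx z hz' => ?_).trans hFD))).trans
    (key P Q hne))
  obtain ⟨i, rfl⟩ := hz.ge (hFD hz')
  exact ((show Commute x y from mem_centralizer_singleton_iff.1 hx).zpow_right i).symm.eq

end CL.DG9
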