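/-
Project DG9 (S3645): the contribution of a subgroup of order 16 to the focal subgroup.
-/
import Cfsg.Agent.DG9.Defs

set_option autoImplicit false

namespace CL.DG9

open Cfsg Subgroup CL.Grp CL.Loc CL.Even CL.Char
open scoped commutatorElement

universe u

namespace u16x

variable {G : Type*} [Group G]

/-- adjoining an element whose square lies in `D` -/
theorem ext2 {D : Subgroup G} {g : G} (hn : ∀ d ∈ D, g * d * g⁻¹ ∈ D) (h2 : g * g ∈ D) :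
    ∃ T : Subgroup G, ∀ w, w ∈ T ↔ w ∈ D ∨ w * g ∈ D := by
  have hn' : ∀ d ∈ D, g⁻¹ * d * g ∈ D := fun d hd => by
    have := mul_mem (mul_mem (inv_mem h2) (hn d hd)) h2
    rwa [show (g * g)⁻¹ * (g * d * g⁻¹) * (g * g) = g⁻¹ * d * g by group] at this
  refine ⟨⟨⟨⟨{w | w ∈ D ∨ w * g ∈ D}, ?_⟩, Or.inl (one_mem _)⟩, ?_⟩, fun _ => Iff.rfl⟩
  · rintro a b (ha | ha) (hb | hb)
    · exact Or.inl (mul_mem ha hb)
    · exact Or.inr (by rw [mul_assoc]; exact mul_mem ha hb)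
    · exact Or.inr (by rw [show a * b * g = a * g * (g⁻¹ * b * g) by group]; exact mul_mem ha (hn' _ hb))
    · exact Or.inl (by
        rw [show a * b = a * g * (g⁻¹ * (b * g) * g) * (g * g)⁻¹ by group]
        exact mul_mem (mul_mem ha (hn' _ hb)) (inv_mem h2))
  · rintro a (ha | ha)
    · exact Or.inl (inv_mem ha)
    · exact Or.inr (by
        rw [show a⁻¹ * g = g * (a * g)⁻¹ * g⁻¹ * (g * g) by group]; exact mul_mem (hn _ (inv_mem ha)) h2)

theorem cl_le {D : Subgroup G} {g i j : G} (hn : ∀ d ∈ D, g * d * g⁻¹ ∈ D) (h2 : g * g ∈ D)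
    (hi : i ∈ D ∨ i * g ∈ D) (hj : j ∈ D ∨ j * g ∈ D) {w : G} (hw : w ∈ closure ({i, j} : Set G)) :
    w ∈ D ∨ w * g ∈ D := by
  obtain ⟨T, hT⟩ := ext2 hn h2
  refine (hT w).1 ((closure_le T).2 ?_ hw)
  rintro _ (rfl | rfl)
  exacts [(hT _).2 hi, (hT _).2 hj]

theorem le_norm [Finite G] {S U : Subgroup G} (h : U ≤ S) (c : Nat.card S = 32) (c' : Nat.card U = 16) :
    S ≤ 𝒩(U) := by
  have k := (U.subgroupOf S).index_mul_card
  rw [Nat.card_congr (subgroupOfEquivOfLe h).toEquiv, c, c'] at k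
  exact (normal_subgroupOf_iff_le_normalizer h).1 (normal_of_index_eq_two (by omega))

theorem sup_eq [Finite G] {A U : Subgroup G} {g : G} (h : A ≤ U) (hg : g ∈ U) (ng : g ∉ A) (c : Nat.card A = 8)
    (c' : Nat.card U = 16) : U = A ⊔ zpowers g := by
  have l : A ⊔ zpowers g ≤ U := sup_le h (zpowers_le_of_mem hg)
  obtain ⟨m, hm⟩ := card_dvd_of_le (le_sup_left : A ≤ A ⊔ zpowers g)
  refine (eq_of_le_of_card_ge l ?_).symm
  rw [c] at hm
  by_contra k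
  have p : 0 < Nat.card (A ⊔ zpowers g : Subgroup G) := Nat.card_pos
  exact ng (eq_of_le_of_card_ge (le_sup_left : A ≤ A ⊔ zpowers g) (by omega) ▸ mem_sup_right (mem_zpowers g))

variable {U Y : Subgroup G} {x i j : G} (q : QD U Y x i j)
include q

theorem cen {y u : G} (hy : y ∈ Y) (hu : u ∈ U) : Commute u y :=
  mem_centralizer_iff.1 (q.Y_eq ▸ hy : y ∈ U ⊓ 𝒞(U)).2 u hu

theorem jij : j * i * j = i := mul_left_cancel (a := i) (by rw [← q.kk]; group)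

theorem ji : j * i⁻¹ = i * j := by
  have h1 : i⁻¹ = i * (i * i) := inv_eq_of_mul_eq_one_right (by rw [← q.four]; group)
  have h2 : j * i = i * j⁻¹ := by rw [eq_mul_inv_iff_mul_eq, jij q]
  have h3 : j⁻¹ * (i * i) = j := by rw [← q.jj]; group
  rw [h1, ← mul_assoc, h2, mul_assoc, h3]

theorem nc : ¬ Commute i j := fun c => q.ne (by
  rw [← q.kk, ← q.four]
  calc i * j * (i * j) = i * (j * i) * j := by group
    _ = i * i * (j * j) := by rw [← c.eq]; group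
    _ = _ := by rw [q.jj])

theorem g1 : ⁅x, i⁆ = i * j := by rw [commutatorElement_def, q.xi, ji q]
theorem g2 : ⁅x, j⁆ = i⁻¹ := by
  rw [commutatorElement_def, q.xj, ← mul_inv_rev, ← mul_assoc, jij q]

theorem zc : ⁅j, i⁆ = i * i := by
  rw [commutatorElement_def, show j * i * j⁻¹ * i⁻¹ = j * i * j * (j * j)⁻¹ * i⁻¹ by group, jij q, q.jj,
    inv_eq_of_mul_eq_one_right q.four]
  group

/-- an element of the quaternion group outside the centre -/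
theorem three {D : Subgroup G} (hz : i * i ∈ D) {a : G} (ha : a ∈ closure ({i, j} : Set G)) (aD : a ∈ D)
    (aY : a ∉ Y) : i ∈ D ∨ j ∈ D ∨ i * j ∈ D := by
  obtain ⟨T, hT⟩ := ext2 (D := D ⊓ Y) (g := i) (fun d hd => by rwa [(cen q hd.2 q.mi).eq, mul_inv_cancel_right])
    ⟨hz, q.zY⟩
  have k := cl_le (D := T) (g := j) (i := i) (j := j) (fun d hd => (hT _).2 (((hT d).1 hd).imp
    (fun e => by rwa [(cen q e.2 q.mj).eq, mul_inv_cancel_right]) fun e => by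
      rw [show j * d * j⁻¹ * i = j * (d * i) * j⁻¹ * (j * i⁻¹ * j⁻¹ * i) by group, (cen q e.2 q.mj).eq,
        mul_inv_cancel_right, ji q, mul_inv_cancel_right]
      exact mul_mem e ⟨hz, q.zY⟩)) ((hT _).2 (.inl (q.jj ▸ ⟨hz, q.zY⟩))) (.inl ((hT _).2 (.inr ⟨hz, q.zY⟩)))
    (.inr ((hT _).2 (.inl (q.jj ▸ ⟨hz, q.zY⟩)))) ha
  rw [hT, hT] at k
  rcases k with (k | k) | k | k
  · exact (aY k.2).elim
  · exact .inl ((mul_mem_cancel_left aD).1 k.1)
  · exact .inr (.inl ((mul_mem_cancel_left aD).1 k.1))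
  · refine .inr (.inr ?_)
    rw [← ji q, show j * i⁻¹ = a⁻¹ * (a * j * i) * (i * i)⁻¹ by group]
    exact mul_mem (mul_mem (inv_mem aD) k.1) (inv_mem hz)

/-- an element that acts trivially on `i`, `j` modulo the centre does so on `U` -/
theorem triv {s : G} (hs : s ∈ 𝒩(U)) (hi : ⁅s, i⁆ ∈ Y) (hj : ⁅s, j⁆ ∈ Y) : ∀ u ∈ U, ⁅s, u⁆ ∈ Y := by
  have m : ∀ {u v}, u ∈ U → ⁅s, u⁆ ∈ Y → ⁅s, v⁆ ∈ Y → ⁅s, u * v⁆ ∈ Y := fun {u v} hu h1 h2 => by
    rw [show ⁅s, u * v⁆ = ⁅s, u⁆ * (u * ⁅s, v⁆ * u⁻¹) by simp only [commutatorElement_def]; group,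
      (cen q h2 hu).eq, mul_inv_cancel_right]
    exact mul_mem h1 h2
  have y : ∀ {u}, u ∈ Y → ⁅s, u⁆ ∈ Y := fun {u} hu => by
    refine mul_mem ?_ (inv_mem hu)
    rw [q.Y_eq] at hu ⊢
    refine ⟨(mem_normalizer_iff.1 hs u).1 hu.1, mem_centralizer_iff.2 fun v hv => ?_⟩
    have := mem_centralizer_iff.1 hu.2 _ ((mem_normalizer_iff''.1 hs v).1 hv)
    calc v * (s * u * s⁻¹) = s * (s⁻¹ * v * s * u) * s⁻¹ := by group
      _ = _ := by rw [this]; group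
  have l : ∀ {u}, u ∈ Y → u ∈ U := fun hu => (q.Y_eq ▸ hu : _ ∈ U ⊓ 𝒞(U)).1
  intro u hu
  rcases q.dec u hu with k | k | k | k
  · exact y k
  · simpa using m (l k) (y k) hi
  · simpa using m (l k) (y k) hj
  · have := m (l k) (y k) (m q.mi hi hj)
    rwa [inv_mul_cancel_right] at this

end u16x

open u16x in
theorem u16 (h1 : U16a.{u}) (h2 : U16n.{u}) (h3 : U16q.{u}) (h4 : U16m.{u}) (h5 : U16u.{u}) : U16.{u} := by
  intro G _ _ S A U c hU ac cU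
  obtain ⟨hA, cl⟩ := h1 G S A U c hU ac cU
  have na := h2 G S A U c hU ac cU
  obtain ⟨x, xN, xo, xC⟩ := ac
  obtain ⟨Y, i, j, q⟩ := h3 G U x cU cl na xN xo xC
  obtain ⟨ne, -, mv⟩ := h4 G S A U Y x i j c hU cU q
  have SN := le_norm hU c.card cU
  have al := h5 G S U Y x i j c.syl hU SN cU xN q mv
  have iQ : i ∈ closure ({i, j} : Set G) := subset_closure (by simp)
  have jQ : j ∈ closure ({i, j} : Set G) := subset_closure (by simp)
  have cjQ : ∀ s ∈ S, ∀ u ∈ U, s * ⁅x, u⁆ * s⁻¹ ∈ closure ({i, j} : Set G) := fun s hs u hu => by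
    rw [conjugate_commutatorElement]
    refine al _ (mul_mem (mul_mem (SN hs) xN) (inv_mem (SN hs))) ?_ _ ((mem_normalizer_iff.1 (SN hs) u).1 hu)
    rwa [← MulAut.conj_apply, MulEquiv.orderOf_eq]
  obtain ⟨s, hs, sU⟩ : ∃ s ∈ S, s ∉ U := by
    by_contra! k
    have := card_le_of_le (show S ≤ U from k)
    rw [c.card, cU] at this
    omega
  have si : s * i * s⁻¹ ∈ closure ({i, j} : Set G) := by
    have := inv_mem (cjQ s hs j q.mj)
    rwa [g2 q, show (s * i⁻¹ * s⁻¹)⁻¹ = s * i * s⁻¹ by group] at this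
  have sj : s * j * s⁻¹ ∈ closure ({i, j} : Set G) := by
    have := mul_mem (inv_mem si) (cjQ s hs i q.mi)
    rwa [g1 q, show (s * i * s⁻¹)⁻¹ * (s * (i * j) * s⁻¹) = s * j * s⁻¹ by group] at this
  have hz : i * i ∈ ⁅S, S⁆ := zc q ▸ commutator_mem_commutator (hU q.mj) (hU q.mi)
  have th : i ∈ ⁅S, S⁆ ∨ j ∈ ⁅S, S⁆ ∨ i * j ∈ ⁅S, S⁆ := by
    by_cases k : ⁅s, i⁆ ∈ Y
    · exact three q hz (mul_mem sj (inv_mem jQ)) (commutator_mem_commutator hs (hU q.mj))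
        fun k' => sU (mv s hs (triv q (SN hs) k k'))
    · exact three q hz (mul_mem si (inv_mem iQ)) (commutator_mem_commutator hs (hU q.mi)) k
  have nD : ∀ g ∈ S, ∀ d ∈ ⁅S, S⁆, g * d * g⁻¹ ∈ ⁅S, S⁆ := fun g hg d hd => by
    rw [show g * d * g⁻¹ = ⁅g, d⁆ * d by simp only [commutatorElement_def]; group]
    exact mul_mem (commutator_mem_commutator hg (c.le (c.DA hd))) hd
  have fin : ∀ g ∈ U, g ∉ 𝒞(⁅S, S⁆) → g * g ∈ ⁅S, S⁆ → (∃ u ∈ U, g = ⁅x, u⁆) → (i ∈ ⁅S, S⁆ ∨ i * g ∈ ⁅S, S⁆) →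
      (j ∈ ⁅S, S⁆ ∨ j * g ∈ ⁅S, S⁆) → ∃ g, PG S A U g := fun g hg o sq ex hi hj =>
    ⟨g, hg, o, sq, ⟨x, xN, xo, ex⟩, fun x' a b u hu => cl_le (nD g (hU hg)) sq hi hj (al x' a b u hu),
      .inl ⟨sup_eq hA hg (fun e => o (c.AD e)) c.cardA cU, ne⟩⟩
  have sq : i⁻¹ * i⁻¹ ∈ ⁅S, S⁆ := by rw [← mul_inv_rev]; exact inv_mem hz
  have o1 : i * i⁻¹ ∈ ⁅S, S⁆ := by rw [mul_inv_cancel]; exact one_mem _
  rcases th with k | k | k
  · refine fin (i * j) (mul_mem q.mi q.mj) (fun e => nc q ?_) (q.kk ▸ hz) ⟨i, q.mi, (g1 q).symm⟩ (.inl k)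
      (.inr (by rwa [← mul_assoc, jij q]))
    simpa using (Commute.refl i).inv_right.mul_right (show Commute i (i * j) from mem_centralizer_iff.1 e i k)
  · refine fin i⁻¹ (inv_mem q.mi) (fun e => nc q ?_) sq ⟨j, q.mj, (g2 q).symm⟩ (.inr o1) (.inl k)
    exact (Commute.inv_right_iff.1 (mem_centralizer_iff.1 e j k)).symm
  · refine fin i⁻¹ (inv_mem q.mi) (fun e => nc q ?_) sq ⟨j, q.mj, (g2 q).symm⟩ (.inr o1) (.inr (by rwa [ji q]))
    simpa using (Commute.refl i).inv_right.mul_right (Commute.inv_right_iff.1 (mem_centralizer_iff.1 e _ k)).symm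

end CL.DG9
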