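/-
Project DG9 (S3645): subgroups of order 16 with an automorphism of odd order contain the second centre.
-/
import Cfsg.Agent.DG9.Defs

set_option autoImplicit false

namespace CL.DG9

open Cfsg Subgroup CL.Grp CL.Loc CL.Even CL.Char
open scoped commutatorElement

universe u

namespace U16ax

variable {G : Type*} [Group G] [Finite G]

/-- index at most two -/
theorem idx {H K : Subgroup G} (hle : H ≤ K) (hc : Nat.card K ≤ 2 * Nat.card H) {a b : G} (ha : a ∈ K) (hb : b ∈ K)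
    (ha' : a ∉ H) (hb' : b ∉ H) : a * b⁻¹ ∈ H := by
  have h1 := (H.subgroupOf K).card_mul_index
  rw [Nat.card_congr (subgroupOfEquivOfLe hle).toEquiv] at h1
  have h2 : (H.subgroupOf K).index ≠ 1 := fun e => ha' (relIndex_eq_one.1 e ha)
  have h3 : (H.subgroupOf K).index ≠ 0 := index_ne_zero_of_finite
  have h4 : (H.subgroupOf K).index ≤ 2 := by
    rw [← h1, mul_comm 2] at hc
    exact Nat.le_of_mul_le_mul_left hc Nat.card_pos
  have hi : (H.subgroupOf K).index = 2 := by omega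
  exact mem_subgroupOf.1 ((mul_mem_iff_of_index_two hi (a := ⟨a, ha⟩) (b := ⟨b⁻¹, inv_mem hb⟩)).2
    (iff_of_false (fun h => ha' (mem_subgroupOf.1 h)) fun h => hb' (inv_mem_iff.1 (mem_subgroupOf.1 h))))

theorem half {H K : Subgroup G} (hle : H ≤ K) (hn : ¬ K ≤ H) : 2 * Nat.card H ≤ Nat.card K := by
  obtain ⟨c, hc⟩ := card_dvd_of_le hle
  have h0 : c ≠ 0 := fun e => by
    rw [e, mul_zero] at hc
    exact Nat.card_pos.ne' hc
  have h1 : c ≠ 1 := fun e => hn (eq_of_le_of_card_ge hle (by rw [hc, e, mul_one])).ge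
  rw [hc, mul_comm]
  exact Nat.mul_le_mul_left _ (by omega)

/-- one step of a chain -/
theorem step {H K : Subgroup G} (hle : H ≤ K) (hc : Nat.card K ≤ 2 * Nat.card H) (h2 : ∀ h ∈ H, h ^ 32 = 1) {x : G}
    (ho : Odd (orderOf x)) (hH : x ∈ 𝒞(H)) (hK : x ∈ 𝒩(K)) : x ∈ 𝒞(K) := by
  refine mem_centralizer_iff.2 fun k hk => ?_
  by_cases hk' : k ∈ H
  · exact comm_of_mem hH hk'
  have h1 : x * k * x⁻¹ ∉ H := fun h => hk' ((mem_normalizer_iff.1 (cent_le_norm H hH) k).2 h)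
  have h3 := idx hle hc (conj_mem hK hk) hk h1 hk'
  have h4 : ∀ n : ℕ, x ^ n * k * (x ^ n)⁻¹ = (x * k * x⁻¹ * k⁻¹) ^ n * k := by
    intro n
    induction n with
    | zero => simp
    | succ n ih =>
      calc x ^ (n + 1) * k * (x ^ (n + 1))⁻¹ = x * (x ^ n * k * (x ^ n)⁻¹) * x⁻¹ := by rw [pow_succ']; group
        _ = (x * (x * k * x⁻¹ * k⁻¹) ^ n * x⁻¹) * (x * k * x⁻¹ * k⁻¹) * k := by rw [ih]; group
        _ = (x * k * x⁻¹ * k⁻¹) ^ (n + 1) * k := by rw [conj_eq_of_mem hH (pow_mem h3 n), pow_succ]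
  have h5 := h4 (orderOf x)
  rw [pow_orderOf_eq_one, one_mul, inv_one, mul_one, eq_comm, mul_eq_right] at h5
  have h6 : x * k * x⁻¹ * k⁻¹ = 1 := by
    refine pow_eq_one_iff_of_coprime (m := orderOf x) (n := 32) ?_ |>.1 ⟨h5, h2 _ h3⟩
    exact (Nat.coprime_two_right.2 ho).pow_right 5
  calc k * x = (x * k * x⁻¹ * k⁻¹) * (k * x) := by rw [h6, one_mul]
    _ = x * k := by group

end U16ax

open U16ax in
theorem u16a : U16a.{u} := by
  intro G _ _ S A U h hU hA hc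
  obtain ⟨x, hxN, ho, hx⟩ := hA
  have hD : ⁅U, U⁆ ≤ ⁅S, S⁆ := commutator_mono hU hU
  have hUU : ⁅U, U⁆ ≤ U := commutator_le_of_le_norm le_normalizer
  have hSS : ⁅S, S⁆ ≤ S := h.DA.trans h.le
  have h32 : ∀ g ∈ S, g ^ 32 = 1 := fun g hg => by
    have h1 := pow_card_eq_one' (x := (⟨g, hg⟩ : S))
    rw [h.card] at h1
    exact congrArg Subtype.val h1
  have h1 : ⁅U, U⁆ ≤ 𝒞(U) := by
    by_contra hn
    have hE : ⁅U, U⁆ = ⁅S, S⁆ := by
      by_contra hne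
      have h2 := half hD fun e => hne (le_antisymm hD e)
      rw [h.cardD] at h2
      refine hn fun d hd => mem_centralizer_iff.2 fun u hu => ?_
      by_cases hd1 : d = 1
      · rw [hd1, mul_one, one_mul]
      have h3 : u * d * u⁻¹ ∈ ⁅U, U⁆ := conj_mem (le_norm_commutator le_normalizer le_normalizer hu) hd
      have h4 := idx (H := ⊥) bot_le (by rw [card_bot]; omega) h3 hd
        (fun e => hd1 (by simpa using mem_bot.1 e)) fun e => hd1 (mem_bot.1 e)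
      calc u * d = (u * d * u⁻¹ * d⁻¹) * (d * u) := by group
        _ = d * u := by rw [mem_bot.1 h4, one_mul]
    have hz : zpowers x ≤ 𝒩(U) := zpowers_le.2 hxN
    have hzD : zpowers x ≤ 𝒩(⁅S, S⁆) := hE ▸ le_norm_commutator hz hz
    rw [hE] at hn hUU
    have hn' : ¬ U ≤ U ⊓ 𝒞(⁅S, S⁆) := fun e => hn (le_centralizer_iff.1 (e.trans inf_le_right))
    have c1 := half (inf_le_left : ⁅S, S⁆ ⊓ 𝒞(U) ≤ ⁅S, S⁆) fun e => hn (e.trans inf_le_right)
    have c2 := half (inf_le_left : U ⊓ 𝒞(⁅S, S⁆) ≤ U) hn'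
    rw [h.cardD] at c1
    rw [hc] at c2
    have c3 : 2 * Nat.card (⊥ : Subgroup G) ≤ Nat.card (⁅S, S⁆ ⊓ 𝒞(U) : Subgroup G) := by
      refine half bot_le fun e => h.nc fun d hd => mem_centralizer_iff.2 fun s hs => ?_
      have h2 : ⁅d, s⁆ ∈ ⁅S, S⁆ ⊓ 𝒞(U) :=
        ⟨commutator_mem_commutator (hSS hd) hs, cent_mono hU ((h.memA d (hSS hd)).1 (h.DA hd) s hs)⟩
      exact (commutatorElement_eq_one_iff_mul_comm.1 (mem_bot.1 (e h2))).symm
    rw [card_bot] at c3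
    have c4 : Nat.card U ≤ 2 * Nat.card (U ⊓ 𝒞(⁅S, S⁆) : Subgroup G) := by
      obtain ⟨a, ha, ha'⟩ := SetLike.not_le_iff_exists.1 hn'
      have h2 : (U ⊓ 𝒞(⁅S, S⁆)).relIndex U = 2 := by
        refine index_eq_two_iff.2 ⟨⟨a⁻¹, inv_mem ha⟩, fun b => ?_⟩
        by_cases hb : (b : G) ∈ 𝒞(⁅S, S⁆)
        · refine Or.inr ⟨mem_subgroupOf.2 ⟨b.2, hb⟩, fun e => ha' ⟨ha, ?_⟩⟩
          exact (Subgroup.inv_mem_iff _).1 ((Subgroup.mul_mem_cancel_left _ hb).1 (mem_inf.1 (mem_subgroupOf.1 e)).2)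
        · refine Or.inl ⟨mem_subgroupOf.2 (mem_inf.2 ⟨U.mul_mem b.2 (U.inv_mem ha), ?_⟩), fun e => hb (mem_subgroupOf.1 e).2⟩
          exact (idx (H := S ⊓ 𝒞(⁅S, S⁆)) inf_le_left (by rw [h.card, h.cardM]) (hU b.2) (hU ha)
            (fun e => hb e.2) fun e => ha' ⟨ha, e.2⟩).2
      have h3 := ((U ⊓ 𝒞(⁅S, S⁆)).subgroupOf U).card_mul_index
      rw [Nat.card_congr (subgroupOfEquivOfLe inf_le_left).toEquiv] at h3
      rw [← h3, mul_comm 2]
      exact Nat.mul_le_mul_left _ h2.le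
    have s0 : x ∈ 𝒞((⊥ : Subgroup G)) := mem_centralizer_iff.2 fun g hg => by rw [mem_bot.1 hg, one_mul, mul_one]
    have s1 : x ∈ 𝒞(⁅S, S⁆ ⊓ 𝒞(U)) := step bot_le (by rw [card_bot]; omega)
      (fun g hg => by rw [mem_bot.1 hg, one_pow]) ho s0 (le_norm_inf hzD (le_norm_cent hz) (mem_zpowers x))
    have s2 : x ∈ 𝒞(⁅S, S⁆) := step inf_le_left (by rw [h.cardD]; omega) (fun g hg => h32 g (hSS hg.1)) ho s1
      (hzD (mem_zpowers x))
    have s3 : x ∈ 𝒞(U ⊓ 𝒞(⁅S, S⁆)) := step (le_inf hUU (h.DA.trans h.AD)) (by rw [h.cardD]; omega)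
      (fun g hg => h32 g (hSS hg)) ho s2 (le_norm_inf hz (le_norm_cent hzD) (mem_zpowers x))
    exact hx (step inf_le_left c4 (fun g hg => h32 g (hU hg.1)) ho s3 hxN)
  refine ⟨fun a ha => ?_, h1⟩
  by_contra ha'
  have hdec : ∀ s ∈ S, s ∈ U ∨ ∃ u ∈ U, s = u * a := fun s hs => by
    by_cases hs' : s ∈ U
    · exact Or.inl hs'
    · exact Or.inr ⟨_, idx hU (by rw [h.card, hc]) hs (h.le ha) hs' ha', by rw [inv_mul_cancel_right]⟩
  have h2 : ⁅U, U⁆ ≤ 𝒞(S) := fun d hd => mem_centralizer_iff.2 fun s hs => by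
    rcases hdec s hs with hs' | ⟨u, hu, rfl⟩
    · exact comm_of_mem (h1 hd) hs'
    · rw [mul_assoc, ← comm_of_mem (h.AD ha) (hD hd), ← mul_assoc, comm_of_mem (h1 hd) hu, mul_assoc]
  have h3 : U ≤ A := fun u hu => (h.memA u (hU hu)).2 fun s hs => by
    rcases hdec s hs with hs' | ⟨u', hu', rfl⟩
    · exact h2 (commutator_mem_commutator hu hs')
    · have h4 : ⁅a, u⁆ ∈ 𝒞(S) := (h.memA a (h.le ha)).1 ha u (hU hu)
      have h5 : ⁅u, u' * a⁆ = ⁅u, u'⁆ * (u' * ⁅a, u⁆⁻¹ * u'⁻¹) := by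
        simp only [commutatorElement_def]
        group
      rw [h5, comm_of_mem (inv_mem h4) (hU hu'), mul_inv_cancel_right]
      exact mul_mem (h2 (commutator_mem_commutator hu hu')) (inv_mem h4)
  have h4 := card_le_of_le h3
  rw [hc, h.cardA] at h4
  omega

end CL.DG9
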