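/-
Project DG9 (S3645): a subgroup of order sixteen with a quaternion subgroup moved by an odd element.
-/
import Cfsg.Agent.DG9.Defs

set_option autoImplicit false

namespace CL.DG9

open Cfsg Subgroup CL.Grp CL.Loc CL.Even CL.Char
open scoped commutatorElement

universe u

namespace U16mx

variable {G : Type*} [Group G]

theorem two [Finite G] {U S : Subgroup G} (h : U ≤ S) (hc : Nat.card S = 2 * Nat.card U) {a b : G} (ha : a ∈ S)
    (hb : b ∈ S) : a * b ∈ U ↔ (a ∈ U ↔ b ∈ U) := by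
  have e1 : Nat.card (U.subgroupOf S) = Nat.card U := Nat.card_congr (subgroupOfEquivOfLe h).toEquiv
  have e2 := (U.subgroupOf S).index_mul_card
  rw [e1, hc] at e2
  have e3 : (U.subgroupOf S).index = 2 := Nat.eq_of_mul_eq_mul_right Nat.card_pos e2
  exact mul_mem_iff_of_index_two e3 (a := ⟨a, ha⟩) (b := ⟨b, hb⟩)

theorem mid [Finite G] {H K L : Subgroup G} (h1 : H ≤ K) (h2 : K ≤ L) (hc : Nat.card L = 2 * Nat.card H)
    (hn : ¬ K ≤ H) : L ≤ K := by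
  obtain ⟨k, hk, hk'⟩ := SetLike.not_le_iff_exists.1 hn
  intro l hl
  by_cases hl' : l ∈ H
  · exact h1 hl'
  · have := (two (h1.trans h2) hc hl (h2 hk)).2 (iff_of_false hl' hk')
    simpa using K.mul_mem (h1 this) (K.inv_mem hk)

theorem cl {Z : Subgroup G} {a a' b : G} (ha : a ∈ 𝒩(Z)) (h1 : ⁅a, b⁆ ∈ Z) (h2 : ⁅a', b⁆ ∈ Z) : ⁅a * a', b⁆ ∈ Z := by
  have e : ⁅a * a', b⁆ = a * ⁅a', b⁆ * a⁻¹ * ⁅a, b⁆ := by simp only [commutatorElement_def]; group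
  rw [e]
  exact Z.mul_mem (CL.Even.conj_mem ha h2) h1

theorem sy {Z : Subgroup G} {a b : G} (h : ⁅a, b⁆ ∈ Z) : ⁅b, a⁆ ∈ Z := by
  rw [← commutatorElement_inv]
  exact Z.inv_mem h

variable {U Y : Subgroup G} {x i j : G}

theorem yU (q : QD U Y x i j) {y : G} (hy : y ∈ Y) : y ∈ U := (mem_inf.1 (q.Y_eq ▸ hy)).1

theorem yC (q : QD U Y x i j) {y : G} (hy : y ∈ Y) : y ∈ 𝒞(U) := (mem_inf.1 (q.Y_eq ▸ hy)).2

theorem gen (q : QD U Y x i j) (p : G → Prop) (hy : ∀ y ∈ Y, p y) (hi : p i) (hj : p j)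
    (hm : ∀ a ∈ U, ∀ b ∈ U, p a → p b → p (a * b)) : ∀ u ∈ U, p u := by
  intro u hu
  rcases q.dec u hu with h | h | h | h
  · exact hy u h
  · simpa using hm _ (yU q h) _ q.mi (hy _ h) hi
  · simpa using hm _ (yU q h) _ q.mj (hy _ h) hj
  · have := hm _ (yU q h) _ (U.mul_mem q.mi q.mj) (hy _ h) (hm _ q.mi _ q.mj hi hj)
    rwa [inv_mul_cancel_right] at this

theorem cij (q : QD U Y x i j) : ⁅i, j⁆ = i * i := by
  have h1 : i⁻¹ = i * (i * i) := by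
    rw [inv_eq_iff_mul_eq_one, ← mul_assoc, q.four]
  have h2 : j⁻¹ = j * (i * i) := by
    rw [inv_eq_iff_mul_eq_one, ← mul_assoc, q.jj, q.four]
  have h3 : j * (i * i) = (i * i) * j := comm_of_mem (yC q q.zY) q.mj
  calc ⁅i, j⁆ = i * j * (i * (i * i)) * (j * (i * i)) := by rw [commutatorElement_def, h1, h2]
    _ = i * j * i * ((i * i) * (i * i)) * j := by rw [h3]; group
    _ = i * j * (i * j) := by rw [q.four]; group
    _ = i * i := q.kk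

theorem uu (q : QD U Y x i j) {Z : Subgroup G} (hn : U ≤ 𝒩(Z)) (hz : i * i ∈ Z) : ∀ a ∈ U, ∀ b ∈ U, ⁅a, b⁆ ∈ Z := by
  have hy : ∀ b ∈ U, ∀ y ∈ Y, ⁅y, b⁆ ∈ Z := fun b hb y hy => by
    rw [commutatorElement_eq_one_iff_mul_comm.2 (comm_of_mem (yC q hy) hb).symm]
    exact Z.one_mem
  have hij : ⁅i, j⁆ ∈ Z := (cij q).symm ▸ hz
  have hi : ∀ a ∈ U, ⁅a, i⁆ ∈ Z := gen q (fun a => ⁅a, i⁆ ∈ Z) (hy i q.mi) (by simp) (sy hij)
    fun a ha _ _ h1 h2 => cl (hn ha) h1 h2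
  have hj : ∀ a ∈ U, ⁅a, j⁆ ∈ Z := gen q (fun a => ⁅a, j⁆ ∈ Z) (hy j q.mj) hij (by simp)
    fun a ha _ _ h1 h2 => cl (hn ha) h1 h2
  intro a ha b hb
  exact gen q (fun a => ⁅a, b⁆ ∈ Z) (hy b hb) (sy (hi b hb)) (sy (hj b hb))
    (fun a ha _ _ h1 h2 => cl (hn ha) h1 h2) a ha

theorem noE [Finite G] (q : QD U Y x i j) (hU : Nat.card U = 16) : ∀ E ≤ U, ¬ E8 E := by
  rintro E hE ⟨⟨hab, h2⟩, h8⟩
  have hY : ¬ E ≤ Y := fun h => by
    have := card_le_of_le h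
    rw [h8, q.cardY] at this
    omega
  have hYE : Y ≤ E := by
    by_contra hn
    have h1 : U ≤ E ⊔ Y := mid le_sup_left (sup_le hE fun y hy => yU q hy) (by rw [hU, h8])
      fun h => hn (le_sup_right.trans h)
    have h3 : U ≤ 𝒞(E) := h1.trans (sup_le (le_centralizer E) fun y hy => cent_mono hE (yC q hy))
    exact hY (q.Y_eq ▸ le_inf hE (le_centralizer_iff.1 h3))
  obtain ⟨e, he, he'⟩ := SetLike.not_le_iff_exists.1 hY
  have key : ∀ w ∈ U, w * w = i * i → e * w⁻¹ ∉ Y := fun w hw hww hy => by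
    have a1 := h2 _ (hYE hy)
    have a2 := h2 _ he
    have a3 := comm_of_mem (yC q hy) hw
    apply q.ne
    calc i * i = (e * w⁻¹) ^ 2 * (w * w) := by rw [a1, hww, one_mul]
      _ = e * w⁻¹ * (e * w⁻¹ * w) * w := by rw [sq]; group
      _ = e * w⁻¹ * (w * (e * w⁻¹)) * w := by rw [a3]
      _ = e ^ 2 := by rw [sq]; group
      _ = 1 := a2
  rcases q.dec e (hE he) with h | h | h | h
  · exact he' h
  · exact key i q.mi rfl h
  · exact key j q.mj q.jj h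
  · exact key _ (U.mul_mem q.mi q.mj) q.kk h

/-- an involutory automorphism of a group of order four -/
theorem csq [Finite G] (q : QD U Y x i j) {s y : G} (hs : s ∈ 𝒩(Y)) (hss : s * s ∈ U) (hy : y ∈ Y) :
    ⁅y, s⁆ ∈ Y ∧ s * ⁅y, s⁆ * s⁻¹ = ⁅y, s⁆⁻¹ ∧ ⁅y, s⁆ * ⁅y, s⁆ = 1 := by
  have h1 : s * y⁻¹ * s⁻¹ ∈ Y := CL.Even.conj_mem hs (Y.inv_mem hy)
  have e : ⁅y, s⁆ = y * (s * y⁻¹ * s⁻¹) := by rw [commutatorElement_def]; group
  have hc : ⁅y, s⁆ ∈ Y := e ▸ Y.mul_mem hy h1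
  have h2 : s * ⁅y, s⁆ * s⁻¹ = ⁅y, s⁆⁻¹ := by
    have a := comm_of_mem (yC q (Y.inv_mem hy)) hss
    calc s * ⁅y, s⁆ * s⁻¹ = s * y * s⁻¹ * (s * s * y⁻¹) * s⁻¹ * s⁻¹ := by rw [commutatorElement_def]; group
      _ = s * y * s⁻¹ * (y⁻¹ * (s * s)) * s⁻¹ * s⁻¹ := by rw [a]
      _ = ⁅y, s⁆⁻¹ := by rw [commutatorElement_def]; group
  refine ⟨hc, h2, ?_⟩
  by_contra hne
  have p4 : ∀ c ∈ Y, c ^ 4 = 1 := fun c hc => by
    have := pow_card_eq_one' (x := (⟨c, hc⟩ : Y))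
    rw [q.cardY] at this
    exact congrArg Subtype.val this
  have o4 : orderOf ⁅y, s⁆ = 2 ^ (1 + 1) := orderOf_eq_prime_pow (by rwa [pow_one, sq]) (p4 _ hc)
  have hz : zpowers ⁅y, s⁆ = Y := eq_of_le_of_card_ge (zpowers_le.2 hc) (by rw [Nat.card_zpowers, o4, q.cardY]; rfl)
  obtain ⟨k, hk⟩ : y⁻¹ ∈ zpowers ⁅y, s⁆ := hz.symm ▸ Y.inv_mem hy
  have a : s * y⁻¹ * s⁻¹ = y := by
    have hk' : ⁅y, s⁆ ^ k = y⁻¹ := hk
    rw [← hk', ← conj_zpow, h2, inv_zpow, hk', inv_inv]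
  apply hne
  rw [e, a, ← p4 y hy]
  simp only [pow_succ, pow_zero, one_mul, mul_assoc]

end U16mx

open U16mx in
theorem u16m : U16m.{u} := by
  intro G _ _ S A U Y x i j h hU cU q
  have t2 := fun {a b : G} (ha : a ∈ S) (hb : b ∈ S) => two hU (by rw [h.card, cU]) ha hb
  have nU : S ≤ 𝒩(U) := le_norm_of_cj_le fun g hg u hu => by
    have hu' := mem_cj.1 hu
    have hS : u ∈ S := by simpa [mul_assoc] using CL.Even.conj_mem (le_normalizer hg) (hU hu')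
    have a1 := t2 (S.mul_mem (S.inv_mem hg) hS) hg
    have a2 := t2 (S.inv_mem hg) hS
    have a3 : g⁻¹ ∈ U ↔ g ∈ U := inv_mem_iff
    tauto
  have nY : S ≤ 𝒩(Y) := q.Y_eq ▸ le_norm_inf nU (le_norm_cent nU)
  have cS : ∀ {c e : G}, e ∈ S → e ∉ U → c ∈ Y → e * c * e⁻¹ = c → c ∈ 𝒞(S) := fun {c e} he he' hc hec => by
    rw [mem_centralizer_iff]
    intro t ht
    by_cases ht' : t ∈ U
    · exact comm_of_mem (yC q hc) ht'
    · have a := comm_of_mem (yC q hc) ((t2 (S.inv_mem he) ht).2 (iff_of_false (by rwa [inv_mem_iff]) ht'))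
      calc t * c = e * (e⁻¹ * t * c) := by group
        _ = e * c * e⁻¹ * t := by rw [a]; group
        _ = c * t := by rw [hec]
  have n8 := noE q cU
  refine ⟨n8, fun y hy => (h.memA y (hU (yU q hy))).2 fun s hs => ?_, fun s hs hsY => ?_⟩
  · by_cases hs' : s ∈ U
    · rw [commutatorElement_eq_one_iff_mul_comm.2 (comm_of_mem (yC q hy) hs').symm]
      exact one_mem _
    · obtain ⟨a, b, c⟩ := csq q (nY hs) ((t2 hs hs).2 Iff.rfl) hy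
      exact cS hs hs' a (by rw [b, inv_eq_of_mul_eq_one_left c])
  by_contra hs'
  obtain ⟨E, hES, hE⟩ := h.rk
  obtain ⟨e, he, he'⟩ := SetLike.not_le_iff_exists.1 fun hh : E ≤ U => n8 E hh hE
  have heS := hES he
  have ee : e * e = 1 := by rw [← sq]; exact hE.1.2 e he
  have u0 : s⁻¹ * e ∈ U := (t2 (S.inv_mem hs) heS).2 (iff_of_false (by rwa [inv_mem_iff]) he')
  have dY : ∀ u ∈ U, ⁅e, u⁆ ∈ Y := fun u hu => by
    have := cl (nY hs) (hsY u hu) (uu q (hU.trans nY) q.zY _ u0 u hu)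
    rwa [mul_inv_cancel_left] at this
  have dm : ∀ a ∈ U, ∀ b ∈ U, ⁅e, a * b⁆ = ⁅e, a⁆ * ⁅e, b⁆ := fun a ha b hb => by
    have a1 := comm_of_mem (yC q (dY b hb)) ha
    calc ⁅e, a * b⁆ = ⁅e, a⁆ * (a * ⁅e, b⁆) * a⁻¹ := by simp only [commutatorElement_def]; group
      _ = ⁅e, a⁆ * ⁅e, b⁆ := by rw [a1]; group
  have dz : ⁅e, i * i⁆ = 1 := by
    have a1 := fun {v : G} (hv : v ∈ U) => comm_of_mem (yC q (dY i q.mi)) hv
    have a2 := fun {v : G} (hv : v ∈ U) => comm_of_mem (yC q (dY j q.mj)) hv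
    have b1 : e * i * e⁻¹ = ⁅e, i⁆ * i := by rw [commutatorElement_def]; group
    have b2 : e * j * e⁻¹ = ⁅e, j⁆ * j := by rw [commutatorElement_def]; group
    have hc := yU q (dY i q.mi)
    rw [commutatorElement_def, mul_inv_eq_one, ← cij q, conjugate_commutatorElement, b1, b2]
    generalize ⁅e, i⁆ = c at a1 hc
    generalize ⁅e, j⁆ = d at a2
    have c1 := a1 (U.mul_mem (U.mul_mem q.mi q.mj) (U.inv_mem q.mi))
    have c3 := a2 (U.mul_mem (U.mul_mem q.mj (U.inv_mem q.mi)) (U.mul_mem (U.inv_mem hc) (U.inv_mem q.mj)))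
    calc ⁅c * i, d * j⁆ = c * i * (d * (j * i⁻¹ * (c⁻¹ * j⁻¹))) * d⁻¹ := by rw [commutatorElement_def]; group
      _ = c * (i * j * i⁻¹) * c⁻¹ * j⁻¹ := by rw [← c3]; group
      _ = ⁅i, j⁆ := by rw [← c1, commutatorElement_def]; group
  have d2 : ∀ u ∈ U, ⁅e, u⁆ * ⁅e, u⁆ = 1 := by
    refine gen q (fun u => ⁅e, u⁆ * ⁅e, u⁆ = 1) (fun y hy => ?_) ?_ ?_ fun a ha b hb h1 h2 => ?_
    · rw [← commutatorElement_inv, ← mul_inv_rev, (csq q (nY heS) (ee ▸ U.one_mem) hy).2.2, inv_one]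
    · rw [← dm i q.mi i q.mi, dz]
    · rw [← dm j q.mj j q.mj, q.jj, dz]
    · have a1 := comm_of_mem (yC q (dY b hb)) (yU q (dY a ha))
      rw [dm a ha b hb]
      calc ⁅e, a⁆ * ⁅e, b⁆ * (⁅e, a⁆ * ⁅e, b⁆) = ⁅e, a⁆ * (⁅e, b⁆ * ⁅e, a⁆) * ⁅e, b⁆ := by group
        _ = ⁅e, a⁆ * ⁅e, a⁆ * (⁅e, b⁆ * ⁅e, b⁆) := by rw [← a1]; group
        _ = 1 := by rw [h1, h2, one_mul]
  have dC : ∀ u ∈ U, ⁅e, u⁆ ∈ 𝒞(S) := fun u hu => cS heS he' (dY u hu) (by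
    have a : e * ⁅e, u⁆ * e⁻¹ * ⁅e, u⁆ = 1 := by
      calc e * ⁅e, u⁆ * e⁻¹ * ⁅e, u⁆ = e * e * u * (e * e)⁻¹ * u⁻¹ := by rw [commutatorElement_def]; group
        _ = 1 := by rw [ee]; group
    rw [eq_inv_of_mul_eq_one_left a, inv_eq_of_mul_eq_one_left (d2 u hu)])
  have zC : i * i ∈ 𝒞(S) := cS heS he' q.zY (by rwa [commutatorElement_def, mul_inv_eq_one] at dz)
  have nC : S ≤ 𝒩(𝒞(S)) := le_norm_cent le_normalizer
  have gS : ∀ b, ⁅e, b⁆ ∈ 𝒞(S) → (∀ u ∈ U, ⁅u, b⁆ ∈ 𝒞(S)) → ∀ a ∈ S, ⁅a, b⁆ ∈ 𝒞(S) := fun b h1 h2 a ha => by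
    by_cases ha' : a ∈ U
    · exact h2 a ha'
    · have := cl (nC heS) h1 (h2 _ ((t2 (S.inv_mem heS) ha).2 (iff_of_false (by rwa [inv_mem_iff]) ha')))
      rwa [mul_inv_cancel_left] at this
  refine h.nc (commutator_le.2 fun a ha b hb => gS b ?_ (fun u hu => ?_) a ha)
  · exact sy (gS e (by simp) (fun u hu => sy (dC u hu)) b hb)
  · exact sy (gS u (dC u hu) (fun v hv => uu q (hU.trans nC) zC v hv u hu) b hb)

end CL.DG9
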