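/-
Project DG9 (S3645): a subgroup of index two with an odd automorphism is not abelian.
-/
import Cfsg.Agent.DG9.Defs

set_option autoImplicit false

namespace CL.DG9

open Cfsg Subgroup CL.Grp CL.Loc CL.Even CL.Char
open scoped commutatorElement

universe u

namespace U16nx

variable {G : Type u} [Group G]

theorem two {H K : Subgroup G} (h : H.relIndex K = 2) {a b : G} (ha : a ∈ K) (hb : b ∈ K) (h1 : a ∉ H) (h2 : b ∉ H) :
    a * b ∈ H :=
  (mul_mem_iff_of_index_two (H := H.subgroupOf K) h (a := ⟨a, ha⟩) (b := ⟨b, hb⟩)).2 (iff_of_false h1 h2)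

theorem step {x k h : G} (hx : Odd (orderOf x)) (e : x * k * x⁻¹ = h * k) (c : x * h * x⁻¹ = h) (h2 : h * h = 1) :
    x * k * x⁻¹ = k := by
  have e2 : Commute (x * x) k := by
    rw [Commute, SemiconjBy, ← mul_inv_eq_iff_eq_mul]
    calc x * x * k * (x * x)⁻¹ = x * (x * k * x⁻¹) * x⁻¹ := by group
      _ = (x * h * x⁻¹) * (x * k * x⁻¹) := by rw [e]; nth_rewrite 2 [← e]; group
      _ = k := by rw [c, e, ← mul_assoc, h2, one_mul]
  obtain ⟨m, hm⟩ := hx
  have e3 : x = (x * x) ^ (m + 1) := by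
    rw [← pow_two, ← pow_mul, show 2 * (m + 1) = 2 * m + 1 + 1 by ring, pow_succ, ← hm, pow_orderOf_eq_one, one_mul]
  rw [mul_inv_eq_iff_eq_mul, e3]
  exact (e2.pow_left _).eq

variable {S U : Subgroup G}

/-- an odd element fixing the involutions of an abelian 2-group fixes it -/
theorem fix (hab : U ≤ 𝒞(U)) {x : G} (hx : x ∈ 𝒩(U)) (ho : Odd (orderOf x))
    (h : ∀ w ∈ U, w * w = 1 → x * w * x⁻¹ = w) (n : ℕ) : ∀ u ∈ U, u ^ 2 ^ n = 1 → x * u * x⁻¹ = u := by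
  induction n with
  | zero => intro u _ e; rw [show u = 1 by simpa using e]; simp
  | succ n ih =>
    intro u hu e
    have h1 := ih (u * u) (mul_mem hu hu) (by rw [← pow_two, ← pow_mul, ← pow_succ', e])
    have h2 := conj_mem hx hu
    have h3 : x * u * x⁻¹ * u⁻¹ * (x * u * x⁻¹ * u⁻¹) = 1 := by
      rw [mul_assoc (x * u * x⁻¹), ← mul_assoc u⁻¹, comm_of_mem (hab h2) (inv_mem hu),
        show x * u * x⁻¹ * (x * u * x⁻¹ * u⁻¹ * u⁻¹) = x * (u * u) * x⁻¹ * (u * u)⁻¹ by group, h1, mul_inv_cancel]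
    exact step ho (inv_mul_cancel_right _ u).symm (h _ (mul_mem h2 (inv_mem hu)) h3) h3

/-- an element outside `U` moves a square -/
theorem moves (hU : U ≤ S) (hi : U.relIndex S = 2) (hab : U ≤ 𝒞(U)) (nc : ¬ ⁅S, S⁆ ≤ 𝒞(S)) {s : G} (hs : s ∈ S)
    (hsU : s ∉ U) : ∃ u ∈ U, s * (u * u) * s⁻¹ ≠ u * u := by
  by_contra! k
  have cm : ∀ {a b : G}, a ∈ U → b ∈ U → a * b = b * a := fun ha hb => comm_of_mem (hab hb) ha
  have hn : ∀ u ∈ U, s * u * s⁻¹ ∈ U := fun u hu => two hi (mul_mem hs (hU hu)) (inv_mem hs)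
    (fun e => hsU ((mul_mem_cancel_right hu).1 e)) fun e => hsU (inv_mem_iff.1 e)
  have dec : ∀ t ∈ S, t ∈ U ∨ ∃ u ∈ U, t = s * u := fun t ht => (em (t ∈ U)).imp_right fun e =>
    ⟨_, two hi (inv_mem hs) ht (fun e => hsU (inv_mem_iff.1 e)) e, by group⟩
  have d : ∀ u ∈ U, ⁅s, u⁆ ∈ 𝒞(S) := fun u hu => mem_centralizer_iff.2 fun t ht => by
    have h1 : ⁅s, u⁆ ∈ U := mul_mem (hn u hu) (inv_mem hu)
    have h2 : s * ⁅s, u⁆ = ⁅s, u⁆ * s := by
      have a := cm (two hi hs hs hsU hsU) hu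
      rw [← mul_inv_eq_iff_eq_mul]
      calc s * ⁅s, u⁆ * s⁻¹ = (s * s * u) * (s * s)⁻¹ * (s * u * s⁻¹)⁻¹ := by simp only [commutatorElement_def]; group
        _ = u * (s * (u * u) * s⁻¹)⁻¹ * (s * u * s⁻¹) := by rw [a]; group
        _ = u⁻¹ * (s * u * s⁻¹) := by rw [k u hu]; group
        _ = _ := cm (inv_mem hu) (hn u hu)
    rcases dec t ht with e | ⟨v, hv, rfl⟩
    · exact cm e h1
    · rw [mul_assoc, cm hv h1, ← mul_assoc, h2, mul_assoc]
  have d' : ∀ u ∈ U, ∀ v ∈ U, ⁅s * u, v⁆ ∈ 𝒞(S) := fun u hu v hv => by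
    rw [show ⁅s * u, v⁆ = s * (u * v) * u⁻¹ * s⁻¹ * v⁻¹ by simp only [commutatorElement_def]; group, cm hu hv]
    simpa [commutatorElement_def, mul_assoc] using d v hv
  refine nc (commutator_le.2 fun a ha b hb => ?_)
  rcases dec a ha with e | ⟨u, hu, rfl⟩ <;> rcases dec b hb with e' | ⟨v, hv, rfl⟩
  · rw [commutatorElement_eq_one_iff_mul_comm.2 (cm e e')]; exact one_mem _
  · exact commutatorElement_inv (s * v) a ▸ inv_mem (d' v hv a e)
  · exact d' u hu b e'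
  · have h1 := d' u hu _ (mul_mem (inv_mem hu) hv)
    rw [show ⁅s * u, s * v⁆ = s * u * ⁅s * u, u⁻¹ * v⁆ * (s * u)⁻¹ by simp only [commutatorElement_def]; group,
      comm_of_mem h1 ha, mul_inv_cancel_right]
    exact h1

end U16nx

open U16nx in
theorem u16n : U16n.{u} := by
  intro G _ _ S A U h hU ⟨x, hx, ho, hxC⟩ hc hab
  have cm : ∀ {a b : G}, a ∈ U → b ∈ U → a * b = b * a := fun ha hb => comm_of_mem (hab hb) ha
  have hi : U.relIndex S = 2 := by
    have := card_mul_relIndex hU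
    rw [hc, h.card] at this
    omega
  have mv := fun s hs hsU => moves (s := s) hU hi hab h.nc hs hsU
  let f : U →* G := MonoidHom.mk' (fun u => u * u) fun a b => by
    rw [coe_mul, mul_assoc, ← mul_assoc (b : G), cm b.2 a.2]; group
  have mO : ∀ w, w ∈ f.ker.map U.subtype ↔ w ∈ U ∧ w * w = 1 := fun w =>
    ⟨by rintro ⟨v, hv, rfl⟩; exact ⟨v.2, hv⟩, fun k => ⟨⟨w, k.1⟩, k.2, rfl⟩⟩
  have mR : ∀ u ∈ U, u * u ∈ f.range := fun u hu => ⟨⟨u, hu⟩, rfl⟩
  have e1 : Nat.card f.range * Nat.card (f.ker.map U.subtype) = 16 := by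
    rw [card_map_of_injective U.subtype_injective, ← index_ker, index_mul_card, hc]
  generalize f.ker.map U.subtype = O at mO e1
  generalize f.range = R at mR e1
  have hn : ∀ s ∈ S, ∀ u ∈ U, s * u * s⁻¹ ∈ U := fun s hs u hu =>
    (normal_of_index_eq_two (H := U.subgroupOf S) hi).conj_mem ⟨u, hU hu⟩ hu ⟨s, hs⟩
  have e2 : 2 < Nat.card R := by
    obtain ⟨s, hs, hsU⟩ := SetLike.exists_of_lt (lt_of_le_of_ne hU fun e => by
      rw [e, h.card] at hc; omega)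
    obtain ⟨u, hu, k⟩ := mv s hs hsU
    have := Fintype.ofFinite R
    rw [Nat.card_eq_fintype_card, Fintype.two_lt_card_iff]
    have e : s * (u * u) * s⁻¹ = s * u * s⁻¹ * (s * u * s⁻¹) := by group
    refine ⟨⟨_, mR _ (hn s hs u hu)⟩, ⟨_, mR u hu⟩, 1, fun e' => k (e.trans (congrArg Subtype.val e')), fun e' => k ?_,
      fun e' => k ?_⟩
    · have e2 : s * (u * u) * s⁻¹ = 1 := e.trans (congrArg Subtype.val e')
      rw [e2, conj_eq_one_iff.1 e2]
    · rw [show u * u = 1 from congrArg Subtype.val e']; simp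
  obtain ⟨E, hE, ⟨ea, ep⟩, cE⟩ := h.rk
  have hUE : U ⊓ E ≤ O := fun w hw => (mO w).2 ⟨hw.1, (pow_two w).symm.trans (ep w hw.2)⟩
  have e3 := card_inf_mul_relIndex U E
  have e4 := relIndex_le_of_le_right hE (hi ▸ two_ne_zero : U.relIndex S ≠ 0)
  have e5 := card_le_of_le hUE
  rw [hi] at e4
  rw [cE] at e3
  have e6 : 4 ≤ Nat.card (U ⊓ E : Subgroup G) := by nlinarith
  have e7 : Nat.card O ≤ 5 := by nlinarith
  obtain ⟨cO, cR⟩ : Nat.card O = 4 ∧ Nat.card R = 4 := by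
    generalize Nat.card O = a at *
    interval_cases a <;> omega
  have eO : U ⊓ E = O := eq_of_le_of_card_ge hUE (by omega)
  obtain ⟨e, he, heU⟩ : ∃ e ∈ E, e ∉ U := by
    by_contra! k
    rw [← eO, inf_eq_right.2 k] at cO
    omega
  obtain ⟨u, hu, k⟩ := mv e (hE he) heU
  have u4 : u * u * (u * u) ≠ 1 := fun e' => k (by
    rw [setLike_mul_comm he (eO.ge ((mO _).2 ⟨mul_mem hu hu, e'⟩)).2, mul_inv_cancel_right])
  have u8 : (u * u) ^ 4 = 1 := congrArg Subtype.val (cR ▸ pow_card_eq_one' (x := (⟨_, mR u hu⟩ : R)))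
  have o4 : orderOf (u * u) = 4 := orderOf_eq_prime_pow (p := 2) (n := 1) (by rwa [pow_one, pow_two]) u8
  have eR : zpowers (u * u) = R := eq_of_le_of_card_ge (zpowers_le.2 (mR u hu)) (by rw [Nat.card_zpowers, o4, cR])
  obtain ⟨z, hz⟩ : ∃ z, z = u * u * (u * u) := ⟨_, rfl⟩
  have zz : z * z = 1 := by rw [← u8, hz]; simp only [pow_succ, pow_zero, one_mul, mul_assoc]
  have oz : orderOf z = 2 := orderOf_eq_prime (by rw [pow_two, zz]) (hz ▸ u4)
  have mz : ∀ w ∈ zpowers z, w = 1 ∨ w = z := fun w hw => by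
    classical
    obtain ⟨n, hn, rfl⟩ := (mem_zpowers_iff_mem_range_orderOf.1 hw : w ∈ Finset.image _ _) |> Finset.mem_image.1
    rw [oz, Finset.mem_range] at hn
    interval_cases n <;> simp
  have xz : x * z * x⁻¹ = z := by
    obtain ⟨n, hn⟩ := eR.ge (mR _ (conj_mem hx hu))
    refine (mz _ ⟨n, ?_⟩).resolve_left fun e' => u4 (hz ▸ conj_eq_one_iff.1 e')
    calc z ^ n = (u * u) ^ n * (u * u) ^ n := by rw [hz, (Commute.refl (u * u)).mul_zpow]
      _ = _ := by rw [show (u * u) ^ n = _ from hn, hz]; group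
  have zO : zpowers z ≤ O := zpowers_le.2 ((mO z).2 ⟨hz ▸ mul_mem (mul_mem hu hu) (mul_mem hu hu), zz⟩)
  have iz : (zpowers z).relIndex O = 2 := by
    have := card_mul_relIndex zO
    rw [Nat.card_zpowers, oz, cO] at this
    omega
  have fz : ∀ w ∈ zpowers z, x * w * x⁻¹ = w := fun w hw => by
    rcases mz w hw with rfl | rfl
    exacts [by simp, xz]
  refine hxC (mem_centralizer_iff.2 fun v hv => (mul_inv_eq_iff_eq_mul.1 (fix hab hx ho (fun w hw ww => ?_) 4 v hv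
    (congrArg Subtype.val (hc ▸ pow_card_eq_one' (x := (⟨v, hv⟩ : U)))))).symm)
  by_cases wz : w ∈ zpowers z
  · exact fz w wz
  have h1 : x * w * x⁻¹ * w⁻¹ ∈ zpowers z := two iz ((mO _).2 ⟨conj_mem hx hw, by
    rw [show x * w * x⁻¹ * (x * w * x⁻¹) = x * (w * w) * x⁻¹ by group, ww]; simp⟩) (inv_mem ((mO w).2 ⟨hw, ww⟩))
    (fun e' => wz (by rwa [show x * w * x⁻¹ = w from (MulAut.conj x).injective (fz _ e')] at e')) fun e' => wz (inv_mem_iff.1 e')
  exact step ho (inv_mul_cancel_right _ w).symm (fz _ h1) ((mO _).1 (zO h1)).2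

end CL.DG9
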