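/-
Project DG9 (S3645), job U16q: a group of order 16 and class two with an automorphism of odd order.
-/
import Cfsg.Agent.DG9.Defs
import Cfsg.Agent.Even.Amb2

set_option autoImplicit false
set_option linter.unusedSectionVars false

namespace CL.DG9

open Cfsg Subgroup CL.Grp CL.Loc CL.Even CL.Char
open scoped commutatorElement

universe u

namespace U16qx

variable {G : Type u} [Group G] [Finite G] {U H K : Subgroup G} {a b g x : G}

theorem two (h : H ≤ K) (hc : Nat.card K = 2 * Nat.card H) (ha : a ∈ K) (hb : b ∈ K) :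
    a * b ∈ H ↔ (a ∈ H ↔ b ∈ H) :=
  mul_mem_iff_of_index_two (H := H.subgroupOf K) (a := ⟨a, ha⟩) (b := ⟨b, hb⟩)
    (Nat.eq_of_mul_eq_mul_left Nat.card_pos ((card_mul_relIndex h).trans (hc.trans (mul_comm _ _))))

theorem two' (h : H ≤ K) (hc : Nat.card K = 2 * Nat.card H) (ha : a ∈ K) (hb : b ∈ K) (hb' : b ∉ H) :
    a ∈ H ∨ a * b⁻¹ ∈ H :=
  or_iff_not_imp_left.2 fun k => (two h hc ha (inv_mem hb)).2 (iff_of_false k (mt inv_mem_iff.1 hb'))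

theorem chain (h : H ≤ K) (hc : Nat.card K = 2 * Nat.card H) (hH : IsPGroup 2 H) (hx : Odd (orderOf x))
    (hK : x ∈ 𝒩(K)) (hxH : x ∈ 𝒞(H)) : x ∈ 𝒞(K) :=
  mem_cent_of_coprime hH (Nat.coprime_two_right.2 hx) (fun r hr => by
    rw [commutatorElement_def, mul_assoc, mul_assoc, ← mul_assoc x, two h hc hr (conj_mem hK (inv_mem hr)),
      ← mem_normalizer_iff.1 (cent_le_norm H hxH), inv_mem_iff]) hxH

theorem lt (h : H ≤ K) (ha : a ∈ K) (ha' : a ∉ H) : Nat.card H < Nat.card K :=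
  not_le.1 fun e => ha' ((eq_of_le_of_card_ge h e).ge ha)

theorem card_mul_le (A B : Subgroup G) :
    Nat.card A * Nat.card B ≤ Nat.card (A ⊓ B : Subgroup G) * Nat.card (A ⊔ B : Subgroup G) := by
  rw [← card_inf_mul_relIndex A B, ← card_mul_relIndex (le_sup_left : A ≤ A ⊔ B), mul_left_comm]
  exact Nat.mul_le_mul_left _ (Nat.mul_le_mul_left _ (relIndex_le_of_le_right le_sup_right index_ne_zero_of_finite))

/-- the centraliser in `U` -/
abbrev C (U : Subgroup G) (a : G) : Subgroup G := U ⊓ centralizer {a}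

omit [Finite G] in
theorem mem_C : g ∈ C U a ↔ g ∈ U ∧ g * a = a * g := mem_inf.trans (and_congr_right' mem_centralizer_singleton_iff)

omit [Finite G] in
theorem Y_le (ha : a ∈ U) : U ⊓ 𝒞(U) ≤ C U a := fun _ h => mem_C.2 ⟨h.1, (comm_of_mem h.2 ha).symm⟩

variable (hU : Nat.card U = 16)
include hU

theorem cases (h : H ≤ U) : Nat.card H = 1 ∨ Nat.card H = 2 ∨ Nat.card H = 4 ∨ Nat.card H = 8 ∨ Nat.card H = 16 := by
  obtain ⟨k, hk, e⟩ := (Nat.dvd_prime_pow Nat.prime_two).1 (show Nat.card H ∣ 2 ^ 4 from (card_dvd_of_le h).trans (dvd_of_eq hU))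
  rw [e]
  interval_cases k <;> simp

theorem dec (ha : a ∈ U) (hb : b ∈ U) (hab : b * a ≠ a * b) (h8 : Nat.card (C U a) = 8) (hK : K ≤ C U a)
    (h4 : Nat.card K = 4) (haK : a ∉ K) (hg : g ∈ U) : g ∈ K ∨ g * a⁻¹ ∈ K ∨ g * b⁻¹ ∈ K ∨ g * (a * b)⁻¹ ∈ K := by
  have k : ∀ v ∈ C U a, v ∈ K ∨ v * a⁻¹ ∈ K := fun v hv => two' hK (by omega) hv (mem_C.2 ⟨ha, rfl⟩) haK
  rw [mul_inv_rev, ← mul_assoc]
  rcases two' (H := C U a) inf_le_left (by omega) hg hb fun e => hab (mem_C.1 e).2 with e | e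
  · exact (k _ e).imp_right .inl
  · exact .inr (.inr (k _ e))

theorem cen (ha : a ∈ U) (hb : b ∈ U) (hab : b * a ≠ a * b) (h8 : Nat.card (C U a) = 8) (hK : K ≤ C U a)
    (h4 : Nat.card K = 4) (haK : a ∉ K) (h1 : Commute a g) (h2 : Commute b g) (h3 : ∀ k ∈ K, Commute k g) :
    g ∈ 𝒞(U) := fun v hv => by
  rcases dec hU ha hb hab h8 hK h4 haK hv with e | e | e | e
  · exact h3 _ e
  · simpa using ((h3 _ e).mul_left h1).eq
  · simpa using ((h3 _ e).mul_left h2).eq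
  · simpa only [inv_mul_cancel_right] using ((h3 _ e).mul_left (h1.mul_left h2)).eq

theorem cardY (hc : ∀ a ∈ U, ∀ b ∈ U, ⁅a, b⁆ ∈ U ⊓ 𝒞(U)) (ha : a ∈ U) (hb : b ∈ U) (hab : b * a ≠ a * b) :
    Nat.card (U ⊓ 𝒞(U) : Subgroup G) = 4 := by
  have aY : a ∉ U ⊓ 𝒞(U) := fun e => hab (comm_of_mem e.2 hb)
  have aC : a ∈ C U a := mem_C.2 ⟨ha, rfl⟩
  have l1 := lt (Y_le ha) aC aY
  have l2 := lt (H := C U a) inf_le_left hb fun e => hab (mem_C.1 e).2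
  have l3 := lt bot_le (hc b hb a ha) fun e => hab (commutatorElement_eq_one_iff_mul_comm.1 (mem_bot.1 e))
  have c1 := cases hU (H := C U a) inf_le_left
  have c2 := cases hU (H := U ⊓ 𝒞(U)) inf_le_left
  rw [card_bot] at l3
  by_contra hne
  have h2 : Nat.card (U ⊓ 𝒞(U) : Subgroup G) = 2 := by omega
  have uq : ∀ y ∈ U ⊓ 𝒞(U), ∀ y' ∈ U ⊓ 𝒞(U), y ≠ 1 → y' ≠ 1 → y = y' := fun y hy y' hy' h h' =>
    congrArg Subtype.val (((Nat.card_eq_two_iff' (1 : (U ⊓ 𝒞(U) : Subgroup G))).1 h2).unique (y₁ := ⟨y, hy⟩)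
      (y₂ := ⟨y', hy'⟩) (fun e => h (congrArg Subtype.val e)) fun e => h' (congrArg Subtype.val e))
  have e8 : ∀ a ∈ U, ∀ b ∈ U, b * a ≠ a * b → Nat.card (C U a) = 8 := fun a ha b hb hab => by
    have k := card_inf_mul_relIndex (centralizer {a}) U
    rw [relIindex_eq_two_iff'.2 ⟨b, hb, fun v hv => ?_⟩, inf_comm, hU] at k
    · exact Nat.eq_of_mul_eq_mul_right two_pos k
    have nb : b ∉ centralizer {a} := fun e => hab (mem_centralizer_singleton_iff.1 e)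
    by_cases hv' : v ∈ centralizer {a}
    · exact .inr ⟨hv', fun e => nb ((mul_mem_cancel_right hv').1 e)⟩
    · refine .inl ⟨mem_centralizer_singleton_iff.2 ?_, hv'⟩
      have e := uq _ (hc a ha v hv) _ (hc a ha _ (inv_mem hb))
        (fun e => hv' (mem_centralizer_singleton_iff.2 (commutatorElement_eq_one_iff_mul_comm.1 e).symm))
        fun e => nb (inv_mem_iff.1 (mem_centralizer_singleton_iff.2 (commutatorElement_eq_one_iff_mul_comm.1 e).symm))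
      calc b * v * a = b * (a⁻¹ * ⁅a, v⁆)⁻¹ * v := by rw [commutatorElement_def]; group
        _ = _ := by rw [e, commutatorElement_def]; group
  have ea := e8 a ha b hb hab
  have eb := e8 b hb a ha hab.symm
  have aK : a ∉ C U a ⊓ C U b := fun e => hab (mem_C.1 e.2).2.symm
  have l4 := lt (H := C U a ⊓ C U b) inf_le_left aC aK
  have c3 := cases hU (H := C U a ⊓ C U b) (inf_le_left.trans inf_le_left)
  have l5 := (card_mul_le (C U a) (C U b)).trans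
    (Nat.mul_le_mul_left _ (card_le_of_le (sup_le inf_le_left inf_le_left : _ ≤ U)))
  rw [ea, eb, hU] at l5
  have h4 : Nat.card (C U a ⊓ C U b : Subgroup G) = 4 := by omega
  have yK := le_inf (Y_le ha) (Y_le hb)
  have := card_le_of_le (show C U a ⊓ C U b ≤ U ⊓ 𝒞(U) from fun k hk => by_contra fun kY => kY ⟨hk.1.1,
    cen hU ha hb hab ea inf_le_left h4 aK (mem_C.1 hk.1).2.symm (mem_C.1 hk.2).2.symm fun k' hk' => by
      rcases two' yK (by omega) hk' hk kY with e | e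
      · exact (comm_of_mem e.2 hk.1.1).symm
      · simpa using (show Commute _ k from (comm_of_mem e.2 hk.1.1).symm).mul_left (Commute.refl k)⟩)
  omega

variable (hc : ∀ a ∈ U, ∀ b ∈ U, ⁅a, b⁆ ∈ U ⊓ 𝒞(U)) (h4 : Nat.card (U ⊓ 𝒞(U) : Subgroup G) = 4)
include h4

theorem card8 (ha : a ∈ U) (ha' : a ∉ U ⊓ 𝒞(U)) : Nat.card (C U a) = 8 := by
  obtain ⟨b, hb, hab⟩ : ∃ b ∈ U, b * a ≠ a * b := by
    by_contra h
    push Not at h
    exact ha' ⟨ha, h⟩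
  have l1 := lt (Y_le ha) (mem_C.2 ⟨ha, rfl⟩) ha'
  have l2 := lt (H := C U a) inf_le_left hb fun e => hab (mem_C.1 e).2
  have c1 := cases hU (H := C U a) inf_le_left
  omega

theorem sq (ha : a ∈ U) : a * a ∈ U ⊓ 𝒞(U) := by
  by_cases h : a ∈ U ⊓ 𝒞(U)
  · exact mul_mem h h
  · exact (two (Y_le ha) (by rw [card8 hU h4 ha h, h4]) (mem_C.2 ⟨ha, rfl⟩) (mem_C.2 ⟨ha, rfl⟩)).2 Iff.rfl

theorem nofix (hx : x ∈ 𝒩(U)) (ho : Odd (orderOf x)) (hY : x ∈ 𝒞(U ⊓ 𝒞(U))) (hn : x ∉ 𝒞(U)) (ha : a ∈ U)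
    (ha' : a ∉ U ⊓ 𝒞(U)) : x * a * x⁻¹ * a⁻¹ ∉ U ⊓ 𝒞(U) := fun h => by
  have : Fact (Nat.Prime 2) := ⟨Nat.prime_two⟩
  have pU : IsPGroup 2 U := IsPGroup.of_card (n := 4) hU
  have h1 : ⁅x, a⁆ = 1 := commutator_eq_one_of_coprime (k := 2) (Nat.coprime_two_right.2 ho) (comm_of_mem hY h).symm
    (congrArg Subtype.val (h4 ▸ pow_card_eq_one' (x := (⟨_, h⟩ : (U ⊓ 𝒞(U) : Subgroup G)))))
  have h8 := card8 hU h4 ha ha'
  have h2 : x ∈ 𝒩(C U a) := mem_normalizer_fintype fun g hg => mem_C.2 ⟨conj_mem hx hg.1,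
    (((commutatorElement_eq_one_iff_commute.1 h1).mul_left (mem_C.1 hg).2).mul_left
      (commutatorElement_eq_one_iff_commute.1 h1).inv_left).eq⟩
  exact hn (chain inf_le_left (by rw [h8, hU]) pU.to_inf_left ho hx
    (chain (Y_le ha) (by rw [h8, h4]) pU.to_inf_left ho h2 hY))

include hc

theorem com_sq (ha : a ∈ U) (hb : b ∈ U) : ⁅a, b⁆ * ⁅a, b⁆ = 1 := by
  calc _ = a * b * a⁻¹ * (b⁻¹ * ⁅a, b⁆) := by simp only [commutatorElement_def]; group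
    _ = a * (b * a⁻¹ * ⁅a, b⁆) * b⁻¹ := by rw [comm_of_mem (hc a ha b hb).2 (inv_mem hb)]; group
    _ = a * ⁅a, b⁆ * (b * a⁻¹) * b⁻¹ := by rw [comm_of_mem (hc a ha b hb).2 (mul_mem hb (inv_mem ha))]; group
    _ = a * a * b * (a * a)⁻¹ * b⁻¹ := by simp only [commutatorElement_def]; group
    _ = 1 := by rw [← comm_of_mem (sq hU h4 ha).2 hb]; group

theorem com_eq (ha : a ∈ U) (hb : b ∈ U) (hg : g ∈ U) (h1 : b * a ≠ a * b) (h2 : g * a ≠ a * g) : ⁅a, g⁆ = ⁅a, b⁆ := by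
  have h8 := card8 hU h4 ha fun e => h1 (comm_of_mem e.2 hb)
  have k := mem_C.1 ((two' (H := C U a) inf_le_left (by omega) hg hb fun e => h1 (mem_C.1 e).2).resolve_left
    fun e => h2 (mem_C.1 e).2)
  calc ⁅a, g⁆ = a * (g * b⁻¹) * (b * a⁻¹ * g⁻¹) := by simp only [commutatorElement_def]; group
    _ = g * b⁻¹ * ⁅a, b⁆ * (g * b⁻¹)⁻¹ := by rw [← k.2]; simp only [commutatorElement_def]; group
    _ = _ := by rw [comm_of_mem (hc a ha b hb).2 k.1, mul_inv_cancel_right]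

theorem com_symm (ha : a ∈ U) (hb : b ∈ U) : ⁅a, b⁆ = ⁅b, a⁆ := by
  rw [← commutatorElement_inv a b, inv_eq_of_mul_eq_one_right (com_sq hU hc h4 ha hb)]

theorem com_uq {a' b' : G} (ha : a ∈ U) (hb : b ∈ U) (ha' : a' ∈ U) (hb' : b' ∈ U) (h : b * a ≠ a * b)
    (h' : b' * a' ≠ a' * b') : ⁅a', b'⁆ = ⁅a, b⁆ := by
  by_cases h1 : a' * a = a * a'
  · have h2 : b' * a ≠ a * b' := fun h2 => h (cen hU ha' hb' h' (card8 hU h4 ha' fun e => h' (comm_of_mem e.2 hb'))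
      (Y_le ha') h4 (fun e => h' (comm_of_mem e.2 hb')) h1 h2 (fun k hk => (comm_of_mem hk.2 ha).symm) b hb)
    rw [com_symm hU hc h4 ha' hb', com_eq hU hc h4 hb' ha ha' h2.symm h'.symm, com_symm hU hc h4 hb' ha,
      com_eq hU hc h4 ha hb hb' h h2]
  · rw [com_eq hU hc h4 ha' ha hb' (Ne.symm h1) h', com_symm hU hc h4 ha' ha, com_eq hU hc h4 ha hb ha' h h1]

theorem cenY (hx : x ∈ 𝒩(U)) (ho : Odd (orderOf x)) (ha : a ∈ U) (hb : b ∈ U) (h : b * a ≠ a * b) :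
    x ∈ 𝒞(U ⊓ 𝒞(U)) := by
  have : Fact (Nat.Prime 2) := ⟨Nat.prime_two⟩
  have h2 : Nat.card (zpowers ⁅a, b⁆) = 2 := by
    rw [Nat.card_zpowers]
    exact orderOf_eq_prime (by rw [pow_two, com_sq hU hc h4 ha hb])
      fun e => h (commutatorElement_eq_one_iff_mul_comm.1 e).symm
  refine chain (zpowers_le.2 (hc a ha b hb)) (by omega) (IsPGroup.of_card (n := 1) h2) ho
    (le_norm_inf le_rfl (norm_le_norm_cent U) hx) ?_
  have e := com_uq hU hc h4 ha hb (conj_mem hx ha) (conj_mem hx hb) h fun e => h (by simpa using e)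
  rw [← conjugate_commutatorElement, mul_inv_eq_iff_eq_mul] at e
  rintro _ ⟨n, rfl⟩
  exact ((show Commute x ⁅a, b⁆ from e).zpow_right n).eq.symm

end U16qx

open U16qx

theorem u16q : U16q.{u} := by
  intro G _ _ U x hU hD hna hx ho hxC
  have hc : ∀ a ∈ U, ∀ b ∈ U, ⁅a, b⁆ ∈ U ⊓ 𝒞(U) := fun a ha b hb =>
    ⟨U.mul_mem (U.mul_mem (U.mul_mem ha hb) (U.inv_mem ha)) (U.inv_mem hb), hD (commutator_mem_commutator ha hb)⟩
  obtain ⟨b, hb, hb'⟩ := SetLike.not_le_iff_exists.1 hna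
  obtain ⟨a, ha, hab⟩ : ∃ a ∈ U, a * b ≠ b * a := by
    by_contra h
    push Not at h
    exact hb' h
  have h4 := cardY hU hc hb ha hab
  have xY := cenY hU hc h4 hx ho hb ha hab
  have nY : x ∈ 𝒩(U ⊓ 𝒞(U)) := cent_le_norm _ xY
  have fx : ∀ y ∈ U ⊓ 𝒞(U), x * y * x⁻¹ = y := fun y hy => by rw [← comm_of_mem xY hy, mul_inv_cancel_right]
  have p4 : ∀ y ∈ U ⊓ 𝒞(U), y * y * (y * y) = 1 := fun y hy => by
    have := congrArg Subtype.val (pow_card_eq_one' (x := (⟨y, hy⟩ : (U ⊓ 𝒞(U) : Subgroup G))))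
    rw [h4] at this
    rw [← pow_two, ← pow_two, ← pow_mul]
    exact this
  have bY : b ∉ U ⊓ 𝒞(U) := fun e => hb' e.2
  have m1 := conj_mem hx hb
  have m2 := conj_mem hx m1
  have n1 : x * b * x⁻¹ ∉ U ⊓ 𝒞(U) := mt (mem_normalizer_iff.1 nY b).2 bY
  have n2 : x * (x * b * x⁻¹) * x⁻¹ ∉ U ⊓ 𝒞(U) := mt (mem_normalizer_iff.1 nY _).2 n1
  have h8 := card8 hU h4 hb bY
  have nc : x * b * x⁻¹ * b ≠ b * (x * b * x⁻¹) := fun e =>
    (two' (Y_le hb) (by omega) (mem_C.2 ⟨m1, e⟩) (mem_C.2 ⟨hb, rfl⟩) bY).elim n1 (nofix hU h4 hx ho xY hxC hb bY)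
  have k2 : x * (x * b * x⁻¹) * x⁻¹ * (b * (x * b * x⁻¹))⁻¹ ∈ U ⊓ 𝒞(U) := by
    refine (((dec hU hb m1 nc h8 (Y_le hb) h4 bY m2).resolve_left n2).resolve_left fun e => ?_).resolve_left
      (nofix hU h4 hx ho xY hxC m1 n1)
    refine nofix hU h4 (pow_mem hx 2) (ho.of_dvd_nat (orderOf_pow_dvd 2)) (pow_mem xY 2)
      (fun k => hxC (mem_of_pow_mem_of_coprime (Nat.coprime_two_right.2 ho) k)) hb bY ?_
    rwa [show x ^ 2 * b * (x ^ 2)⁻¹ = x * (x * b * x⁻¹) * x⁻¹ by rw [pow_two]; group]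
  obtain ⟨b1, e1⟩ : ∃ b1, b1 = x * b * x⁻¹ := ⟨_, rfl⟩
  rw [← e1] at m1 m2 n1 n2 nc k2
  obtain ⟨b2, e2⟩ : ∃ b2, b2 = x * b1 * x⁻¹ := ⟨_, rfl⟩
  rw [← e2] at m2 n2 k2
  have cY : b * b1 * b2 ∈ U ⊓ 𝒞(U) := by
    rw [show b * b1 * b2 = b * b1 * (b2 * (b * b1)⁻¹) * (b * b1) by group, comm_of_mem k2.2 (mul_mem hb m1), mul_assoc]
    exact mul_mem k2 (sq hU h4 (mul_mem hb m1))
  obtain ⟨c, ec⟩ : ∃ c, c = b * b1 * b2 := ⟨_, rfl⟩
  rw [← ec] at cY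
  have mi := mul_mem hb cY.1
  have mj := mul_mem m1 cY.1
  have xi : x * (b * c) * x⁻¹ = b1 * c := by rw [← conj_mul, ← e1, fx c cY]
  have xj : x * (b1 * c) * x⁻¹ = (b * c * (b1 * c))⁻¹ := by
    rw [← conj_mul, ← e2, fx c cY, eq_inv_iff_mul_eq_one, ← p4 c cY]
    calc _ = b2 * (c * b) * (c * b1) * c := by group
      _ = b2 * b * (c * b1) * c * c := by rw [← comm_of_mem cY.2 hb, mul_assoc b2, mul_assoc b, mul_assoc _ (c * _),
          ← comm_of_mem cY.2 (mul_mem cY.1 m1)]; group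
      _ = b2 * (b * b1 * b2) * b2⁻¹ * c * c * c := by rw [← comm_of_mem cY.2 m1]; group
      _ = _ := by rw [← ec, comm_of_mem cY.2 m2]; group
  have ij : b1 * c * (b * c) ≠ b * c * (b1 * c) := fun e => nc (by
    rw [mul_assoc, mul_assoc, ← mul_assoc c, ← mul_assoc c, ← comm_of_mem cY.2 hb, ← comm_of_mem cY.2 m1] at e
    simpa only [← mul_assoc, mul_left_inj] using e)
  generalize b * c = i at mi xi xj ij
  generalize b1 * c = j at mj xi xj ij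
  have w := sq hU h4 mi
  have jj : j * j = i * i := by rw [← xi, conj_mul, fx _ w]
  have kk : (i * j * (i * j))⁻¹ = i * i := by rw [mul_inv_rev (i * j), ← xj, conj_mul, jj, fx _ w]
  have k3 : i * j * (i * j) = ⁅j, i⁆ * (i * i * (i * i)) := by
    calc _ = i * ⁅j, i⁆ * i * (j * j) := by simp only [commutatorElement_def]; group
      _ = _ := by rw [comm_of_mem (hc j mj i mi).2 mi, jj]; group
  have iY : i ∉ U ⊓ 𝒞(U) := fun e => ij (comm_of_mem e.2 mj)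
  have z : i * i = ⁅j, i⁆ := by
    rw [k3, inv_eq_iff_mul_eq_one, ← p4 _ w, mul_assoc, mul_assoc (i * i) (i * i) (i * i * (i * i)), mul_assoc (i * i),
      mul_left_inj] at kk
    exact kk.symm
  have w2 : i * i * (i * i) = 1 := by rw [z, com_sq hU hc h4 mj mi]
  exact ⟨_, i, j, rfl, h4, xY, mi, mj, fun e => ij (commutatorElement_eq_one_iff_mul_comm.1 (z ▸ e)),
    w2, w, jj, by rw [k3, w2, mul_one, z], xi, xj,
    fun v hv => dec hU mi mj ij (card8 hU h4 mi iY) (Y_le mi) h4 iY hv⟩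

end CL.DG9
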