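/-
Project DG9 (S3645): the quaternion subgroup contains all commutators with elements of odd order.
-/
import Cfsg.Agent.DG9.Defs

set_option autoImplicit false

namespace CL.DG9

open Cfsg Subgroup CL.Grp CL.Loc CL.Even CL.Char
open scoped commutatorElement

universe u

namespace U16ux

theorem perm3 {B : Type*} [Group B] {a b : B} (f g : MulAut B) (aa : a * a = 1) (bb : b * b = 1) (ab : b * a = a * b)
    (ga : g a = b) (gb : g b = a * b) (ne : a ≠ b) (fa : f a = a ∨ f a = b ∨ f a = a * b)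
    (fb : f b = a ∨ f b = b ∨ f b = a * b) :
    (f a = a ∧ f b = b) ∨ (g (f a) = a ∧ g (f b) = b) ∨ (g (g (f a)) = a ∧ g (g (f b)) = b) ∨
      (f (f a) = a ∧ f (f b) = b) := by
  have h1 : a * (a * b) = b := by rw [← mul_assoc, aa, one_mul]
  have h2 : a * b * b = a := by rw [mul_assoc, bb, mul_one]
  have h3 : g (a * b) = a := by rw [map_mul, ga, gb, ← mul_assoc, ab, h2]
  have h4 : f a ≠ f b := fun e => ne (f.injective e)
  rcases fa with fa | fa | fa <;> rcases fb with fb | fb | fb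
  · exact absurd (fa.trans fb.symm) h4
  · exact .inl ⟨fa, fb⟩
  · exact .inr (.inr (.inr ⟨by rw [fa, fa], by rw [fb, map_mul, fa, fb, h1]⟩))
  · exact .inr (.inr (.inr ⟨by rw [fa, fb], by rw [fb, fa]⟩))
  · exact absurd (fa.trans fb.symm) h4
  · exact .inr (.inr (.inl ⟨by rw [fa, gb, h3], by rw [fb, h3, ga]⟩))
  · exact .inr (.inl ⟨by rw [fa, h3], by rw [fb, ga]⟩)
  · exact .inr (.inr (.inr ⟨by rw [fa, map_mul, fa, fb, h2], by rw [fb, fb]⟩))
  · exact absurd (fa.trans fb.symm) h4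

variable {G : Type u} [Group G]

/-- the stabilizer of the chain `U > Y > 1` -/
def O (U Y : Subgroup G) : Subgroup G where
  carrier := {n | n ∈ 𝒩(U) ∧ n ∈ 𝒞(Y) ∧ ∀ u ∈ U, ⁅n, u⁆ ∈ Y}
  one_mem' := ⟨one_mem _, one_mem _, fun u _ => by rw [commutatorElement_one_left]; exact one_mem _⟩
  mul_mem' := by
    rintro n m ⟨h1, h2, h3⟩ ⟨k1, k2, k3⟩
    refine ⟨mul_mem h1 k1, mul_mem h2 k2, fun u hu => ?_⟩
    have : ⁅n * m, u⁆ = n * ⁅m, u⁆ * n⁻¹ * ⁅n, u⁆ := by simp only [commutatorElement_def]; group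
    rw [this, conj_eq_of_mem h2 (k3 u hu)]
    exact mul_mem (k3 u hu) (h3 u hu)
  inv_mem' := by
    rintro n ⟨h1, h2, h3⟩
    refine ⟨inv_mem h1, inv_mem h2, fun u hu => ?_⟩
    have : ⁅n⁻¹, u⁆ = n⁻¹ * ⁅n, u⁆⁻¹ * n⁻¹⁻¹ := by simp only [commutatorElement_def]; group
    rw [this, conj_eq_of_mem (inv_mem h2) (inv_mem (h3 u hu))]
    exact inv_mem (h3 u hu)

theorem conj_pow' {n u c : G} (h : n * u * n⁻¹ = c * u) (hc : n * c * n⁻¹ = c) (k : ℕ) :
    n ^ k * u * (n ^ k)⁻¹ = c ^ k * u := by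
  induction k with
  | zero => simp
  | succ k ih =>
    calc n ^ (k + 1) * u * (n ^ (k + 1))⁻¹ = n * (n ^ k * u * (n ^ k)⁻¹) * n⁻¹ := by rw [pow_succ']; group
      _ = (n * c * n⁻¹) ^ k * (n * u * n⁻¹) := by rw [ih, conj_pow]; group
      _ = _ := by rw [h, hc, pow_succ, mul_assoc]

variable [Finite G] {S U Y : Subgroup G} {x i j : G}

omit [Finite G] in
theorem normY (q : QD U Y x i j) : 𝒩(U) ≤ 𝒩(Y) := q.Y_eq ▸ le_norm_inf le_rfl (norm_le_norm_cent U)

theorem mem_norm {g : G} (hi : g * i * g⁻¹ ∈ closure ({i, j} : Set G)) (hj : g * j * g⁻¹ ∈ closure ({i, j} : Set G)) :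
    g ∈ 𝒩(closure ({i, j} : Set G)) :=
  mem_norm_of_cj_le (map_le_iff_le_comap.2 ((closure_le _).2 (by rintro _ (rfl | rfl) <;> assumption)))

omit [Finite G] in
theorem dec (q : QD U Y x i j) {u : G} (hu : u ∈ U) : ∃ y ∈ Y, ∃ a ∈ closure ({i, j} : Set G), y * a = u := by
  have hi : i ∈ closure ({i, j} : Set G) := subset_closure (.inl rfl)
  have hj : j ∈ closure ({i, j} : Set G) := subset_closure (.inr rfl)
  rcases q.dec u hu with h | h | h | h
  exacts [⟨u, h, 1, one_mem _, mul_one _⟩, ⟨_, h, i, hi, inv_mul_cancel_right _ _⟩,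
    ⟨_, h, j, hj, inv_mul_cancel_right _ _⟩, ⟨_, h, _, mul_mem hi hj, inv_mul_cancel_right _ _⟩]

omit [Finite G] in
theorem Q_le (q : QD U Y x i j) : closure ({i, j} : Set G) ≤ U :=
  (closure_le _).2 (by rintro _ (rfl | rfl); exacts [q.mi, q.mj])

theorem O_le (hS : IsSylowIn 2 S ⊤) (hN : S ≤ 𝒩(U)) (q : QD U Y x i j)
    (h : ∀ s ∈ S, (∀ u ∈ U, ⁅s, u⁆ ∈ Y) → s ∈ U) : O U Y ≤ 𝒩(closure ({i, j} : Set G)) := by
  intro n hn
  have hC : 𝒞(U) ≤ 𝒩(closure ({i, j} : Set G)) := (cent_mono (Q_le q)).trans (cent_le_norm _)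
  have hU : U ≤ 𝒩(closure ({i, j} : Set G)) := fun u hu => by
    obtain ⟨y, hy, a, ha, rfl⟩ := dec q hu
    exact mul_mem (hC (q.Y_eq ▸ hy).2) (le_normalizer ha)
  have h4 : n ^ 4 ∈ 𝒞(U) := mem_centralizer_iff.2 fun u hu => by
    have h1 := conj_pow' (n := n) (u := u) (c := ⁅n, u⁆) (by rw [commutatorElement_def, inv_mul_cancel_right])
      (conj_eq_of_mem hn.2.1 (hn.2.2 u hu)) 4
    have h2 : ⁅n, u⁆ ^ 4 = 1 := orderOf_dvd_iff_pow_eq_one.1 (q.cardY ▸ Y.orderOf_dvd_natCard (hn.2.2 u hu))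
    rw [h2, one_mul, mul_inv_eq_iff_eq_mul] at h1
    exact h1.symm
  obtain ⟨k, r, hr, e⟩ := Nat.exists_eq_two_pow_mul_odd (orderOf_pos n).ne'
  have hnr := pow_mem hn r
  obtain ⟨m, hm, h1⟩ := (hS.of_le hN le_top).exists_conj_le (isPGroup_zpowers (x := n ^ r) (k := k) (by
    rw [← pow_mul, mul_comm, ← e, pow_orderOf_eq_one])) (zpowers_le.2 hnr.1)
  have h2 := h _ (h1 (conj_mem_conj_smul m (mem_zpowers _))) fun u hu => by
    have : ⁅m * n ^ r * m⁻¹, u⁆ = m * ⁅n ^ r, m⁻¹ * u * m⁆ * m⁻¹ := by simp only [commutatorElement_def]; group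
    rw [this]
    exact conj_mem (normY q hm) (hnr.2.2 _ (conj_mem' hm hu))
  have h3 := hU ((mem_normalizer_iff.1 hm _).2 h2)
  obtain ⟨s, rfl⟩ := hr
  have h5 := mul_mem (pow_mem h3 (2 * s + 1)) (inv_mem (pow_mem (hC h4) (s * s + s)))
  rwa [← pow_mul, ← pow_mul, show (2 * s + 1) * (2 * s + 1) = 4 * (s * s + s) + 1 by ring, pow_succ',
    mul_inv_cancel_right] at h5

omit [Finite G] in
theorem odd_cent (q : QD U Y x i j) {m : G} (hm : m ∈ 𝒩(U)) (ho : Odd (orderOf m)) : m ∈ 𝒞(Y) := by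
  have := Fact.mk Nat.prime_two
  have oz : orderOf (i * i) = 2 := orderOf_eq_prime (by rw [pow_two, q.four]) q.ne
  have memZ : ∀ c ∈ zpowers (i * i), c = 1 ∨ c = i * i := by
    rintro _ ⟨k, rfl⟩
    have h2 : (i * i) ^ (2 : ℤ) = 1 := by rw [zpow_two, q.four]
    obtain ⟨t, rfl | rfl⟩ := Int.even_or_odd' k
    · left; simp only [zpow_mul, h2, one_zpow]
    · right; simp only [zpow_add, zpow_mul, h2, one_zpow, one_mul, zpow_one]
  have hi : ((zpowers (i * i)).subgroupOf Y).index = 2 := by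
    have := ((zpowers (i * i)).subgroupOf Y).card_mul_index
    rw [Nat.card_congr (subgroupOfEquivOfLe (zpowers_le.2 q.zY)).toEquiv, Nat.card_zpowers, oz, q.cardY] at this
    omega
  have hz : m * (i * i) * m⁻¹ = i * i := by
    have h0 : m * (i * i) * m⁻¹ = m * i * m⁻¹ * (m * i * m⁻¹) := by group
    have sq : ∀ y ∈ Y, ∀ a ∈ U, a * a ∈ zpowers (i * i) → y * a * (y * a) ∈ zpowers (i * i) := fun y hy a ha h => by
      rw [mul_assoc, ← mul_assoc a, comm_of_mem (q.Y_eq ▸ hy).2 ha, mul_assoc, ← mul_assoc]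
      exact mul_mem (mul_self_mem_of_index_two hi ⟨y, hy⟩) h
    refine (memZ _ ?_).resolve_left fun e => q.ne (by simpa using e)
    rw [h0]
    rcases q.dec _ (conj_mem hm q.mi) with h | h | h | h
    · exact mul_self_mem_of_index_two hi ⟨_, h⟩
    · simpa only [inv_mul_cancel_right] using sq _ h i q.mi (mem_zpowers _)
    · simpa only [inv_mul_cancel_right] using sq _ h j q.mj (q.jj ▸ mem_zpowers _)
    · simpa only [inv_mul_cancel_right] using sq _ h _ (mul_mem q.mi q.mj) (q.kk ▸ mem_zpowers _)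
  have fixZ : ∀ c ∈ zpowers (i * i), m * c * m⁻¹ = c := fun c hc => by
    rcases memZ c hc with rfl | rfl
    exacts [by simp, hz]
  refine mem_of_pow_mem_of_coprime (n := 2) (Nat.coprime_two_right.2 ho) (mem_centralizer_iff.2 fun w hw => ?_)
  have h1 : ⁅m, w⁆ ∈ zpowers (i * i) := by
    by_cases h : w ∈ zpowers (i * i)
    · rw [commutatorElement_def, fixZ w h, mul_inv_cancel]; exact one_mem _
    · refine (mul_mem_iff_of_index_two hi (a := ⟨_, conj_mem (normY q hm) hw⟩) (b := ⟨w⁻¹, inv_mem hw⟩)).2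
        (iff_of_false (fun k => h ?_) fun k => h (inv_mem_iff.1 k))
      have k' : m * w * m⁻¹ ∈ zpowers (i * i) := k
      rwa [show m * w * m⁻¹ = w from (MulAut.conj m).injective (fixZ _ k')] at k'
  have h2 := conj_pow' (n := m) (u := w) (c := ⁅m, w⁆) (by rw [commutatorElement_def, inv_mul_cancel_right])
    (fixZ _ h1) 2
  have h3 : ⁅m, w⁆ ^ 2 = 1 := orderOf_dvd_iff_pow_eq_one.1 (by
    rw [← oz, ← Nat.card_zpowers (i * i)]; exact (zpowers (i * i)).orderOf_dvd_natCard h1)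
  rw [h3, one_mul, mul_inv_eq_iff_eq_mul] at h2
  exact h2.symm

end U16ux

open U16ux in
theorem u16u : U16u.{u} := by
  intro G _ _ S U Y x i j hS _ hN _ hx q h m hm ho u hu
  have hO := O_le hS hN q h
  have hi : i ∈ closure ({i, j} : Set G) := subset_closure (.inl rfl)
  have hj : j ∈ closure ({i, j} : Set G) := subset_closure (.inr rfl)
  have hxQ : x ∈ 𝒩(closure ({i, j} : Set G)) := mem_norm (q.xi ▸ hj) (q.xj ▸ inv_mem (mul_mem hi hj))
  have hmY := odd_cent q hm ho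
  have nc : i * j ≠ j * i := fun e => q.ne (by
    have := q.kk
    rw [mul_assoc, ← mul_assoc j, ← e, mul_assoc, q.jj, ← mul_assoc, q.four] at this
    exact this.symm)
  have hn : (Y.subgroupOf 𝒩(U)).Normal := (normal_subgroupOf_iff_le_normalizer (q.Y_eq ▸ inf_le_left.trans
    le_normalizer)).2 (normY q)
  have hk : ∀ g k : 𝒩(U), QuotientGroup.mk' (Y.subgroupOf 𝒩(U)) g = QuotientGroup.mk' (Y.subgroupOf 𝒩(U)) k ↔
      (g : G) * (k : G)⁻¹ ∈ Y := fun g k => by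
    rw [← mul_inv_eq_one, ← map_inv, ← map_mul]
    exact QuotientGroup.eq_one_iff _
  generalize QuotientGroup.mk' (Y.subgroupOf 𝒩(U)) = π at hk
  obtain ⟨i, rfl⟩ : ∃ i' : 𝒩(U), (i' : G) = i := ⟨⟨i, le_normalizer q.mi⟩, rfl⟩
  obtain ⟨j, rfl⟩ : ∃ j' : 𝒩(U), (j' : G) = j := ⟨⟨j, le_normalizer q.mj⟩, rfl⟩
  obtain ⟨x, rfl⟩ : ∃ x' : 𝒩(U), (x' : G) = x := ⟨⟨x, hx⟩, rfl⟩
  obtain ⟨m, rfl⟩ : ∃ m' : 𝒩(U), (m' : G) = m := ⟨⟨m, hm⟩, rfl⟩
  have h1 : ∀ g : 𝒩(U), (g : G) ∈ Y → π g = 1 := fun g hg => by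
    rw [← map_one π, hk]; simpa using hg
  have aa : π i * π i = 1 := by rw [← map_mul]; exact h1 _ q.zY
  have bb : π j * π j = 1 := by rw [← map_mul]; exact h1 _ (q.jj ▸ q.zY : (j : G) * j ∈ Y)
  have cc : π i * π j * (π i * π j) = 1 := by
    rw [← map_mul, ← map_mul]; exact h1 _ (q.kk ▸ q.zY : (i : G) * j * (i * j) ∈ Y)
  have ab : π j * π i = π i * π j := by
    have := inv_eq_of_mul_eq_one_right cc
    rwa [mul_inv_rev, inv_eq_of_mul_eq_one_right aa, inv_eq_of_mul_eq_one_right bb] at this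
  have cj' : ∀ g k : 𝒩(U), MulAut.conj (π g) (π k) = π (g * k * g⁻¹) := fun g k => by simp
  have tri : ∀ k : 𝒩(U), (k : G) ∈ U → (k : G) ∉ Y → MulAut.conj (π m) (π k) = π i ∨
      MulAut.conj (π m) (π k) = π j ∨ MulAut.conj (π m) (π k) = π i * π j := fun k hk1 hk2 => by
    rw [cj', ← map_mul, hk, hk, hk]
    exact (q.dec _ (conj_mem hm hk1)).resolve_left fun e => hk2 ((mem_normalizer_iff.1 (normY q hm) _).2 e)
  have mk : ∀ n : 𝒩(U), (n : G) ∈ 𝒞(Y) → MulAut.conj (π n) (π i) = π i → MulAut.conj (π n) (π j) = π j →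
      (n : G) ∈ 𝒩(closure ({(i : G), (j : G)} : Set G)) := fun n hY e1 e2 => hO ⟨n.2, hY, fun v hv => by
    obtain ⟨v, rfl⟩ : ∃ v' : 𝒩(U), (v' : G) = v := ⟨⟨v, le_normalizer hv⟩, rfl⟩
    refine (hk (n * v * n⁻¹) v).1 ?_
    rw [← cj']
    rcases q.dec _ hv with e | e | e | e
    · rw [h1 v e, map_one]
    · rw [(hk v i).2 e, e1]
    · rw [(hk v j).2 e, e2]
    · rw [(hk v (i * j)).2 e, map_mul, map_mul, e1, e2]⟩
  have hmQ : (m : G) ∈ 𝒩(closure ({(i : G), (j : G)} : Set G)) := by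
    rcases perm3 (MulAut.conj (π m)) (MulAut.conj (π x)) aa bb ab
      (by rw [cj']; exact congrArg π (Subtype.ext q.xi))
      (by rw [cj', show x * j * x⁻¹ = (i * j)⁻¹ from Subtype.ext q.xj, map_inv, map_mul,
        inv_eq_of_mul_eq_one_right cc])
      (fun e => nc (by
        have := comm_of_mem (q.Y_eq ▸ (hk i j).1 e).2 q.mj
        rw [inv_mul_cancel_right, ← mul_assoc, mul_inv_eq_iff_eq_mul] at this
        exact this.symm))
      (tri i q.mi fun e => nc (comm_of_mem (q.Y_eq ▸ e).2 q.mj).symm)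
      (tri j q.mj fun e => nc (comm_of_mem (q.Y_eq ▸ e).2 q.mi)) with e | e | e | e
    · exact mk m hmY e.1 e.2
    · exact (mul_mem_cancel_left hxQ).1 (mk (x * m) (mul_mem q.cY hmY) (by rw [map_mul, map_mul]; exact e.1)
        (by rw [map_mul, map_mul]; exact e.2))
    · exact (mul_mem_cancel_left hxQ).1 ((mul_mem_cancel_left hxQ).1 (mk (x * (x * m))
        (mul_mem q.cY (mul_mem q.cY hmY)) (by rw [map_mul, map_mul, map_mul, map_mul]; exact e.1)
        (by rw [map_mul, map_mul, map_mul, map_mul]; exact e.2)))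
    · refine mem_of_pow_mem_of_coprime (n := 2) (Nat.coprime_two_right.2 ho) ?_
      rw [pow_two]
      exact mk (m * m) (mul_mem hmY hmY) (by rw [map_mul, map_mul]; exact e.1) (by rw [map_mul, map_mul]; exact e.2)
  obtain ⟨y, hy, a, ha, rfl⟩ := dec q hu
  have h2 := mul_mem (conj_mem hmQ ha) (inv_mem ha)
  have : ⁅(m : G), y * a⁆ = (m * y * m⁻¹) * (m * a * (m : G)⁻¹ * a⁻¹) * y⁻¹ := by
    simp only [commutatorElement_def, Subgroup.coe_inv]; group
  rwa [this, Subgroup.coe_inv, conj_eq_of_mem hmY hy, conj_eq_of_mem (q.Y_eq ▸ hy).2 (Q_le q h2)]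

end CL.DG9
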