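/-
Project DG9: the contribution of an extremal `E₈` that is not normal in the Sylow subgroup.
-/
import Cfsg.Agent.DG9.Defs

set_option autoImplicit false

namespace CL.DG9

open Cfsg Subgroup CL.Grp CL.Loc CL.Even CL.Char
open scoped commutatorElement

universe u

namespace U8x

variable {G : Type u} [Group G] [Finite G]

/-- a subgroup of index two -/
theorem two {X T : Subgroup G} (h : X ≤ T) (c : Nat.card T = Nat.card X * 2) {a b : G} (ha : a ∈ T) (hb : b ∈ T)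
    (a1 : a ∉ X) (b1 : b ∉ X) : a * b ∈ X :=
  (mul_mem_iff_of_index_two (H := X.subgroupOf T) (Nat.eq_of_mul_eq_mul_left Nat.card_pos
    ((card_mul_relIndex h).trans c)) (a := ⟨a, ha⟩) (b := ⟨b, hb⟩)).2 (iff_of_false a1 b1)

omit [Finite G] in
theorem cmem {S : Subgroup G} {a b : G} (ha : a ∈ S) (hb : b ∈ S) : ⁅a, b⁆ ∈ S :=
  mul_mem (mul_mem (mul_mem ha hb) (inv_mem ha)) (inv_mem hb)

omit [Finite G] in
theorem cj_eq' (a b : G) : a * b * a⁻¹ = ⁅a, b⁆ * b := by rw [commutatorElement_def, inv_mul_cancel_right]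

end U8x

open U8x

theorem u8 (h : U8v.{u}) : U8.{u} := by
  intro G _ _ S A U c ⟨⟨US, sy⟩, ex⟩ act e8 nn
  have ea := e8.1
  have cU := e8.2
  have sq : ∀ u ∈ U, u * u = 1 := fun u hu => by rw [← pow_two]; exact ea_pow ea hu
  have zU : ∀ a ∈ A, ∀ s ∈ S, ⁅a, s⁆ ∈ U := fun a ha s hs =>
    ex ⟨cmem (c.le ha) hs, cent_mono US ((c.memA a (c.le ha)).1 ha s hs)⟩
  have AT : A ≤ S ⊓ 𝒩(U) := le_inf c.le fun a ha => mem_normalizer_fintype fun u hu => by
    rw [cj_eq']; exact mul_mem (zU a ha u (US hu)) hu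
  have UT : U ≤ S ⊓ 𝒩(U) := le_inf US le_normalizer
  have nT : ∀ s ∈ S, ∀ y ∈ S ⊓ 𝒩(U), s * y * s⁻¹ ∈ S ⊓ 𝒩(U) := fun s hs y hy => by
    rw [cj_eq']; exact mul_mem (AT (c.DA (commutator_mem_commutator hs hy.1))) hy
  have nA : ∀ s ∈ S, ∀ y ∈ A, s * y * s⁻¹ ∈ A := fun s hs y hy => by
    rw [cj_eq']; exact mul_mem (c.DA (commutator_mem_commutator hs (c.le hy))) hy
  obtain ⟨t, tA, tU⟩ : ∃ t ∈ A, t ∉ U := SetLike.not_le_iff_exists.1 fun k => nn fun s hs => by
    rw [← eq_of_le_of_card_ge k (by rw [cU, c.cardA])]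
    exact mem_normalizer_fintype (nA s hs)
  obtain ⟨s, sS, sN⟩ := SetLike.not_le_iff_exists.1 nn
  have cT : Nat.card (S ⊓ 𝒩(U) : Subgroup G) = 16 := by
    have k1 := card_dvd_of_le UT
    have k2 := card_dvd_of_le (inf_le_left : S ⊓ 𝒩(U) ≤ S)
    have k3 : ¬ Nat.card (S ⊓ 𝒩(U) : Subgroup G) ≤ Nat.card U := fun k => tU (eq_of_le_of_card_ge UT k ▸ AT tA)
    have k4 : ¬ Nat.card S ≤ Nat.card (S ⊓ 𝒩(U) : Subgroup G) := fun k =>
      sN ((eq_of_le_of_card_ge inf_le_left k).ge sS).2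
    rw [cU] at k1 k3
    rw [c.card] at k2 k4
    have : Nat.card (S ⊓ 𝒩(U) : Subgroup G) ≠ 24 := fun e => by rw [e] at k2; omega
    omega
  have iU := @two _ _ _ _ _ UT (by rw [cT, cU])
  have tT := AT tA
  obtain ⟨V, VU, cV, tV, tV', v1, v2⟩ := h G U t e8 act tT.2 (fun k => tU (ex ⟨tT.1, k⟩))
    (ea_le_centralizer ea (iU tT tT tU tU)) fun ⟨k, hk⟩ => by
      have k1 := card_mul_relIndex (cent_le_norm U)
      have k2 := card_mul_relIndex sy.le
      obtain ⟨m, hm⟩ := card_dvd_of_le (ea_le_centralizer ea)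
      rw [hk, hm, cU, ← k2, cT] at k1
      exact sy.not_dvd ⟨m * k, by linarith⟩
  obtain ⟨g, gV, gt⟩ : ∃ g ∈ V, g * t ≠ t * g := by
    by_contra k
    simp only [not_exists, not_and, not_not] at k
    exact tV' k
  have gU := VU gV
  have zV : ⁅t, g⁆ ∈ V := mul_mem (conj_mem tV gV) (inv_mem gV)
  have zD : zpowers ⁅t, g⁆ ≤ ⁅S, S⁆ := zpowers_le.2 (commutator_mem_commutator tT.1 (US gU))
  have zC : zpowers ⁅t, g⁆ ≤ 𝒞(S) := zpowers_le.2 ((c.memA t tT.1).1 tA g (US gU))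
  have cz : Nat.card (zpowers ⁅t, g⁆) = 2 := by
    rw [Nat.card_zpowers]
    exact ea_orderOf ea (VU zV) fun e => gt (commutatorElement_eq_one_iff_mul_comm.1 e).symm
  -- an element that commutes with `U` and with an element of `T - U` commutes with `T`
  have cm : ∀ {x y : G}, (∀ u ∈ U, Commute x u) → y ∈ S ⊓ 𝒩(U) → y ∉ U → Commute x y → ∀ a ∈ S ⊓ 𝒩(U), Commute x a :=
    fun {x y} k y1 y2 y3 a ha => by
      by_cases m : a ∈ U
      · exact k a m
      · rw [← mul_inv_cancel_right a y]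
        exact (k _ (iU ha y1 m y2)).mul_right y3.inv_right
  have g1 := nT s sS g (UT gU)
  have g2 : s * g * s⁻¹ ∉ U := fun k => by
    obtain ⟨u, hu, m⟩ : ∃ u ∈ U, s * u * s⁻¹ ∉ U := by
      by_contra j
      simp only [not_exists, not_and, not_not] at j
      exact sN (mem_normalizer_fintype j)
    have := cm (fun u hu => ea_commute ea k hu) (nT s sS u (UT hu)) m ((ea_commute ea gU hu).map (MulAut.conj s)) _
      (nT s sS t tT)
    exact gt (by simpa [mul_assoc] using (this.map (MulAut.conj s⁻¹)).eq)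
  have g3 : ¬ Commute g (s * g * s⁻¹) := fun k => gt (cm (fun u hu => ea_commute ea gU hu) g1 g2 k t tT)
  have out : g ∉ 𝒞(⁅S, S⁆) := fun k => g3 (by
    rw [cj_eq']
    exact Commute.mul_right (k _ (commutator_mem_commutator sS (US gU))).symm (Commute.refl g))
  have TA : S ⊓ 𝒩(U) ≤ A ⊔ zpowers g := fun y hy => by
    by_cases m : y ∈ A
    · exact mem_sup_left m
    · exact (mul_mem_cancel_right (mem_sup_right (mem_zpowers g))).1
        (mem_sup_left (two AT (by rw [cT, c.cardA]) hy (UT gU) m fun k => out (c.AD k)))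
  refine ⟨g, gU, out, sq g gU ▸ one_mem _, v2 g gV, fun x hx ox u hu => ?_, .inr ⟨e8, UT.trans TA, fun E hE eE => ?_⟩⟩
  · by_cases m : ⁅x, u⁆ ∈ zpowers ⁅t, g⁆
    · exact .inl (zD m)
    · exact .inr (zD (two (zpowers_le.2 zV) (by rw [cV, cz]) (v1 x hx ox u hu) gV m fun k => gt (zC k t tT.1).symm))
  replace hE := hE.trans (sup_le AT (zpowers_le.2 (UT gU)))
  by_cases m : E ≤ U
  · exact ⟨1, one_mem _, by rw [cj_one]; exact eq_of_le_of_card_ge m (by rw [cU, eE.2])⟩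
  have cU' : Nat.card (cj s U) = 8 := by rw [card_cj, cU]
  have g4 := conj_mem_cj s gU
  have U'T : cj s U ≤ S ⊓ 𝒩(U) := by rintro _ ⟨u, hu, rfl⟩; exact nT s sS u (UT hu)
  have ea' := ea_map ea (MulAut.conj s).toMonoidHom
  have gg : s * g * s⁻¹ * (s * g * s⁻¹) = 1 := by rw [conj_mul, sq g gU, mul_one, mul_inv_cancel]
  have k : ∀ y ∈ E, y ∉ U → y ∈ cj s U := fun y hy n => by
    have u1 := iU g1 (hE hy) g2 n
    have y2 : y * y = 1 := by rw [← pow_two]; exact ea_pow eE.1 hy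
    have u2 : Commute (s * g * s⁻¹ * y) (s * g * s⁻¹) := by
      refine Commute.mul_left (Commute.refl _) ?_
      rw [commute_iff_eq, ← inv_eq_of_mul_eq_one_left (sq _ u1), mul_inv_rev, inv_eq_of_mul_eq_one_left y2,
        inv_eq_of_mul_eq_one_left gg]
    refine (mul_mem_cancel_left g4).1 (by_contra fun j => g3 ?_)
    have := ea_commute ea' (two U'T (by rw [cT, cU']) (UT u1) (UT gU) j fun i => g3 (ea_commute ea' i g4)) g4
    have := u2.inv_left.mul_left this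
    rwa [inv_mul_cancel_left] at this
  obtain ⟨e, e1, e2⟩ := SetLike.not_le_iff_exists.1 m
  refine ⟨s, sS, eq_of_le_of_card_ge (fun y hy => ?_) (by rw [cU', eE.2])⟩
  by_cases n : y ∈ U
  · exact (mul_mem_cancel_right (k e e1 e2)).1 (k _ (mul_mem hy e1) fun j => e2 ((mul_mem_cancel_left n).1 j))
  · exact k y hy n

end CL.DG9
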