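/-
Project DG9 (S3645): an elementary abelian extremal subgroup of order 8 with an odd automorphism is not normal in `S`.
-/
import Cfsg.Agent.DG9.Defs

set_option autoImplicit false

namespace CL.DG9

open Cfsg Subgroup CL.Grp CL.Loc CL.Even CL.Char
open scoped commutatorElement

universe u

namespace U8ax

variable {X : Type*} [Group X] [Finite X]

theorem oddp (g : X) : ∃ k, Odd (orderOf (g ^ 2 ^ k)) := by
  obtain ⟨k, m, hm, e⟩ := Nat.exists_eq_two_pow_mul_odd (orderOf_pos g).ne'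
  exact ⟨k, hm.of_dvd_nat (orderOf_dvd_of_pow_eq_one (by rw [← pow_mul, ← e, pow_orderOf_eq_one]))⟩

omit [Finite X] in
theorem lift {N : Type*} [Group N] [Finite N] {f : N →* X} (hf : Function.Surjective f) {x : X} (hx : Odd (orderOf x)) :
    ∃ y, f y = x ∧ Odd (orderOf y) := by
  obtain ⟨g, rfl⟩ := hf x
  obtain ⟨k, hk⟩ := oddp g
  obtain ⟨m, hm⟩ := exists_pow_eq_self_of_coprime (Nat.Coprime.pow_left k (Nat.coprime_two_left.2 hx))
  exact ⟨(g ^ 2 ^ k) ^ m, by rw [map_pow, map_pow, hm], hk.of_dvd_nat (orderOf_pow_dvd m)⟩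

theorem core (T : Sylow 2 X) (hT : Nat.card T = 4) (hX : Nat.card X ∣ 168) (hN : 𝒩((T : Subgroup X)) ≤ T)
    (h : ∀ t ∈ (T : Subgroup X), t ≠ 1 → t * t = 1 → ∀ x, Odd (orderOf x) →
      (⁅t, x⁆ = 1 → x = 1) ∧ (t * x * t⁻¹ * x = 1 → x ^ 3 = 1)) {x : X} (hx : Odd (orderOf x)) : x = 1 := by
  have := Fact.mk Nat.prime_three
  have hc : IsMulCommutative T := IsPGroup.isMulCommutative_of_card_eq_prime_sq (p := 2) hT
  have hP := hN.trans (le_centralizer (T : Subgroup X))
  have c := MonoidHom.ker_transferSylow_isComplement' T hP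
  have o := MonoidHom.not_dvd_card_ker_transferSylow T hP
  have hn : (MonoidHom.transferSylow T hP).ker.Normal := inferInstance
  generalize (MonoidHom.transferSylow T hP).ker = K at c o hn
  have od : ∀ y ∈ K, Odd (orderOf y) := fun y hy =>
    (Nat.not_even_iff_odd.1 (mt even_iff_two_dvd.1 o)).of_dvd_nat (orderOf_dvd_natCard K hy)
  have xK : x ∈ K := by
    obtain ⟨m, hm⟩ := exists_pow_eq_self_of_coprime (Nat.Coprime.pow_left 2 (Nat.coprime_two_left.2 hx))
    have := K.pow_index_mem x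
    rw [c.symm.index_eq_card, hT] at this
    exact hm ▸ pow_mem this m
  have fp : ∀ t ∈ (T : Subgroup X), t ≠ 1 → t * t = 1 → MonoidHom.FixedPointFree (MulAut.conjNormal t : MulAut K) :=
    fun t ht t1 t2 y e => Subtype.ext ((h t ht t1 t2 y (od y y.2)).1 (by
      rw [commutatorElement_def, show t * y * t⁻¹ = y from congrArg Subtype.val e, mul_inv_cancel]))
  obtain ⟨⟨t, ht⟩, ho⟩ := exists_prime_orderOf_dvd_card' (G := T) 2 (by rw [hT]; norm_num)
  rw [orderOf_mk, orderOf_eq_prime_iff, sq] at ho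
  have iv := (fp t ht ho.2 ho.1).coe_eq_inv_of_involutive fun y => by
    rw [← MulAut.mul_apply, ← map_mul, ho.1, map_one, MulAut.one_apply]
  obtain ⟨k, hk⟩ := IsPGroup.exists_card_eq (p := 3) (G := K) fun y => ⟨1, Subtype.ext
    ((h t ht ho.2 ho.1 y (od y y.2)).2 (mul_eq_one_iff_eq_inv.2 (congrArg Subtype.val (congrFun iv y))))⟩
  rw [← c.card_mul_card, hT, hk] at hX
  by_contra x1
  match k, hk, hX with
  | 0, hk, _ => exact x1 (by simpa [card_eq_one.1 hk] using xK)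
  | k + 2, _, hX => exact absurd ((Dvd.intro_left (3 ^ k * 4) (by ring) : 9 ∣ _).trans hX) (by norm_num)
  | 1, hk, _ =>
    have := isCyclic_of_prime_card (p := 3) hk
    have ni : ¬ Function.Injective ((MulAut.conjNormal : X →* MulAut K).comp (T : Subgroup X).subtype) := fun i => by
      have := card_dvd_of_injective _ i
      rw [IsCyclic.card_mulAut, hk, hT] at this
      exact absurd this (by decide)
    simp only [injective_iff_map_eq_one, not_forall, exists_prop] at ni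
    obtain ⟨⟨s, hs⟩, e, s1⟩ := ni
    have e : (MulAut.conjNormal s : MulAut K) = 1 := e
    have s4 : s * s * (s * s) = 1 := by
      have := congrArg Subtype.val (pow_card_eq_one' (x := (⟨s, hs⟩ : (T : Subgroup X))))
      rw [hT] at this
      rw [← sq, ← sq, ← pow_mul]; exact this
    by_cases s2 : s * s = 1
    · exact x1 (congrArg Subtype.val (fp s hs (fun k => s1 (Subtype.ext k)) s2 ⟨x, xK⟩ (by rw [e]; rfl)))
    · exact x1 (congrArg Subtype.val (fp _ (mul_mem hs hs) s2 s4 ⟨x, xK⟩ (by rw [map_mul, e]; rfl)))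

end U8ax

open U8ax in
theorem u8a (h1 : LE8.{u}) (h2 : OUT.{u}) : U8a.{u} := by
  intro G _ _ S A U c e ⟨x, xN, xo, xC⟩ hU hS
  have hn : (𝒞(U).subgroupOf 𝒩(U)).Normal := U.normalizerMonoidHom_ker ▸ inferInstance
  let f := QuotientGroup.mk' (𝒞(U).subgroupOf 𝒩(U))
  have hf : Function.Surjective f := QuotientGroup.mk'_surjective _
  have f1 : ∀ {y : 𝒩(U)}, f y = 1 ↔ (y : G) ∈ 𝒞(U) := QuotientGroup.eq_one_iff _
  let P := (c.syl.of_le hS le_top).toSylow
  have US := e.1.1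
  have hT : Nat.card (P.mapSurjective hf) = 4 := by
    have := hU.1.1
    have k := card_mul_relIndex US
    rw [hU.2, c.card, ← le_antisymm e.2 (le_inf US (le_centralizer U)), inf_relIndex_left,
      ← relIndex_subgroupOf hS, ← QuotientGroup.ker_mk' (𝒞(U).subgroupOf 𝒩(U)), relIndex_ker] at k
    exact Nat.eq_of_mul_eq_mul_left (by norm_num : 0 < 8) k
  have key : ∀ t ∈ (P.mapSurjective hf).1, t ≠ 1 → t * t = 1 → ∀ y, Odd (orderOf y) →
      ((⁅t, y⁆ = 1 → y = 1) ∧ (t * y * t⁻¹ * y = 1 → y ^ 3 = 1)) ∧ (𝒞(U)).relIndex 𝒩(U) ∣ 168 := by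
    rintro _ ⟨t, -, rfl⟩ t1 t2 y hy
    obtain ⟨y, rfl, ho⟩ := lift hf hy
    obtain ⟨a, b, d⟩ := h1 G U t y hU t.2 (mt f1.2 t1) (f1.1 ((map_mul f t t).trans t2)) y.2 (by rwa [orderOf_coe])
    exact ⟨⟨fun k => f1.2 (a (f1.1 ((map_commutatorElement f t y).trans k))), fun k => (map_pow f y 3).symm.trans
      (f1.2 (b (f1 (y := t * y * t⁻¹ * y).1 (by simpa only [map_mul, map_inv] using k))))⟩, d⟩
  obtain ⟨⟨t, ht⟩, ho⟩ := exists_prime_orderOf_dvd_card' (G := P.mapSurjective hf) 2 (by rw [hT]; norm_num)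
  rw [orderOf_mk, orderOf_eq_prime_iff, sq] at ho
  refine xC (f1 (y := ⟨x, xN⟩).1 (core _ hT (key t ht ho.2 ho.1 1 (by simp)).2 (fun y hy => ?_)
    (fun t a b d y hy => (key t a b d y hy).1) (xo.of_dvd_nat ((orderOf_map_dvd f _).trans (orderOf_mk _ _).dvd))))
  obtain ⟨y, rfl⟩ := hf y
  obtain ⟨n, hn, w⟩ := ((isSylowIn_top P).of_le (K := (P.mapSurjective hf).1.comap f) (le_comap_map _ _)
    le_top).frattini (le_normalizer_comap f) (h := y) hy
  have wS : ((n * y : 𝒩(U)) : G) ∈ 𝒩(S) := mem_normalizer_fintype fun s hs => conj_mem w (x := ⟨s, hS hs⟩) hs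
  obtain ⟨k, hk⟩ := oddp ((n * y : 𝒩(U)) : G)
  have w1 : f (n * y) ^ 2 ^ k = 1 :=
    (map_pow f _ _).symm.trans (f1.2 (cent_mono US (h2 G S A c _ (pow_mem wS _) hk)))
  have wN : f (n * y) ∈ 𝒩((P.mapSurjective hf).1) := map_mul f n y ▸ mul_mem (le_normalizer hn) hy
  have pz : IsPGroup 2 (zpowers (f (n * y))) := by
    rintro ⟨_, j, rfl⟩
    exact ⟨k, Subtype.ext (by
      rw [coe_pow, ← zpow_natCast, ← zpow_mul, mul_comm, zpow_mul, zpow_natCast, w1, one_zpow]; rfl)⟩
  have := ((P.mapSurjective hf).isPGroup'.to_sup_of_normal_left' pz (zpowers_le_of_mem wN))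
  have := (P.mapSurjective hf).3 this le_sup_left ▸ mem_sup_right (mem_zpowers (f (n * y)))
  rwa [map_mul, mul_mem_cancel_left (mem_comap.1 hn)] at this

end CL.DG9
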