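/-
Project DG9 (S3645; helper90, job of helper82): the automizer of order six of an elementary abelian group of order eight.
-/
import Cfsg.Agent.DG9.Defs

set_option autoImplicit false

namespace CL.DG9

open Cfsg Subgroup CL.Grp CL.Loc CL.Even CL.Char
open scoped commutatorElement

universe u

namespace U8vx

theorem memp {X : Type*} [Group X] [Finite X] {p : ℕ} (hp : p.Prime) (hX : Nat.card X < p * p) {g y : X}
    (hg : orderOf g = p) (hy : orderOf y = p) : y ∈ zpowers g := by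
  have h1 := (zpowers g).index_mul_card
  rw [Nat.card_zpowers, hg] at h1
  have h2 : (zpowers g).relIndex (zpowers y) ≤ (zpowers g).index := by
    rw [← relIndex_top_right]
    exact relIndex_le_of_le_right le_top (by rw [relIndex_top_right]; exact index_ne_zero_of_finite)
  have h3 := relIndex_dvd_card (zpowers g) (zpowers y)
  rw [Nat.card_zpowers, hy] at h3
  have h4 : (zpowers g).index < p := Nat.lt_of_mul_lt_mul_right (h1 ▸ hX)
  rcases (Nat.dvd_prime hp).1 h3 with h | h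
  · exact relIndex_eq_one.1 h (mem_zpowers y)
  · omega

theorem abs {X : Type*} [Group X] [Finite X] (hX : Nat.card X ∣ 42) {τ : X} (hτ : τ * τ = 1)
    (hc : ∀ x : X, Odd (orderOf x) → (Commute τ x → x = 1) ∧ (τ * x * τ⁻¹ * x = 1 → x ^ 3 = 1))
    {ρ : X} (hρ : Odd (orderOf ρ)) (h1 : ρ ≠ 1) :
    ρ ^ 3 = 1 ∧ τ * ρ * τ⁻¹ * ρ = 1 ∧ ∀ x : X, Odd (orderOf x) → x ∈ zpowers ρ := by
  have oc : ∀ g : X, orderOf (τ * g * τ⁻¹) = orderOf g := fun g => (MulAut.conj τ).orderOf_eq g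
  have inv : ∀ g : X, Odd (orderOf g) → τ * g * τ⁻¹ ∈ zpowers g → τ * g * τ⁻¹ * g = 1 := fun g hg hm => by
    refine (hc _ (hg.of_dvd_nat (orderOf_dvd_of_mem_zpowers (mul_mem hm (mem_zpowers g))))).1 ?_
    obtain ⟨k, hk⟩ := mem_zpowers_iff.1 hm
    have c : Commute (τ * g * τ⁻¹) g := hk ▸ Commute.zpow_self g k
    have e : τ * (τ * g * τ⁻¹ * g) * τ⁻¹ = τ * g * τ⁻¹ * g := by
      calc _ = τ * τ * g * (τ * τ)⁻¹ * (τ * g * τ⁻¹) := by group
        _ = _ := by rw [hτ, one_mul, inv_one, mul_one, c.eq]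
    exact mul_inv_eq_iff_eq_mul.1 e
  have h7 : ¬ 7 ∣ Nat.card X := fun h => by
    have : Fact (Nat.Prime 7) := ⟨by norm_num⟩
    obtain ⟨g, hg⟩ := exists_prime_orderOf_dvd_card' 7 h
    have ho : Odd (orderOf g) := by rw [hg]; decide
    have := orderOf_dvd_of_pow_eq_one ((hc g ho).2 (inv g ho (memp (p := 7) (by norm_num)
      (lt_of_le_of_lt (Nat.le_of_dvd (by norm_num) hX) (by norm_num)) hg ((oc g).trans hg))))
    rw [hg] at this
    norm_num at this
  have h6 : Nat.card X ∣ 6 :=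
    ((Nat.Prime.coprime_iff_not_dvd (by norm_num)).2 h7).symm.dvd_of_dvd_mul_right (show _ ∣ 6 * 7 from hX)
  have o3 : ∀ y : X, Odd (orderOf y) → y ≠ 1 → orderOf y = 3 := fun y hy hy1 => by
    have a1 : orderOf y ∣ 3 :=
      (Nat.coprime_two_right.2 hy).dvd_of_dvd_mul_right (show _ ∣ 3 * 2 from (orderOf_dvd_natCard y).trans h6)
    exact ((Nat.dvd_prime Nat.prime_three).1 a1).resolve_left fun e => hy1 (orderOf_eq_one_iff.1 e)
  have all : ∀ x : X, Odd (orderOf x) → x ∈ zpowers ρ := fun x hx => by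
    by_cases e : x = 1
    · exact e ▸ one_mem _
    · exact memp Nat.prime_three (lt_of_le_of_lt (Nat.le_of_dvd (by norm_num) h6) (by norm_num)) (o3 ρ hρ h1)
        (o3 x hx e)
  exact ⟨o3 ρ hρ h1 ▸ pow_orderOf_eq_one ρ, inv ρ hρ (all _ ((oc ρ).symm ▸ hρ)), all⟩

theorem lift {N X : Type*} [Group N] [Finite N] [Group X] (φ : N →* X) (n : N) (h : Odd (orderOf (φ n))) :
    ∃ m, Odd (orderOf m) ∧ φ m = φ n := by
  obtain ⟨a, b, hb, e⟩ := Nat.exists_eq_two_pow_mul_odd (orderOf_pos n).ne'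
  obtain ⟨k, hk⟩ := exists_pow_eq_self_of_coprime ((Nat.coprime_two_left.2 h).pow_left a)
  refine ⟨(n ^ 2 ^ a) ^ k, hb.of_dvd_nat (orderOf_dvd_of_pow_eq_one ?_), by rw [map_pow, map_pow, hk]⟩
  rw [← pow_mul, mul_comm k, pow_mul, ← pow_mul n, ← e, pow_orderOf_eq_one, one_pow]

theorem aut {W : Type*} [CommGroup W] [Finite W] (hW : Nat.card W = 8) (h2 : ∀ w : W, w * w = 1) {α β : MulAut W}
    (h3 : α ^ 3 = 1) (h1 : α ≠ 1) (hi : β * α * β⁻¹ * α = 1) :
    ∃ V : Subgroup W, Nat.card V = 4 ∧ (∀ v ∈ V, β v ∈ V) ∧ (¬ ∀ v ∈ V, β v = v) ∧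
      (∀ γ ∈ zpowers α, ∀ u, γ u * u⁻¹ ∈ V) ∧ ∀ v ∈ V, ∃ u, v = α u * u⁻¹ := by
  classical
  let d : W →* W := α.toMonoidHom / MonoidHom.id W
  have hd : ∀ u, d u = α u * u⁻¹ := fun u => div_eq_mul_inv _ _
  have a3 : ∀ u, α (α (α u)) = u := fun u => by
    have := DFunLike.congr_fun h3 u
    rwa [pow_three] at this
  have ne : ¬ ∀ u, d u = 1 := fun h => h1 (MulEquiv.ext fun u => mul_inv_eq_one.1 ((hd u).symm.trans (h u)))
  have bi : ∀ u, β (α u) = α (α (β u)) := fun u => by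
    have k := DFunLike.congr_fun hi (α (α (β u)))
    simp only [MulAut.mul_apply, MulAut.one_apply, a3, MulAut.inv_apply_self] at k
    exact k
  refine ⟨d.range, ?_, ?_, fun h => ne fun u => ?_, fun γ hγ => ?_, fun v ⟨u, e⟩ => ⟨u, by rw [← e, hd]⟩⟩
  · have := Fintype.ofFinite W
    have : Fact (Nat.Prime 3) := ⟨Nat.prime_three⟩
    have m := Equiv.Perm.card_fixedPoints_modEq (f := (α : W → W)) (p := 3) (n := 1) (funext a3)
    have e : Nat.card d.ker = Fintype.card (Function.fixedPoints (α : W → W)) := by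
      rw [← Nat.card_eq_fintype_card]
      exact Nat.card_congr (Equiv.subtypeEquivRight fun u => by
        rw [MonoidHom.mem_ker, hd, mul_inv_eq_one]; rfl)
    rw [← Nat.card_eq_fintype_card, hW] at m
    replace m : 8 ≡ Nat.card d.ker [MOD 3] := by rw [e]; convert m
    have k := d.ker.card_mul_index
    rw [index_ker, hW] at k
    have k8 : Nat.card d.ker ≠ 8 := fun k8 => ne fun u =>
      MonoidHom.mem_ker.1 ((eq_top_of_card_eq _ (k8.trans hW.symm)).ge (mem_top u))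
    have k9 : Nat.card d.ker ≤ 8 := Nat.le_of_dvd (by norm_num) (Dvd.intro _ k)
    generalize Nat.card d.ker = a at *
    generalize Nat.card d.range = b at *
    unfold Nat.ModEq at m
    interval_cases a <;> omega
  · rintro _ ⟨u, rfl⟩
    refine ⟨(α (α (β u)))⁻¹, ?_⟩
    rw [hd, hd, map_mul, map_inv, map_inv, bi, a3, inv_inv, mul_comm]
  · have f : ∀ v ∈ d.range, α v = v := by
      rintro _ ⟨w, rfl⟩
      have m1 : α (d w) ∈ d.range := ⟨α w, by rw [hd, hd, map_mul, map_inv]⟩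
      have k := bi (d w)
      rw [h _ m1, h _ ⟨w, rfl⟩] at k
      exact (α.injective k).symm
    have k1 := f _ ⟨u, rfl⟩
    have k2 : d u * α (d u) * α (α (d u)) = 1 := by
      simp only [hd, map_mul, map_inv, a3]
      rw [mul_comm (α u), mul_comm (α (α u)), mul_comm u]
      calc _ = u⁻¹ * (α (α u) * (α (α u))⁻¹) * u := by group
        _ = 1 := by group
    rwa [k1, k1, h2, one_mul] at k2
  · obtain ⟨n, rfl⟩ := (Submonoid.mem_powers_iff _ _).1 (mem_powers_iff_mem_zpowers.2 hγ)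
    clear hγ
    induction n with
    | zero => intro u; simp
    | succ n ih =>
      intro u
      rw [pow_succ', MulAut.mul_apply, show α ((α ^ n) u) * u⁻¹ = d ((α ^ n) u) * ((α ^ n) u * u⁻¹) by
        rw [hd]; group]
      exact mul_mem ⟨_, rfl⟩ (ih u)

end U8vx

open U8vx in
theorem u8v (h : LE8.{u}) : U8v.{u} := by
  intro G _ _ U t hU ⟨r, rN, ro, rC⟩ tN tC tt h4
  let ψ := U.normalizerMonoidHom.rangeRestrict
  have hψ : ∀ n : 𝒩(U), ψ n = 1 ↔ (n : G) ∈ 𝒞(U) := fun n => by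
    rw [← mem_subgroupOf, ← normalizerMonoidHom_ker, MonoidHom.mem_ker, Subtype.ext_iff]; rfl
  have hc : Nat.card U.normalizerMonoidHom.range = (𝒞(U)).relIndex 𝒩(U) := by
    rw [← index_ker, normalizerMonoidHom_ker]; rfl
  have h42 : Nat.card U.normalizerMonoidHom.range ∣ 42 := by
    have k := (h G U t r hU tN tC tt rN ro).2.2
    rw [hc]
    generalize (𝒞(U)).relIndex 𝒩(U) = a at *
    have := Nat.le_of_dvd (by norm_num) k
    interval_cases a <;> omega
  have od : ∀ n : 𝒩(U), Odd (orderOf (n : G)) → Odd (orderOf (ψ n)) := fun n hn =>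
    (orderOf_coe n ▸ hn).of_dvd_nat (orderOf_map_dvd ψ n)
  obtain ⟨a1, a2, a3⟩ := abs h42 (τ := ψ ⟨t, tN⟩) (by rw [← map_mul, hψ]; exact tt) (fun x hx => by
    obtain ⟨n, rfl⟩ := U.normalizerMonoidHom.rangeRestrict_surjective x
    obtain ⟨m, mo, e⟩ := lift ψ n hx
    obtain ⟨k1, k2, -⟩ := h G U t m hU tN tC tt m.2 (by rwa [orderOf_coe])
    change (Commute _ (ψ n) → ψ n = 1) ∧ (_ * ψ n * _ * ψ n = 1 → ψ n ^ 3 = 1)
    rw [← e]
    refine ⟨fun c => (hψ m).2 (k1 ((hψ ⁅(⟨t, tN⟩ : 𝒩(U)), m⁆).1 ?_)), fun c => ?_⟩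
    · rw [map_commutatorElement, commutatorElement_eq_one_iff_commute]; exact c
    · rw [← map_inv, ← map_mul, ← map_mul, ← map_mul, hψ] at c
      rw [← map_pow, hψ]
      exact k2 c) (od ⟨r, rN⟩ ro) fun e => rC ((hψ _).1 e)
  let _ : CommGroup U := { (inferInstance : Group U) with mul_comm := fun a b => hU.1.1.is_comm.comm a b }
  obtain ⟨V, v1, v2, v3, v4, v5⟩ := aut (W := U) hU.2 (fun w => Subtype.ext ((pow_two _).symm.trans (hU.1.2 w w.2)))
    (α := (ψ ⟨r, rN⟩).1) (β := (ψ ⟨t, tN⟩).1) (congrArg Subtype.val a1)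
    (fun e => rC ((hψ ⟨r, rN⟩).1 (Subtype.ext e))) (congrArg Subtype.val a2)
  refine ⟨V.map U.subtype, map_subtype_le V, (card_map_of_injective U.subtype_injective).trans v1,
    mem_normalizer_fintype ?_, fun c => v3 fun v hv => Subtype.ext ?_, fun x xN xo u hu => ?_, ?_⟩
  · rintro _ ⟨v, hv, rfl⟩
    exact ⟨_, v2 v hv, rfl⟩
  · exact mul_inv_eq_iff_eq_mul.2 (mem_centralizer_iff.1 c v ⟨v, hv, rfl⟩).symm
  · obtain ⟨k, hk⟩ := mem_zpowers_iff.1 (a3 _ (od ⟨x, xN⟩ xo))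
    exact ⟨_, v4 (ψ ⟨x, xN⟩).1 (mem_zpowers_iff.2 ⟨k, congrArg Subtype.val hk⟩) ⟨u, hu⟩, rfl⟩
  · rintro _ ⟨v, hv, rfl⟩
    obtain ⟨u, rfl⟩ := v5 v hv
    exact ⟨r, rN, ro, u, u.2, rfl⟩

end CL.DG9
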