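/-
Project DG9 (S3645): a group of order 16 acting on a group of order 343.
-/
import Cfsg.Agent.DG9.Defs
import Cfsg.Agent.Grp.Coprime2

set_option autoImplicit false

namespace CL.DG9

open Cfsg Subgroup CL.Grp CL.Loc CL.Even CL.Char
open scoped commutatorElement

universe u

namespace UI7x

variable {G : Type*} [Group G] [Finite G]

theorem burn {P R : Subgroup G} [Fintype R] (h : R ≤ 𝒩(P)) :
    Nat.card R ∣ ∑ r : R, Nat.card (P ⊓ centralizer {(r : G)} : Subgroup G) := by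
  classical
  letI : MulAction R P := MulAction.compHom P (inclusion h)
  have := Fintype.ofFinite P
  have := Fintype.ofFinite (Quotient (MulAction.orbitRel R P))
  have e := MulAction.sum_card_fixedBy_eq_card_orbits_mul_card_group R P
  rw [Nat.card_eq_fintype_card]
  refine ⟨_, Eq.trans (Finset.sum_congr rfl fun r _ => ?_) (e.trans (mul_comm _ _))⟩
  rw [← Nat.card_eq_fintype_card]
  have k : ∀ x : P, x ∈ MulAction.fixedBy P r ↔ (x : G) ∈ centralizer ({(r : G)} : Set G) := fun x => by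
    rw [MulAction.mem_fixedBy, Subtype.ext_iff, mem_centralizer_singleton_iff]
    change (r : G) * x * (r : G)⁻¹ = x ↔ _
    rw [mul_inv_eq_iff_eq_mul, eq_comm]
  exact Nat.card_congr ⟨fun x => ⟨⟨x, x.2.1⟩, (k _).2 x.2.2⟩, fun x => ⟨x.1, x.1.2, (k _).1 x.2⟩, fun _ => rfl,
    fun _ => rfl⟩

theorem four {P L K : Subgroup G} {t v : G} (ho : (Nat.card K).Coprime (Nat.card P)) (tt : t * t = 1) (vv : v * v = 1)
    (c : v * t = t * v) (t1 : t ≠ 1) (v1 : v ≠ 1) (tv : v ≠ t) (hK : K ≤ 𝒩(P)) (tK : t ∈ K) (vK : v ∈ K)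
    (hL : ∀ a ∈ K, a * a = 1 → a ≠ 1 → P ⊓ centralizer {a} ≤ L) : P ≤ L := by
  have hA : closure ({t, v} : Set G) ≤ K := (closure_le K).2 (by rintro _ (rfl | rfl) <;> assumption)
  have hc : IsMulCommutative (closure ({t, v} : Set G)) := isMulCommutative_closure (by
    rintro _ (rfl | rfl) _ (rfl | rfl)
    exacts [rfl, c.symm, c, rfl])
  have h2 : ∀ a ∈ closure ({t, v} : Set G), a * a = 1 := fun a ha => by
    induction ha using closure_induction with
    | mem x hx => rcases hx with rfl | rfl <;> assumption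
    | one => exact one_mul 1
    | mul x y hx hy ex ey =>
      have e : y * x = x * y := congrArg Subtype.val (hc.is_comm.comm ⟨y, hy⟩ ⟨x, hx⟩)
      rw [mul_assoc, ← mul_assoc y, e, mul_assoc, ey, mul_one, ex]
    | inv x _ ex => rw [← mul_inv_rev, ex, inv_one]
  refine le_of_forall_centralizer_le (A := closure ({t, v} : Set G)) (fun hcy => ?_) (hA.trans hK)
    (ho.coprime_dvd_left (card_dvd_of_le hA)) fun a ha a1 => hL a (hA ha) (h2 a ha) a1
  obtain ⟨g, hg⟩ := hcy.exists_generator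
  have e2 : g ^ (2 : ℤ) = 1 := Subtype.ext (by rw [zpow_two]; exact h2 g g.2)
  have k : ∀ x : closure ({t, v} : Set G), x ≠ 1 → x = g := fun x x1 => by
    obtain ⟨k, rfl⟩ := hg x
    rcases Int.even_or_odd' k with ⟨j, rfl | rfl⟩
    · exact absurd (by simp only [zpow_mul, e2, one_zpow]) x1
    · simp only [zpow_add, zpow_mul, e2, one_zpow, one_mul, zpow_one]
  exact tv (congrArg Subtype.val ((k ⟨v, subset_closure (Or.inr rfl)⟩ fun e => v1 (congrArg Subtype.val e)).trans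
    (k ⟨t, subset_closure (Or.inl rfl)⟩ fun e => t1 (congrArg Subtype.val e)).symm))

theorem idx {L R : Subgroup G} (hL : Nat.card L = 7) (h : R ≤ 𝒩(L)) : (𝒞(L)).relIndex R ∣ 6 := by
  have : Fact (Nat.Prime 7) := ⟨by norm_num⟩
  have := isCyclic_of_prime_card hL
  have e : Nat.card (MulAut L) = 6 := by rw [IsCyclic.card_mulAut, hL, Nat.totient_prime (by norm_num)]
  have e2 : (L.normalizerMonoidHom.comp (inclusion h)).ker = (𝒞(L)).subgroupOf R := by
    rw [← MonoidHom.comap_ker, normalizerMonoidHom_ker]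
    rfl
  rw [relIndex, ← e2, index_ker, ← e]
  exact card_subgroup_dvd_card _

theorem invol {x : G} (h1 : x ≠ 1) (h : orderOf x ∣ 16) : ∃ t ∈ zpowers x, orderOf t = 2 := by
  have h2 : 2 ∣ Nat.card (zpowers x) := by
    rw [Nat.card_zpowers]
    obtain ⟨j, -, hj⟩ := (Nat.dvd_prime_pow Nat.prime_two (m := 4)).1 h
    rcases j with _ | j
    · exact absurd (orderOf_eq_one_iff.1 hj) h1
    · exact hj ▸ dvd_pow_self 2 j.succ_ne_zero
  obtain ⟨t, ht⟩ := exists_prime_orderOf_dvd_card' 2 h2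
  exact ⟨t, t.2, (orderOf_coe t).trans ht⟩

theorem cinv {R : Subgroup G} (hR : Nat.card R = 16) : ∃ t ∈ R, orderOf t = 2 ∧ ∀ s ∈ R, s * t = t * s := by
  have : Nontrivial R := Finite.one_lt_card_iff_nontrivial.1 (by omega)
  have hp : IsPGroup 2 R := IsPGroup.of_card (n := 4) hR
  have := hp.center_nontrivial
  obtain ⟨⟨z, hz⟩, z1⟩ := exists_ne (1 : center R)
  obtain ⟨t, ⟨k, rfl⟩, ht⟩ := invol (x := (z : G)) (fun e => z1 (Subtype.ext (Subtype.ext e)))
    (hR ▸ R.orderOf_dvd_natCard z.2)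
  exact ⟨_, zpow_mem z.2 k, ht, fun s hs =>
    ((show Commute s (z : G) from congrArg Subtype.val (mem_center_iff.1 hz ⟨s, hs⟩)).zpow_right k).eq⟩

end UI7x

theorem ui7 : UI7.{u} := by
  intro G _ _ P R hP hR hN h7 h8
  classical
  obtain ⟨t, tR, t2, ct⟩ := UI7x.cinv hR
  have sq : ∀ {a : G}, orderOf a = 2 → a * a = 1 := fun {a} e => by rw [← pow_two, ← e, pow_orderOf_eq_one]
  have ne1 : ∀ {a : G}, orderOf a = 2 → a ≠ 1 := fun {a} e e1 => by simp [e1] at e
  have o2 : ∀ {a : G}, a * a = 1 → a ≠ 1 → orderOf a = 2 := fun {a} e e1 => orderOf_eq_prime (by rw [pow_two, e]) e1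
  obtain ⟨L, hLd⟩ : ∃ L, L = P ⊓ centralizer {t} := ⟨_, rfl⟩
  have hL : Nat.card L = 7 := hLd ▸ h7 t tR t2
  have LP : L ≤ P := hLd ▸ inf_le_left
  have RL : R ≤ 𝒩(L) := hLd ▸ le_norm_inf hN (le_norm_of_le fun s hs => mem_centralizer_singleton_iff.2 (ct s hs))
  have tC : t ∈ 𝒞(L) := fun x hx => mem_centralizer_singleton_iff.1 (hLd ▸ hx).2
  have le1 : ∀ k ∈ 𝒞(L), L ≤ P ⊓ centralizer {k} := fun k hk x hx =>
    ⟨LP hx, mem_centralizer_singleton_iff.2 (hk x hx)⟩
  have eq1 : ∀ a ∈ R ⊓ 𝒞(L), a * a = 1 → a ≠ 1 → P ⊓ centralizer {a} ≤ L := fun a ha aa a1 =>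
    (eq_of_le_of_card_ge (le1 a ha.2) (by rw [hL, h7 a ha.1 (o2 aa a1)])).ge
  have uq : ∀ v ∈ R, v ∈ 𝒞(L) → orderOf v = 2 → v = t := fun v vR vC v2 => by
    by_contra vt
    have := card_le_of_le (UI7x.four (K := R ⊓ 𝒞(L)) (L := L) (Nat.Coprime.coprime_dvd_left (card_dvd_of_le inf_le_left)
      (by rw [hR, hP]; norm_num)) (sq t2) (sq v2) (ct v vR) (ne1 t2) (ne1 v2) vt (inf_le_left.trans hN) ⟨tR, tC⟩
      ⟨vR, vC⟩ eq1)
    omega
  refine ⟨t, tR, fun s sR => ⟨fun s2 => uq s sR ?_ s2, fun e => e ▸ t2⟩⟩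
  by_contra sC
  have i2 : (𝒞(L)).relIndex R = 2 := by
    have h1 := UI7x.idx hL RL
    have h2 : (𝒞(L)).relIndex R ∣ 16 := hR ▸ relIndex_dvd_card _ _
    have h3 : (𝒞(L)).relIndex R ≠ 1 := fun e => sC (relIndex_eq_one.1 e sR)
    exact ((Nat.dvd_prime Nat.prime_two).1 (Nat.dvd_gcd h1 h2)).resolve_left h3
  have c8 : Nat.card ((𝒞(L)).subgroupOf R) = 8 := by
    have := ((𝒞(L)).subgroupOf R).card_mul_index
    rw [hR, show ((𝒞(L)).subgroupOf R).index = 2 from i2] at this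
    omega
  have eqK : ∀ k ∈ R, k ∈ 𝒞(L) → k ≠ 1 → P ⊓ centralizer {k} = L := fun k kR kC k1 => by
    refine le_antisymm ?_ (le1 k kC)
    obtain ⟨v, ⟨j, rfl⟩, v2⟩ := UI7x.invol k1 (hR ▸ R.orderOf_dvd_natCard kR)
    have e := uq _ (zpow_mem kR j) (zpow_mem kC j) v2
    rw [hLd, ← e]
    exact fun x hx => ⟨hx.1, mem_centralizer_singleton_iff.2
      ((show Commute x k from mem_centralizer_singleton_iff.1 hx.2).zpow_right j).eq⟩
  have := Fintype.ofFinite R
  let A : Finset R := Finset.univ.filter fun r => (r : G) ∈ 𝒞(L) ∨ orderOf (r : G) = 2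
  have val : ∀ r : R, Nat.card (P ⊓ centralizer {(r : G)} : Subgroup G) =
      1 + 6 * (if r ∈ A then 1 else 0) + 336 * (if r = 1 then 1 else 0) := fun r => by
    by_cases r1 : r = 1
    · subst r1
      have : (1 : R) ∈ A := Finset.mem_filter.2 ⟨Finset.mem_univ _, Or.inl (one_mem _)⟩
      rw [if_pos this, if_pos rfl, inf_eq_left.2 fun x _ => mem_centralizer_singleton_iff.2 (by simp), hP]
    have r1' : (r : G) ≠ 1 := fun e => r1 (Subtype.ext e)
    rw [if_neg r1]
    by_cases rA : r ∈ A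
    · rw [if_pos rA]
      rcases (Finset.mem_filter.1 rA).2 with e | e
      · rw [eqK r r.2 e r1', hL]
      · rw [h7 r r.2 e]
    · rw [if_neg rA]
      have n1 : (r : G) ∉ 𝒞(L) := fun e => rA (Finset.mem_filter.2 ⟨Finset.mem_univ _, Or.inl e⟩)
      have n2 : (r : G) * r ≠ 1 := fun e => rA (Finset.mem_filter.2 ⟨Finset.mem_univ _, Or.inr (o2 e r1')⟩)
      have n3 : (r : G) * r ∈ 𝒞(L) := mul_self_mem_of_index_two (H := (𝒞(L)).subgroupOf R) i2 r
      have n4 : P ⊓ centralizer {(r : G)} ≤ L := by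
        rw [← eqK _ (mul_mem r.2 r.2) n3 n2]
        exact fun x hx => ⟨hx.1, mem_centralizer_singleton_iff.2
          ((show Commute x r from mem_centralizer_singleton_iff.1 hx.2).mul_right
            (mem_centralizer_singleton_iff.1 hx.2)).eq⟩
      refine ((Nat.dvd_prime (by norm_num : Nat.Prime 7)).1 (hL ▸ card_dvd_of_le n4)).resolve_right fun e => n1 ?_
      have e2 := eq_of_le_of_card_ge n4 (by rw [e, hL])
      exact fun x hx => mem_centralizer_singleton_iff.1 (e2.ge hx).2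
  have hb := UI7x.burn hN
  simp only [val, Finset.sum_add_distrib, ← Finset.mul_sum, Finset.sum_const, Finset.card_univ, smul_eq_mul, mul_one,
    Finset.sum_ite_mem, Finset.univ_inter, Finset.sum_ite_eq', Finset.mem_univ, if_true] at hb
  rw [← Nat.card_eq_fintype_card, hR] at hb
  let K : Finset R := Finset.univ.filter fun r => (r : G) ∈ 𝒞(L)
  let I : Finset R := Finset.univ.filter fun r => orderOf (r : G) = 2
  have cK : K.card = 8 := by
    rw [← c8, Nat.card_eq_fintype_card]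
    exact (Fintype.card_subtype _).symm
  have cI : I.card ≤ 8 := by
    refine le_trans (le_of_eq ?_) h8
    rw [← Fintype.card_subtype, ← Nat.card_eq_fintype_card]
    exact Nat.card_congr ⟨fun x => ⟨x.1, x.2, x.1.2⟩, fun x => ⟨⟨x.1, x.2.2⟩, x.2.1⟩, fun _ => rfl, fun _ => rfl⟩
  have eA : A = K ∪ I := Finset.filter_or _ _ _
  have c1 := Finset.card_union_add_card_inter K I
  have c2 : 0 < (K ∩ I).card := Finset.card_pos.2 ⟨⟨t, tR⟩, Finset.mem_inter.2
    ⟨Finset.mem_filter.2 ⟨Finset.mem_univ _, tC⟩, Finset.mem_filter.2 ⟨Finset.mem_univ _, t2⟩⟩⟩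
  have c3 : K.card < (K ∪ I).card := Finset.card_lt_card ⟨Finset.subset_union_left, fun e =>
    sC (Finset.mem_filter.1 (e (Finset.mem_union_right _ (Finset.mem_filter.2
      ⟨Finset.mem_univ (⟨s, sR⟩ : R), s2⟩)))).2⟩
  rw [eA] at hb
  omega

end CL.DG9
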